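import Cfsg.Agent.Lib.Invol.JTwo.Coords

/-!
# Involutions of the centralizer
-/

set_option autoImplicit false

namespace CfsgLib.Invol.JTwo

open Subgroup

local notation "A" => alternatingGroup (Fin 5)

variable {G : Type*} [Group G]

/-- The orbit formula for a subgroup acting by conjugation. -/
theorem card_orbit_mul [Finite G] (D : Subgroup G) (x : G) :
    Nat.card {y : G // ∃ c ∈ D, c * x * c⁻¹ = y} * Nat.card (D ⊓ centralizer ({x} : Set G) : Subgroup G) =
      Nat.card D := by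
  letI : MulAction D G :=
    { smul := fun d a => (d : G) * a * (d : G)⁻¹
      one_smul := fun a => by show ((1 : D) : G) * a * ((1 : D) : G)⁻¹ = a; simp
      mul_smul := fun d e a => by
        show ((d * e : D) : G) * a * ((d * e : D) : G)⁻¹ = (d : G) * ((e : G) * a * (e : G)⁻¹) * (d : G)⁻¹
        rw [coe_mul]; group }
  have h := (MulAction.stabilizer D x).card_mul_index
  rw [MulAction.index_stabilizer, mul_comm, ← Nat.card_coe_set_eq] at h
  refine Eq.trans (congrArg₂ (· * ·) (Nat.card_congr (Equiv.subtypeEquivRight fun y => ?_))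
    (Nat.card_congr ?_)) h
  · exact ⟨fun ⟨c, hc, e⟩ => ⟨⟨c, hc⟩, e⟩, fun ⟨c, e⟩ => ⟨c, c.2, e⟩⟩
  · exact
      { toFun := fun a => ⟨⟨a.1, a.2.1⟩, by
          show a.1 * x * a.1⁻¹ = x
          rw [mem_centralizer_singleton_iff.1 a.2.2, mul_inv_cancel_right]⟩
        invFun := fun d => ⟨d.1.1, d.1.2, mem_centralizer_singleton_iff.2
          (mul_inv_eq_iff_eq_mul.1 (show (d.1 : G) * x * (d.1 : G)⁻¹ = x from d.2))⟩
        left_inv := fun a => rfl
        right_inv := fun d => rfl }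

/-- An involution of the centralizer outside the extraspecial group. -/
def Out (z : G) (Q : Subgroup G) (x : G) : Prop :=
  x ∈ centralizer ({z} : Set G) ∧ x ∉ Q ∧ x * x = 1

theorem Out.ne_one {z : G} {Q : Subgroup G} {x : G} (hx : Out z Q x) : x ≠ 1 :=
  fun e => hx.2.1 (e ▸ Q.one_mem)

theorem Out.order {z : G} {Q : Subgroup G} {x : G} (hx : Out z Q x) : orderOf x = 2 :=
  orderOf_eq_prime (by rw [sq]; exact hx.2.2) hx.ne_one

namespace PreHyp

variable {z : G} {Q : Subgroup G} (h : PreHyp z Q) (F : Frame z Q)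
include h

theorem mul_z_inv {a : G} (ha : a ∈ Q) (haa : a * a = 1) : a * z * (a * z) = 1 := by
  calc a * z * (a * z) = a * (z * a) * z := by group
    _ = a * a * (z * z) := by rw [← h.z_comm ha]; group
    _ = 1 := by rw [haa, h.zz, one_mul]

theorem card_sub [Finite G] {D : Subgroup G} (hD : D ≤ centralizer ({z} : Set G)) :
    Nat.card D = Nat.card (D ⊓ Q : Subgroup G) *
      Nat.card ((D.subgroupOf (centralizer ({z} : Set G))).map F.π) := by
  set E := D.subgroupOf (centralizer ({z} : Set G))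
  let ψ := F.π.comp E.subtype
  have h1 := ψ.ker.card_mul_index
  have h2 : ψ.range = E.map F.π := by rw [MonoidHom.range_comp, range_subtype]
  rw [index_ker, h2] at h1
  rw [← Nat.card_congr (subgroupOfEquivOfLe hD).toEquiv, ← h1]
  congr 1
  exact Nat.card_congr
    { toFun := fun a => ⟨((a.1 : ↥(centralizer ({z} : Set G))) : G), a.1.2, (F.ker _).1 a.2⟩
      invFun := fun b => ⟨⟨⟨b.1, hD b.2.1⟩, b.2.1⟩, (F.ker ⟨b.1, hD b.2.1⟩).2 b.2.2⟩
      left_inv := fun a => rfl
      right_inv := fun b => rfl }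

/-- The elements of `Q` of order at most two. -/
theorem invol_cases {q : G} (hq : q ∈ Q) (hqq : q * q = 1) :
    q = 1 ∨ q = z ∨ ∃ k, q = F.p k ∨ q = F.p k * z := by
  by_cases h1 : q = 1
  · exact Or.inl h1
  by_cases h2 : q = z
  · exact Or.inr (Or.inl h2)
  exact Or.inr (Or.inr (F.all q hq hqq h1 h2))

/-- Swap a point with its translate. -/
theorem exists_swap (i : Fin 5) : ∃ q ∈ Q, q * F.p i * q⁻¹ = F.p i * z := by
  obtain ⟨j, hj⟩ : ∃ j : Fin 5, j ≠ i := exists_ne i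
  refine ⟨F.p j, F.mem j, ?_⟩
  rw [(h.comm _ (F.mem j) _ (F.mem i)).resolve_left (F.noncomm j i hj), ← mul_assoc, ← h.z_comm (F.mem i)]
  group

/-- Lift a stabilising permutation to an element centralizing the point. -/
theorem exists_lift (g : A) (i : Fin 5) (hi : AltFive.act g i = i) :
    ∃ c : ↥(centralizer ({z} : Set G)), F.π c = g ∧ (c : G) * F.p i = F.p i * (c : G) := by
  obtain ⟨c, rfl⟩ := F.surj g
  rcases F.equi c i with e | e <;> rw [hi] at e
  · exact ⟨c, rfl, mul_inv_eq_iff_eq_mul.1 e⟩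
  · obtain ⟨q, hq, hqi⟩ := h.exists_swap F i
    refine ⟨c * ⟨q, h.le hq⟩, ?_, mul_inv_eq_iff_eq_mul.1 ?_⟩
    · rw [map_mul, (F.ker ⟨q, h.le hq⟩).2 hq, mul_one]
    · rw [coe_mul, show (c : G) * q * F.p i * ((c : G) * q)⁻¹ = (c : G) * (q * F.p i * q⁻¹) * (c : G)⁻¹ by group,
        hqi, show (c : G) * (F.p i * z) * (c : G)⁻¹ = (c : G) * F.p i * (c : G)⁻¹ * ((c : G) * z * (c : G)⁻¹) by group,
        e, mem_centralizer_singleton_iff.1 c.2, mul_inv_cancel_right, mul_assoc, h.zz, mul_one]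

/-- The centralizer of a point in `C(z)` and in `Q`. -/
theorem card_point [Finite G] (i : Fin 5) :
    Nat.card (Q ⊓ centralizer ({F.p i} : Set G) : Subgroup G) = 16 ∧
    Nat.card (centralizer ({z} : Set G) ⊓ centralizer ({F.p i} : Set G) : Subgroup G) = 192 := by
  classical
  have h16 : Nat.card (Q ⊓ centralizer ({F.p i} : Set G) : Subgroup G) = 16 := by
    have hc := h.count F (fun v => v i = false)
    rw [AltFive.even_zero_at] at hc
    rw [← show Nat.card {q : G // q ∈ Q ∧ F.chi q i = false} = 16 from hc]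
    exact Nat.card_congr (Equiv.subtypeEquivRight fun q => by
      rw [mem_inf, mem_centralizer_singleton_iff]
      exact and_congr Iff.rfl nc_eq_false.symm)
  refine ⟨h16, ?_⟩
  set D := centralizer ({z} : Set G) ⊓ centralizer ({F.p i} : Set G) with hD
  rw [h.card_sub F (inf_le_left : D ≤ _)]
  have e1 : D ⊓ Q = Q ⊓ centralizer ({F.p i} : Set G) := by
    ext q; simp only [hD, mem_inf]
    exact ⟨fun a => ⟨a.2, a.1.2⟩, fun a => ⟨⟨h.le a.1, a.2⟩, a.1⟩⟩
  rw [e1, h16]
  have e2 : Nat.card ((D.subgroupOf (centralizer ({z} : Set G))).map F.π) =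
      Nat.card {g : A // AltFive.act g i = i} := by
    refine Nat.card_congr (Equiv.subtypeEquivRight fun g => ?_)
    constructor
    · rintro ⟨c, hc, rfl⟩
      have hcp : (c : G) * F.p i * (c : G)⁻¹ = F.p i := by
        rw [mem_centralizer_singleton_iff.1 (mem_subgroupOf.1 hc).2, mul_inv_cancel_right]
      by_contra hne
      rcases F.equi c i with e | e <;> rw [hcp] at e
      · exact F.noncomm _ _ (Ne.symm hne) (by rw [← e])
      · refine F.noncomm _ _ (Ne.symm hne) ?_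
        rw [e, mul_assoc, ← h.z_comm (F.mem _)]
    · intro hg
      obtain ⟨c, hc, hcp⟩ := h.exists_lift F g i hg
      exact ⟨c, mem_subgroupOf.2 ⟨c.2, mem_centralizer_singleton_iff.2 hcp⟩, hc⟩
  rw [e2, Nat.card_eq_fintype_card, AltFive.stab_card]

/-- The centralizer is transitive on the noncentral involutions of `Q`. -/
theorem exists_conj_point (i : Fin 5) {u : G} (hu : u ∈ Q) (huu : u * u = 1) (hu1 : u ≠ 1) (huz : u ≠ z) :
    ∃ c ∈ centralizer ({z} : Set G), c * F.p i * c⁻¹ = u := by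
  obtain ⟨j, hj⟩ := F.all u hu huu hu1 huz
  obtain ⟨g, hg⟩ := AltFive.transitive i j
  obtain ⟨c, hc⟩ := F.surj g
  obtain ⟨q, hq, hqj⟩ := h.exists_swap F j
  have hcz : ∀ d ∈ centralizer ({z} : Set G), d * z * d⁻¹ = z := fun d hd => by
    rw [mem_centralizer_singleton_iff.1 hd, mul_inv_cancel_right]
  have key : ∀ v, (v = F.p j ∨ v = F.p j * z) → ∀ w, (w = F.p j ∨ w = F.p j * z) →
      ∃ d ∈ centralizer ({z} : Set G), d * v * d⁻¹ = w := by
    rintro v (rfl | rfl) w (rfl | rfl)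
    · exact ⟨1, one_mem _, by simp⟩
    · exact ⟨q, h.le hq, hqj⟩
    · refine ⟨q, h.le hq, ?_⟩
      rw [show q * (F.p j * z) * q⁻¹ = q * F.p j * q⁻¹ * (q * z * q⁻¹) by group, hqj, hcz q (h.le hq),
        mul_assoc, h.zz, mul_one]
    · exact ⟨1, one_mem _, by simp⟩
  have he : (c : G) * F.p i * (c : G)⁻¹ = F.p j ∨ (c : G) * F.p i * (c : G)⁻¹ = F.p j * z := by
    rw [← hg, ← hc]; exact F.equi c i
  obtain ⟨d, hd, hde⟩ := key _ he u hj
  exact ⟨d * c, mul_mem hd c.2, by rw [← hde]; group⟩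

theorem pi_invol {x : G} (hx : Out z Q x) :
    F.π ⟨x, hx.1⟩ * F.π ⟨x, hx.1⟩ = 1 ∧ F.π ⟨x, hx.1⟩ ≠ 1 := by
  refine ⟨?_, fun e => hx.2.1 ((F.ker _).1 e)⟩
  rw [← map_mul, show (⟨x, hx.1⟩ : ↥(centralizer ({z} : Set G))) * ⟨x, hx.1⟩ = 1 from Subtype.ext hx.2.2,
    map_one]

/-- An outer involution inverts what it fixes modulo `z`. -/
theorem inverts {x : G} (hx : Out z Q x) {q : G} (hq : q ∈ Q)
    (hfix : AltFive.Fix (F.π ⟨x, hx.1⟩) (F.chi q)) : x * q * x = q⁻¹ := by
  classical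
  set g := F.π ⟨x, hx.1⟩ with hgdef
  obtain ⟨hg, hg1⟩ := h.pi_invol F hx
  have hxx : x⁻¹ = x := inv_eq_of_mul_eq_one_right hx.2.2
  have hxq : ∀ {b : G}, b ∈ Q → x * b * x ∈ Q := fun {b} hb => by
    have := h.nrm x hx.1 b hb; rwa [hxx] at this
  have hxz : x * z * x = z := by rw [mem_centralizer_singleton_iff.1 hx.1, mul_assoc, hx.2.2, mul_one]
  let n : Fin 5 → G := fun j => F.p j * (x * F.p j * x)
  have hnQ : ∀ j, n j ∈ Q := fun j => mul_mem (F.mem j) (hxq (F.mem j))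
  have hninv : ∀ j, x * n j * x = (n j)⁻¹ := fun j => by
    refine (inv_eq_of_mul_eq_one_right ?_).symm
    show F.p j * (x * F.p j * x) * (x * (F.p j * (x * F.p j * x)) * x) = 1
    calc _ = F.p j * x * F.p j * (x * x) * F.p j * x * F.p j * (x * x) := by group
      _ = F.p j * x * (F.p j * F.p j) * x * F.p j := by rw [hx.2.2]; group
      _ = F.p j * (x * x) * F.p j := by rw [F.inv]; group
      _ = 1 := by rw [hx.2.2, mul_one, F.inv]
  have hmove : ∀ j, F.chi (x * F.p j * x) = AltFive.co (AltFive.act g j) := fun j => by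
    have e := F.equi ⟨x, hx.1⟩ j
    rw [show ((⟨x, hx.1⟩ : ↥(centralizer ({z} : Set G))) : G) = x from rfl, hxx] at e
    rcases e with e | e <;> rw [e]
    · exact F.chi_p _
    · rw [h.chi_mul_z F (F.mem _)]; exact F.chi_p _
  have hnchi : ∀ j k, F.chi (n j) k = (AltFive.co j k ^^ AltFive.co (AltFive.act g j) k) := fun j k => by
    rw [h.chi_mul F (F.mem j) (hxq (F.mem j)), F.chi_p, hmove]
  have hcomm : ∀ j l, n j * n l = n l * n j := fun j l => nc_eq_false.1 (by
    rw [nc_symm]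
    show nc (F.p l * (x * F.p l * x)) (n j) = false
    rw [h.nc_mul (F.mem l) (hxq (F.mem l)) (hnQ j), nc_symm (F.p l), nc_symm (x * _ * x)]
    have e : nc (n j) (x * F.p l * x) = F.chi (n j) (AltFive.act g l) := by
      have e := F.equi ⟨x, hx.1⟩ l
      rw [show ((⟨x, hx.1⟩ : ↥(centralizer ({z} : Set G))) : G) = x from rfl, hxx] at e
      rcases e with e | e <;> rw [e]
      · rfl
      · rw [nc_symm, h.nc_mul (F.mem _) h.zmem (hnQ j), h.nc_z (hnQ j), Bool.xor_false, nc_symm]; rfl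
    rw [e]
    show (F.chi (n j) l ^^ _) = false
    rw [hnchi, hnchi]
    exact AltFive.invol_span_commute g hg j l)
  -- reduce to a representative
  have hred : ∀ r ∈ Q, F.chi r = F.chi q → x * r * x = r⁻¹ → x * q * x = q⁻¹ := by
    intro r hr e hri
    rcases h.eq_or_of_chi F hr hq e with e' | e' <;> rw [e']
    · exact hri
    · rw [show x * (r * z) * x = x * r * (x * x) * z * x by rw [hx.2.2]; group,
        show x * r * (x * x) * z * x = x * r * x * (x * z * x) by group, hri, hxz, _root_.mul_inv_rev,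
        inv_eq_of_mul_eq_one_right h.zz, h.z_comm (inv_mem hr)]
  rcases AltFive.invol_fix_span g hg hg1 _ (h.chi_even F hq) hfix with e | ⟨j, e⟩ | ⟨j, l, e⟩
  · refine hred 1 Q.one_mem (funext fun k => ?_) (by rw [mul_one, hx.2.2, inv_one])
    rw [h.chi_one, e k]
  · exact hred (n j) (hnQ j) (funext fun k => by rw [hnchi, e k]) (hninv j)
  · refine hred (n j * n l) (mul_mem (hnQ j) (hnQ l))
      (funext fun k => by rw [h.chi_mul F (hnQ j) (hnQ l), hnchi, hnchi, e k]) ?_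
    calc x * (n j * n l) * x = x * n j * (x * x) * n l * x := by rw [hx.2.2]; group
      _ = (x * n j * x) * (x * n l * x) := by group
      _ = (n l * n j)⁻¹ := by rw [hninv, hninv]; exact (_root_.mul_inv_rev _ _).symm
      _ = (n j * n l)⁻¹ := by rw [hcomm]

/-- An outer involution centralizes its fixed point. -/
theorem commute_point {x : G} (hx : Out z Q x) {i : Fin 5}
    (hi : AltFive.act (F.π ⟨x, hx.1⟩) i = i) : x * F.p i = F.p i * x := by
  have e : x * F.p i * x = (F.p i)⁻¹ := by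
    refine h.inverts F hx (F.mem i) fun k => ?_
    rw [F.chi_p]
    refine decide_eq_decide.2 (not_congr ⟨fun e => ?_, fun e => ?_⟩)
    · exact (F.π ⟨x, hx.1⟩ : Equiv.Perm (Fin 5)).injective (hi.trans e)
    · rw [← e]; exact hi.symm
  calc x * F.p i = x * F.p i * (x * x) := by rw [hx.2.2, mul_one]
    _ = (x * F.p i * x) * x := by group
    _ = F.p i * x := by rw [e, inv_eq_of_mul_eq_one_right (F.inv i)]

/-- The centralizer of an outer involution in `Q`. -/
theorem inf_outer {x : G} (hx : Out z Q x) {i : Fin 5} (hi : AltFive.act (F.π ⟨x, hx.1⟩) i = i)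
    (q : G) : (q ∈ Q ∧ q * x = x * q) ↔ q = 1 ∨ q = z ∨ q = F.p i ∨ q = F.p i * z := by
  obtain ⟨hg, hg1⟩ := h.pi_invol F hx
  have hpx := h.commute_point F hx hi
  constructor
  · rintro ⟨hq, hqx⟩
    have hfix : AltFive.Fix (F.π ⟨x, hx.1⟩) (F.chi q) :=
      (h.fix_mod_iff F ⟨x, hx.1⟩ hq).1 (Or.inl (by
        show x * q * x⁻¹ = q
        rw [← hqx, mul_inv_cancel_right]))
    have hqq : q * q = 1 := by
      have e := h.inverts F hx hq hfix
      rw [← hqx, mul_assoc, hx.2.2, mul_one] at e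
      calc q * q = q⁻¹ * q := by rw [← e]
        _ = 1 := inv_mul_cancel q
    rcases h.invol_cases F hq hqq with e | e | ⟨k, hk⟩
    · exact Or.inl e
    · exact Or.inr (Or.inl e)
    · have hchi : F.chi q = AltFive.co k := by
        rcases hk with e | e <;> rw [e]
        · exact F.chi_p k
        · rw [h.chi_mul_z F (F.mem k)]; exact F.chi_p k
      have hk' := AltFive.fix_co (F.π ⟨x, hx.1⟩) k (hchi ▸ hfix)
      obtain ⟨i', -, hu⟩ := AltFive.invol_fixed _ hg hg1
      obtain rfl : k = i := (hu k hk').trans (hu i hi).symm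
      exact Or.inr (Or.inr hk)
  · have hxz := mem_centralizer_singleton_iff.1 hx.1
    rintro (rfl | rfl | rfl | rfl)
    · exact ⟨Q.one_mem, by simp⟩
    · exact ⟨h.zmem, hxz.symm⟩
    · exact ⟨F.mem i, hpx.symm⟩
    · exact ⟨mul_mem (F.mem i) h.zmem, by rw [← mul_assoc x, hpx, mul_assoc, ← hxz]; group⟩

section finite

variable [Finite G]

theorem card_inf_outer {x : G} (hx : Out z Q x) :
    Nat.card (Q ⊓ centralizer ({x} : Set G) : Subgroup G) = 4 := by
  classical
  obtain ⟨F⟩ := h.exists_frame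
  obtain ⟨hg, hg1⟩ := h.pi_invol F hx
  obtain ⟨i, hi, -⟩ := AltFive.invol_fixed _ hg hg1
  have hs : ((Q ⊓ centralizer ({x} : Set G) : Subgroup G) : Set G) = {1, z, F.p i, F.p i * z} := by
    ext q
    simp only [SetLike.mem_coe, mem_inf, mem_centralizer_singleton_iff, Set.mem_insert_iff,
      Set.mem_singleton_iff]
    exact h.inf_outer F hx hi q
  rw [← SetLike.coe_sort_coe, Nat.card_coe_set_eq, hs]
  have n1 : F.p i * z ≠ 1 := fun e => F.ne_z i (by
    calc F.p i = F.p i * z * z := by rw [mul_assoc, h.zz, mul_one]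
      _ = z := by rw [e, one_mul])
  have n2 : F.p i * z ≠ z := fun e => F.ne_one i (mul_eq_right.1 e)
  have n3 : F.p i * z ≠ F.p i := fun e => h.z_ne (mul_eq_left.1 e)
  rw [Set.ncard_insert_of_notMem, Set.ncard_insert_of_notMem, Set.ncard_pair n3.symm]
  · simp only [Set.mem_insert_iff, Set.mem_singleton_iff, not_or]
    exact ⟨(F.ne_z i).symm, n2.symm⟩
  · simp only [Set.mem_insert_iff, Set.mem_singleton_iff, not_or]
    exact ⟨h.z_ne.symm, (F.ne_one i).symm, n1.symm⟩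

/-- Eight involutions in each outer coset. -/
theorem card_fiber {x : G} (hx : Out z Q x) :
    Nat.card {y : G // ∃ hy : Out z Q y, F.π ⟨y, hy.1⟩ = F.π ⟨x, hx.1⟩} = 8 := by
  classical
  obtain ⟨hg, hg1⟩ := h.pi_invol F hx
  have hc := h.count F (fun v => AltFive.Fix (F.π ⟨x, hx.1⟩) v)
  rw [AltFive.invol_fix_card _ hg hg1] at hc
  rw [← show Nat.card {q : G // q ∈ Q ∧ AltFive.Fix (F.π ⟨x, hx.1⟩) (F.chi q)} = 8 from hc]
  have hxx : x⁻¹ = x := inv_eq_of_mul_eq_one_right hx.2.2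
  refine Nat.card_congr
    { toFun := fun y => ⟨x * y.1, ?_⟩
      invFun := fun q => ⟨x * q.1, ?_⟩
      left_inv := fun y => Subtype.ext (((mul_assoc x x y.1).symm.trans ((congrArg (· * y.1) hx.2.2).trans (one_mul y.1))))
      right_inv := fun q => Subtype.ext (((mul_assoc x x q.1).symm.trans ((congrArg (· * q.1) hx.2.2).trans (one_mul q.1)))) }
  · obtain ⟨hy, e⟩ := y.2
    have hq : x * y.1 ∈ Q := (F.ker (⟨x, hx.1⟩ * ⟨y.1, hy.1⟩)).1 (by rw [map_mul, e, hg])
    refine ⟨hq, (h.fix_mod_iff F ⟨x, hx.1⟩ hq).1 ?_⟩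
    show x * (x * y.1) * x⁻¹ = x * y.1 ∨ x * (x * y.1) * x⁻¹ = x * y.1 * z
    have e' : x * (x * y.1) * x⁻¹ = (x * y.1)⁻¹ := by
      rw [hxx, _root_.mul_inv_rev, hxx, inv_eq_of_mul_eq_one_right hy.2.2]
      calc x * (x * y.1) * x = x * x * (y.1 * x) := by group
        _ = y.1 * x := (congrArg (· * (y.1 * x)) hx.2.2).trans (one_mul _)
    rw [e']
    rcases h.sq _ hq with hs | hs
    · exact Or.inl (inv_eq_of_mul_eq_one_right hs)
    · refine Or.inr (inv_eq_of_mul_eq_one_right ?_)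
      rw [← mul_assoc, hs, h.zz]
  · obtain ⟨hq, hf⟩ := q.2
    have hy : Out z Q (x * q.1) := ⟨mul_mem hx.1 (h.le hq), fun hm => hx.2.1 (by
      simpa using mul_mem hm (inv_mem hq)), by
      rw [show x * q.1 * (x * q.1) = (x * q.1 * x) * q.1 by group, h.inverts F hx hq hf, inv_mul_cancel]⟩
    refine ⟨hy, ?_⟩
    rw [show (⟨x * q.1, hy.1⟩ : ↥(centralizer ({z} : Set G))) = ⟨x, hx.1⟩ * ⟨q.1, h.le hq⟩ from rfl,
      map_mul, (F.ker ⟨q.1, h.le hq⟩).2 hq, mul_one]

/-- There are 120 outer involutions as soon as there is one. -/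
theorem card_out {x : G} (hx : Out z Q x) : Nat.card {y : G // Out z Q y} = 120 := by
  classical
  obtain ⟨F⟩ := h.exists_frame
  obtain ⟨hg, hg1⟩ := h.pi_invol F hx
  have hne : ∀ g : A, g * g = 1 → g ≠ 1 → ∃ y, ∃ hy : Out z Q y, F.π ⟨y, hy.1⟩ = g := by
    intro g h2 h1
    obtain ⟨k, hk⟩ := AltFive.invol_conj _ g hg hg1 h2 h1
    obtain ⟨c, rfl⟩ := F.surj k
    refine ⟨(c : G) * x * (c : G)⁻¹, ⟨mul_mem (mul_mem c.2 hx.1) (inv_mem c.2), fun hm => hx.2.1 ?_, ?_⟩, ?_⟩
    · have := h.nrm _ (inv_mem c.2) _ hm; simpa [mul_assoc] using this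
    · rw [show (c : G) * x * (c : G)⁻¹ * ((c : G) * x * (c : G)⁻¹) = (c : G) * (x * x) * (c : G)⁻¹ by group,
        hx.2.2, mul_one, mul_inv_cancel]
    · rw [← hk, ← map_inv, ← map_mul, ← map_mul]; rfl
  let e : {y : G // Out z Q y} ≃ Σ g : {g : A // g * g = 1 ∧ g ≠ 1},
      {y : G // ∃ hy : Out z Q y, F.π ⟨y, hy.1⟩ = g.1} :=
    { toFun := fun y => ⟨⟨F.π ⟨y.1, y.2.1⟩, h.pi_invol F y.2⟩, ⟨y.1, y.2, rfl⟩⟩
      invFun := fun s => ⟨s.2.1, s.2.2.1⟩
      left_inv := fun y => rfl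
      right_inv := fun s => by
        obtain ⟨⟨g, hg'⟩, ⟨y, hy, e⟩⟩ := s
        obtain rfl : F.π ⟨y, hy.1⟩ = g := e
        rfl }
  rw [Nat.card_congr e, Nat.card_sigma, Finset.sum_congr rfl (fun g _ => show _ = 8 from ?_),
    Finset.sum_const, Finset.card_univ, AltFive.invol_count]
  · rfl
  · obtain ⟨y, hy, e⟩ := hne g.1 g.2.1 g.2.2
    rw [← h.card_fiber F hy]
    exact Nat.card_congr (Equiv.subtypeEquivRight fun w => exists_congr fun hw => by rw [e])

/-- One class of outer involutions, with centralizer of order sixteen. -/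
theorem outer_class {x : G} (hx : Out z Q x) :
    Nat.card (centralizer ({z} : Set G) ⊓ centralizer ({x} : Set G) : Subgroup G) = 16 ∧
      ∀ y, Out z Q y → ∃ c ∈ centralizer ({z} : Set G), c * x * c⁻¹ = y := by
  classical
  obtain ⟨F⟩ := h.exists_frame
  obtain ⟨hg, hg1⟩ := h.pi_invol F hx
  set C := centralizer ({z} : Set G)
  set D := C ⊓ centralizer ({x} : Set G) with hD
  have h1 := h.card_sub F (inf_le_left : D ≤ C)
  have e1 : D ⊓ Q = Q ⊓ centralizer ({x} : Set G) := by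
    ext q; simp only [hD, mem_inf]
    exact ⟨fun a => ⟨a.2, a.1.2⟩, fun a => ⟨⟨h.le a.1, a.2⟩, a.1⟩⟩
  rw [e1, h.card_inf_outer hx] at h1
  have h2 : Nat.card ((D.subgroupOf C).map F.π) ≤ 4 := by
    refine le_trans (Nat.card_le_card_of_injective
      (fun g => (⟨g.1, ?_⟩ : {k : A // k * F.π ⟨x, hx.1⟩ = F.π ⟨x, hx.1⟩ * k}))
      (fun g g' e => Subtype.ext (Subtype.mk.inj e)))
      (by rw [Nat.card_eq_fintype_card, AltFive.invol_centralizer _ hg hg1])
    obtain ⟨c, hc, hce⟩ := g.2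
    rw [← hce, ← map_mul, ← map_mul]
    exact congrArg F.π (Subtype.ext (mem_centralizer_singleton_iff.1 (mem_subgroupOf.1 hc).2))
  have h3 := card_orbit_mul C x
  rw [h.card_C, ← hD] at h3
  let f : {y : G // ∃ c ∈ C, c * x * c⁻¹ = y} → {y : G // Out z Q y} := fun y => ⟨y.1, by
    obtain ⟨c, hc, e⟩ := y.2
    refine ⟨e ▸ mul_mem (mul_mem hc hx.1) (inv_mem hc), fun hm => hx.2.1 ?_, ?_⟩
    · have := h.nrm _ (inv_mem hc) _ hm; rw [← e] at this; simpa [mul_assoc] using this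
    · rw [← e, show c * x * c⁻¹ * (c * x * c⁻¹) = c * (x * x) * c⁻¹ by group, hx.2.2, mul_one, mul_inv_cancel]⟩
  have hf : Function.Injective f := fun a b e => Subtype.ext (Subtype.mk.inj e)
  have h4 := Nat.card_le_card_of_injective f hf
  rw [h.card_out hx] at h4
  have hD16 : Nat.card D = 16 := by nlinarith
  refine ⟨hD16, fun y hy => ?_⟩
  have hb := (Nat.bijective_iff_injective_and_card f).2 ⟨hf, by rw [h.card_out hx]; rw [hD16] at h3; omega⟩
  obtain ⟨w, hw⟩ := hb.2 ⟨y, hy⟩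
  obtain ⟨c, hc, e⟩ := w.2
  exact ⟨c, hc, e.trans (congrArg Subtype.val hw)⟩

/-- A Sylow 2-subgroup of the centralizer is a Sylow 2-subgroup. -/
theorem exists_conj_mem {u : G} (hu : orderOf u = 2) :
    ∃ g : G, g * u * g⁻¹ ∈ centralizer ({z} : Set G) := by
  classical
  haveI : Fact (Nat.Prime 2) := ⟨Nat.prime_two⟩
  set C := centralizer ({z} : Set G)
  obtain ⟨T⟩ := (Sylow.nonempty : Nonempty (Sylow 2 C))
  haveI hN : (Q.subgroupOf C).Normal :=
    ⟨fun a ha c => mem_subgroupOf.2 (h.nrm c c.2 a (mem_subgroupOf.1 ha))⟩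
  have hQp : IsPGroup 2 (Q.subgroupOf C) := IsPGroup.of_card (n := 5) (by
    rw [Nat.card_congr (subgroupOfEquivOfLe h.le).toEquiv, h.card]; rfl)
  have hQT : Q.subgroupOf C ≤ (T : Subgroup C) := by
    obtain ⟨T', hT'⟩ := hQp.exists_le_sylow
    obtain ⟨c, hc⟩ := MulAction.exists_smul_eq C T' T
    intro a ha
    have ha' : c⁻¹ * a * c⁻¹⁻¹ ∈ Q.subgroupOf C := hN.conj_mem a ha c⁻¹
    rw [← hc, Sylow.coe_subgroup_smul]
    exact ⟨c⁻¹ * a * c⁻¹⁻¹, hT' ha', by simp [mul_assoc]⟩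
  set T₀ := (T : Subgroup C).map C.subtype with hT₀
  have hT₀p : IsPGroup 2 T₀ := T.isPGroup'.map _
  obtain ⟨S, hS⟩ := hT₀p.exists_le_sylow
  have hQT₀ : Q ≤ T₀ := fun a ha => ⟨⟨a, h.le ha⟩, hQT (mem_subgroupOf.2 ha), rfl⟩
  have hT₀C : T₀ ≤ C := map_subtype_le _
  have hzC : z ∈ C := h.z_mem_C
  have hST : (S : Subgroup G) = T₀ := by
    by_contra hne
    haveI : Group.IsNilpotent (S : Subgroup G) := S.isPGroup'.isNilpotent
    have hlt : T₀.subgroupOf (S : Subgroup G) < ⊤ := by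
      refine lt_top_iff_ne_top.2 fun e => hne (le_antisymm ?_ hS)
      exact subgroupOf_eq_top.1 e
    obtain ⟨s, hsN, hsT⟩ := SetLike.exists_of_lt
      (normalizerCondition_of_isNilpotent _ hlt)
    have hnorm : ∀ a ∈ T₀, (s : G) * a * (s : G)⁻¹ ∈ T₀ := fun a ha => by
      have := (mem_normalizer_iff.1 hsN ⟨a, hS ha⟩).1 (mem_subgroupOf.2 ha)
      exact mem_subgroupOf.1 this
    have hsinv : ∀ a ∈ T₀, (s : G)⁻¹ * a * (s : G) ∈ T₀ := fun a ha => by
      have := (mem_normalizer_iff.1 (inv_mem hsN) ⟨a, hS ha⟩).1 (mem_subgroupOf.2 ha)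
      simpa using mem_subgroupOf.1 this
    have hsz : (s : G) * z * (s : G)⁻¹ = z := by
      have hzT : z ∈ T₀ := hQT₀ h.zmem
      set w := (s : G) * z * (s : G)⁻¹ with hw
      have hwc : ∀ a ∈ T₀, w * a = a * w := fun a ha => by
        have e := mem_centralizer_singleton_iff.1 (hT₀C (hsinv a ha))
        calc w * a = (s : G) * (z * ((s : G)⁻¹ * a * (s : G))) * (s : G)⁻¹ := by rw [hw]; group
          _ = (s : G) * ((s : G)⁻¹ * a * (s : G) * z) * (s : G)⁻¹ := by rw [e]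
          _ = a * w := by rw [hw]; group
      have hwQ : w ∈ Q := h.self w (hT₀C (hnorm z hzT)) fun a ha => hwc a (hQT₀ ha)
      rcases h.cen w hwQ (fun a ha => hwc a (hQT₀ ha)) with e | e
      · exact absurd (conj_eq_one_iff.1 e) h.z_ne
      · exact e
    have hsC : (s : G) ∈ C := mem_centralizer_singleton_iff.2 (mul_inv_eq_iff_eq_mul.1 hsz)
    have hbig : IsPGroup 2 ((S : Subgroup G).subgroupOf C) := S.isPGroup'.comap_subtype
    have heq := T.is_maximal' hbig (fun a ha => mem_subgroupOf.2 (hS ⟨a, ha, rfl⟩))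
    exact hsT (mem_subgroupOf.2 ⟨⟨s, hsC⟩, heq.le (mem_subgroupOf.2 s.2), rfl⟩)
  obtain ⟨S', hS'⟩ := (IsPGroup.of_card (p := 2) (n := 1) (G := zpowers u)
    (by rw [Nat.card_zpowers, hu, pow_one])).exists_le_sylow
  obtain ⟨g, hg⟩ := MulAction.exists_smul_eq G S' S
  refine ⟨g, hT₀C (hST.le ?_)⟩
  rw [← hg, Sylow.coe_subgroup_smul]
  exact ⟨u, hS' (mem_zpowers u), rfl⟩

end finite

end PreHyp

namespace Hyp

variable {z : G} {Q : Subgroup G} (h : Hyp z Q)
include h

/-- Every noncentral involution of `Q` is conjugate to `z`. -/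
theorem conj_z {u : G} (hu : u ∈ Q) (huu : u * u = 1) (hu1 : u ≠ 1) (huz : u ≠ z) [Finite G] :
    IsConj z u := by
  obtain ⟨F⟩ := h.exists_frame
  obtain ⟨a, ha, haz, hac⟩ := h.nwc
  have haa : a * a = 1 ∧ a ≠ 1 := by
    obtain ⟨g, rfl⟩ := isConj_iff.1 hac
    exact ⟨invol_mul_self (invol_conj h.inv g), invol_ne_one (invol_conj h.inv g)⟩
  obtain ⟨c, -, hc⟩ := h.exists_conj_point F 0 ha haa.1 haa.2 haz
  obtain ⟨d, -, hd⟩ := h.exists_conj_point F 0 hu huu hu1 huz
  exact (hac.trans (isConj_iff.2 ⟨c⁻¹, by rw [← hc]; group⟩)).trans (isConj_iff.2 ⟨d, hd⟩)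

section finite

variable [Finite G]

theorem exists_out : ∃ x, Out z Q x := by
  by_contra hno
  push Not at hno
  have hall : ∀ u : G, orderOf u = 2 → IsConj z u := by
    intro u hu
    obtain ⟨g, hg⟩ := h.exists_conj_mem hu
    have hv : orderOf (g * u * g⁻¹) = 2 := invol_conj hu g
    have hvQ : g * u * g⁻¹ ∈ Q := by
      by_contra hn
      exact hno _ ⟨hg, hn, invol_mul_self hv⟩
    refine IsConj.trans ?_ (isConj_iff.2 ⟨g⁻¹, by group⟩ : IsConj (g * u * g⁻¹) u)
    by_cases e : g * u * g⁻¹ = z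
    · rw [e]
    · exact h.conj_z hvQ (invol_mul_self hv) (invol_ne_one hv) e
  obtain ⟨x, y, hx, hy, hxy⟩ := h.two
  exact hxy ((hall x hx).symm.trans (hall y hy))

/-- The two classes. -/
theorem classes {x : G} (hx : Out z Q x) :
    ¬ IsConj z x ∧ ∀ u : G, orderOf u = 2 → IsConj z u ∨ IsConj x u := by
  have hall : ∀ u : G, orderOf u = 2 → IsConj z u ∨ IsConj x u := by
    intro u hu
    obtain ⟨g, hg⟩ := h.exists_conj_mem hu
    have hv : orderOf (g * u * g⁻¹) = 2 := invol_conj hu g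
    have hback : IsConj (g * u * g⁻¹) u := isConj_iff.2 ⟨g⁻¹, by group⟩
    by_cases hvQ : g * u * g⁻¹ ∈ Q
    · left
      by_cases e : g * u * g⁻¹ = z
      · rw [e] at hback; exact hback
      · exact (h.conj_z hvQ (invol_mul_self hv) (invol_ne_one hv) e).trans hback
    · right
      obtain ⟨c, -, hc⟩ := (h.outer_class hx).2 _ ⟨hg, hvQ, invol_mul_self hv⟩
      exact (isConj_iff.2 ⟨c, hc⟩).trans hback
  refine ⟨fun hzx => ?_, hall⟩
  obtain ⟨a, b, ha, hb, hab⟩ := h.two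
  have one : ∀ u : G, orderOf u = 2 → IsConj z u := fun u hu =>
    (hall u hu).elim id (fun e => hzx.trans e)
  exact hab ((one a ha).symm.trans (one b hb))

end finite

end Hyp

end CfsgLib.Invol.JTwo
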