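import Cfsg.Agent.Lib.Invol.JTwo.Five

/-!
# Centralizers of elements of order three
-/

set_option autoImplicit false

namespace CfsgLib.Invol.JTwo

open Subgroup

universe v

local notation "A" => alternatingGroup (Fin 5)

namespace AltFive

theorem three_inv : ∀ g : {g : A // g * g * g = 1 ∧ g ≠ 1}, ∃ x : A, x * g.1 * x⁻¹ = g.1⁻¹ := by
  decide +kernel

end AltFive

variable {G : Type v} [Group G] [Finite G] {z : G} {Q : Subgroup G}

theorem pow_cases_three {x y : G} (hx : orderOf x = 3) (hy : y ∈ zpowers x) :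
    y = 1 ∨ y = x ∨ y = x⁻¹ := by
  obtain ⟨n, rfl⟩ := (isOfFinOrder_of_finite x).mem_powers_iff_mem_zpowers.2 hy
  have hx3 : x ^ 3 = 1 := by rw [← hx, pow_orderOf_eq_one]
  dsimp only
  rw [← pow_mod_orderOf, hx]
  have := Nat.mod_lt n (show 3 > 0 by norm_num)
  interval_cases h : n % 3
  · exact Or.inl (pow_zero x)
  · exact Or.inr (Or.inl (pow_one x))
  · refine Or.inr (Or.inr (eq_inv_of_mul_eq_one_left ?_))
    rw [← pow_succ]; exact hx3

/-- The Frattini argument in a subgroup containing a Sylow subgroup. -/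
theorem exists_normalizing {p : ℕ} [Fact p.Prime] (P : Sylow p G) {K : Subgroup G}
    (hPK : (P : Subgroup G) ≤ K) {e : G} (he : ∀ w ∈ (P : Subgroup G), e * w * e⁻¹ ∈ K) :
    ∃ k ∈ K, k * e ∈ normalizer ((P : Subgroup G) : Set G) := by
  have hp1 : IsPGroup p (((P : Subgroup G).map (MulAut.conj e).toMonoidHom).subgroupOf K) :=
    (P.isPGroup'.map (MulAut.conj e).toMonoidHom).comap_subtype
  have hp2 : IsPGroup p ((P : Subgroup G).subgroupOf K) := P.isPGroup'.comap_subtype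
  obtain ⟨S, hS⟩ := hp1.exists_le_sylow
  obtain ⟨S', hS'⟩ := hp2.exists_le_sylow
  obtain ⟨k, hk⟩ := MulAction.exists_smul_eq ↥K S S'
  have hp : IsPGroup p ((S' : Subgroup ↥K).map K.subtype) := S'.isPGroup'.map _
  have hle : (P : Subgroup G) ≤ (S' : Subgroup ↥K).map K.subtype := fun x hx =>
    ⟨⟨x, hPK hx⟩, hS' (mem_subgroupOf.2 hx), rfl⟩
  refine ⟨k, k.2, mem_normalizer_of_le fun w hw => ?_⟩
  have hmem : k * ⟨e * w * e⁻¹, he w hw⟩ * k⁻¹ ∈ (S' : Subgroup ↥K) := by
    rw [← hk, Sylow.coe_subgroup_smul]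
    exact ⟨_, hS (mem_subgroupOf.2 ⟨w, hw, rfl⟩), rfl⟩
  have := (P.is_maximal' hp hle).le ⟨_, hmem, rfl⟩
  rw [show (k : G) * e * w * ((k : G) * e)⁻¹ = (k : G) * (e * w * e⁻¹) * (k : G)⁻¹ by group]
  exact this

namespace PreHyp

variable (h : PreHyp z Q)
include h

theorem card_three {w : G} (hwC : w ∈ centralizer ({z} : Set G)) (hw : orderOf w = 3) :
    Nat.card (centralizer ({w} : Set G) ⊓ centralizer ({z} : Set G) : Subgroup G) = 24 := by
  classical
  obtain ⟨F⟩ := h.exists_frame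
  set C := centralizer ({z} : Set G)
  set X := centralizer ({w} : Set G) ⊓ C
  have hw3 : w ^ 3 = 1 := by rw [← hw, pow_orderOf_eq_one]
  have hπ1 : F.π ⟨w, hwC⟩ ≠ 1 := fun e => by
    have := orderOf_dvd_natCard Q ((F.ker _).1 e)
    rw [hw, h.card] at this
    norm_num at this
  have hπ3 : F.π ⟨w, hwC⟩ * F.π ⟨w, hwC⟩ * F.π ⟨w, hwC⟩ = 1 := by
    rw [← map_mul, ← map_mul, show (⟨w, hwC⟩ : C) * ⟨w, hwC⟩ * ⟨w, hwC⟩ = 1 from Subtype.ext (by
      show w * w * w = 1
      rw [← hw3, pow_succ, pow_two]), map_one]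
  rw [h.card_sub F (inf_le_right : X ≤ C)]
  have h8 : Nat.card (X ⊓ Q : Subgroup G) = 8 := by
    have hc := h.count F (fun v => AltFive.Fix (F.π ⟨w, hwC⟩) v)
    rw [AltFive.three_fix_card _ hπ3 hπ1] at hc
    rw [← show Nat.card {q : G // q ∈ Q ∧ AltFive.Fix (F.π ⟨w, hwC⟩) (F.chi q)} = 8 from hc]
    refine Nat.card_congr (Equiv.subtypeEquivRight fun q => ?_)
    constructor
    · rintro ⟨⟨hqw, -⟩, hq⟩
      refine ⟨hq, (h.fix_mod_iff F ⟨w, hwC⟩ hq).1 (Or.inl ?_)⟩
      show w * q * w⁻¹ = q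
      rw [← mem_centralizer_singleton_iff.1 hqw, mul_inv_cancel_right]
    · rintro ⟨hq, hf⟩
      refine ⟨⟨mem_centralizer_singleton_iff.2 ?_, h.le hq⟩, hq⟩
      rcases (h.fix_mod_iff F ⟨w, hwC⟩ hq).2 hf with e | e
      · exact (mul_inv_eq_iff_eq_mul.1 (show w * q * w⁻¹ = q from e)).symm
      · exfalso
        have e1 : w * q * w⁻¹ = q * z := e
        have hz : w * z * w⁻¹ = z := by rw [mem_centralizer_singleton_iff.1 hwC, mul_inv_cancel_right]
        have e2 : w * (w * q * w⁻¹) * w⁻¹ = q := by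
          rw [e1, show w * (q * z) * w⁻¹ = w * q * w⁻¹ * (w * z * w⁻¹) by group, e1, hz, mul_assoc, h.zz,
            mul_one]
        refine h.z_ne (mul_eq_left.1 (show q * z = q from ?_))
        calc q * z = w * q * w⁻¹ := e1.symm
          _ = w * (w * (w * q * w⁻¹) * w⁻¹) * w⁻¹ := by rw [e2]
          _ = w ^ 3 * q * (w ^ 3)⁻¹ := by rw [pow_succ, pow_two]; group
          _ = q := by rw [hw3]; group
  have hπo : orderOf (F.π ⟨w, hwC⟩) = 3 := by
    refine orderOf_eq_prime ?_ hπ1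
    rw [pow_succ, pow_two]; exact hπ3
  have h3 : (X.subgroupOf C).map F.π = zpowers (F.π ⟨w, hwC⟩) := by
    refine le_antisymm ?_ (zpowers_le.2 ⟨⟨w, hwC⟩, mem_subgroupOf.2
      ⟨mem_centralizer_singleton_iff.2 rfl, hwC⟩, rfl⟩)
    rintro _ ⟨x, hx, rfl⟩
    have hxw : x * ⟨w, hwC⟩ = ⟨w, hwC⟩ * x :=
      Subtype.ext (mem_centralizer_singleton_iff.1 (mem_subgroupOf.1 hx).1)
    obtain ⟨j, hj⟩ := AltFive.centralizer_pow ⟨F.π ⟨w, hwC⟩, Or.inl hπ3, hπ1⟩ (F.π x)
      (by rw [← map_mul, ← map_mul, hxw])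
    rw [hj]; exact npow_mem_zpowers _ _
  rw [h8, h3, Nat.card_zpowers, hπo]

theorem exists_conj_three {v w : G} (hvC : v ∈ centralizer ({z} : Set G)) (hv : orderOf v = 3)
    (hwC : w ∈ centralizer ({z} : Set G)) (hw : orderOf w = 3) :
    ∃ c ∈ centralizer ({z} : Set G), zpowers (c * v * c⁻¹) = zpowers w := by
  haveI : Fact (Nat.Prime 3) := ⟨Nat.prime_three⟩
  set C := centralizer ({z} : Set G) with hCdef
  have hS3 : ∀ x : C, orderOf x = 3 → ∃ S : Sylow 3 C, (S : Subgroup C) = zpowers x := by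
    intro x hx
    obtain ⟨S, hS⟩ := (IsPGroup.of_card (p := 3) (n := 1) (G := zpowers x)
      (by rw [Nat.card_zpowers, hx, pow_one])).exists_le_sylow
    refine ⟨S, (eq_of_le_of_card_ge hS ?_).symm⟩
    obtain ⟨k, hk⟩ := IsPGroup.iff_card.1 S.isPGroup'
    have hd := card_subgroup_dvd_card (S : Subgroup C)
    rw [hk, hCdef, h.card_C] at hd
    have hk1 : k ≤ 1 := by
      by_contra hk1
      exact absurd ((pow_dvd_pow 3 (show 2 ≤ k by omega)).trans hd) (by norm_num)
    rw [hk, Nat.card_zpowers, hx]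
    exact (Nat.pow_le_pow_right (by norm_num) hk1).trans (by norm_num)
  obtain ⟨S, hS⟩ := hS3 ⟨v, hvC⟩ (by rw [orderOf_mk]; exact hv)
  obtain ⟨S', hS'⟩ := hS3 ⟨w, hwC⟩ (by rw [orderOf_mk]; exact hw)
  obtain ⟨c, hc⟩ := MulAction.exists_smul_eq C S S'
  refine ⟨c, c.2, ?_⟩
  have hm : c * ⟨v, hvC⟩ * c⁻¹ ∈ (S' : Subgroup C) := by
    rw [← hc, Sylow.coe_subgroup_smul, hS]; exact ⟨_, mem_zpowers _, rfl⟩
  rw [hS', mem_zpowers_iff] at hm
  obtain ⟨k, hk⟩ := hm
  have hk' : w ^ k = (c : G) * v * (c : G)⁻¹ := congrArg Subtype.val hk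
  refine eq_of_le_of_card_ge (zpowers_le.2 (mem_zpowers_iff.2 ⟨k, hk'⟩)) ?_
  rw [Nat.card_zpowers, Nat.card_zpowers, hw,
    show orderOf ((c : G) * v * (c : G)⁻¹) = orderOf v from
      orderOf_injective (MulAut.conj (c : G)).toMonoidHom (MulAut.conj (c : G)).injective v, hv]

end PreHyp

namespace Hyp

variable (h : Hyp z Q)
include h

/-- An element of order three commuting with an involution of the second class. -/
theorem three_t {t : G} (ht : Out z Q t) {u : G} (hu : IsConj t u) {d : G} (hd : orderOf d = 3)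
    (hdu : d * u = u * d) :
    Nat.card (centralizer ({d} : Set G)) = 36 ∧ ∀ x, IsConj z x → x * d ≠ d * x := by
  obtain ⟨g, rfl⟩ := isConj_iff.1 hu
  set d' := g⁻¹ * d * g with hd'def
  have hd' : orderOf d' = 3 := by
    rw [← hd, show d' = MulAut.conj g⁻¹ d by rw [hd'def]; simp, MulEquiv.orderOf_eq]
  have hdt : d' ∈ centralizer ({t} : Set G) :=
    mem_centralizer_conj.1 (mem_centralizer_singleton_iff.2 hdu)
  obtain ⟨a, p⟩ := h.exists_pt ht
  obtain ⟨ρ, V, B, s⟩ := p.exists_split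
  have hdB : d' ∈ B := by
    obtain ⟨v, hv, b, hb, e⟩ := s.fac d' hdt
    have h3 : d' ^ 3 = 1 := by rw [← hd', pow_orderOf_eq_one]
    rw [e, (show Commute v b from s.comm v hv b hb).mul_pow, pow_succ v, s.sq v hv, one_mul] at h3
    have hv1 : v = 1 := mem_bot.1 (s.inf.le (mem_inf.2 ⟨hv, by
      rw [eq_inv_of_mul_eq_one_left h3]; exact B.inv_mem (B.pow_mem hb 3)⟩))
    rw [e, hv1, one_mul]; exact hb
  have hno : ∀ x, IsConj z x → x * d' ≠ d' * x := by
    intro x hx e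
    obtain ⟨h2, h1⟩ := conj_involution hx h.inv
    exact (h.classes ht).1 (hx.trans ((p.sylow_centralizer_B s hdB (Or.inl hd')).2 x
      (mem_centralizer_singleton_iff.2 e) (orderOf_eq_prime (by rw [pow_two]; exact h2) h1)).symm)
  have hC : g * d' * g⁻¹ = d := by rw [hd'def]; group
  refine ⟨?_, fun x hx e => hno (g⁻¹ * x * g) (hx.trans (isConj_iff.2 ⟨g⁻¹, by group⟩)) ?_⟩
  · rw [← hC, card_centralizer_conj]
    rcases p.centralizer_cases s hdB (Or.inl hd') with e | ⟨φ, hφ, -⟩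
    · rw [e, hd']
    · exfalso
      haveI : Fact (Nat.Prime 5) := ⟨Nat.prime_five⟩
      have h60 : 60 ∣ Nat.card (centralizer ({d'} : Set G)) := by
        rw [← AltFive.card_A]; exact card_dvd_of_surjective φ hφ
      obtain ⟨x, hx⟩ := exists_prime_orderOf_dvd_card' (G := ↥(centralizer ({d'} : Set G))) 5
        ((by norm_num : 5 ∣ 60).trans h60)
      rw [← orderOf_coe] at hx
      obtain ⟨w, hw, hwd⟩ := (h.five_cases hx).2 d'
        (mem_centralizer_singleton_iff.2 (mem_centralizer_singleton_iff.1 x.2).symm) hd'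
      exact hno w hw hwd
  · calc g⁻¹ * x * g * d' = g⁻¹ * (x * d) * g := by rw [hd'def]; group
      _ = g⁻¹ * (d * x) * g := by rw [e]
      _ = d' * (g⁻¹ * x * g) := by rw [hd'def]; group

/-- An involution commuting with an element of order three that also commutes with a conjugate of `z`. -/
theorem invol_of_three {d x : G} (hx : IsConj z x) (hxd : x * d = d * x) (hd : orderOf d = 3) {u : G}
    (hu : orderOf u = 2) (hud : u * d = d * u) : IsConj z u := by
  obtain ⟨t, ht⟩ := h.exists_out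
  refine ((h.classes ht).2 u hu).resolve_right fun htu => ?_
  exact (h.three_t ht htu hd hud.symm).2 x hx hxd

theorem card_three_conj {d x : G} (hx : IsConj z x) (hxd : x * d = d * x) (hd : orderOf d = 3) :
    Nat.card (centralizer ({d} : Set G) ⊓ centralizer ({x} : Set G) : Subgroup G) = 24 := by
  obtain ⟨g, rfl⟩ := isConj_iff.1 hx
  exact (h.conj g).card_three (mem_centralizer_singleton_iff.2 hxd.symm) hd

end Hyp

end CfsgLib.Invol.JTwo
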