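import Cfsg.Agent.Lib.Invol.JTwo.Normalizer
import Cfsg.Agent.Lib.Invol.FourCentralizer
import Cfsg.Agent.Lib.Fusion.Transfer
import Cfsg.Agent.Lib.Invol.InvertedOdd

/-!
# Centralizers of elements of order three and five: the common part
-/

set_option autoImplicit false

namespace CfsgLib.Invol.JTwo

open Subgroup

universe v

local notation "A" => alternatingGroup (Fin 5)

namespace AltFive

theorem centralizer_pow : ∀ g : {g : A // (g * g * g = 1 ∨ g * g * g * g * g = 1) ∧ g ≠ 1}, ∀ k : A,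
    k * g.1 = g.1 * k → ∃ j : Fin 5, k = g.1 ^ (j : ℕ) := by
  decide +kernel

end AltFive

section generic

variable {H : Type v} [Group H] [Finite H]

/-- An involution with centralizer of order two inverts or fixes every element of odd order. -/
theorem conj_of_centralizer_two {u : H} (hu : orderOf u = 2)
    (hc : Nat.card (centralizer ({u} : Set H)) = 2) {p : H} (hp : Odd (orderOf p)) (x : H) :
    x * p * x⁻¹ = p ∨ x * p * x⁻¹ = p⁻¹ := by
  classical
  haveI : Fact (Nat.Prime 2) := ⟨Nat.prime_two⟩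
  have huu : u * u = 1 := invol_mul_self hu
  have hui : u⁻¹ = u := inv_eq_of_mul_eq_one_right huu
  obtain ⟨S, hS⟩ := (IsPGroup.of_card (p := 2) (n := 1) (G := zpowers u)
    (by rw [Nat.card_zpowers, hu, pow_one])).exists_le_sylow
  have hcu : ∀ {w : H}, w * u = u * w → w = 1 ∨ w = u := by
    intro w hw
    by_contra hne
    push Not at hne
    let f : Fin 3 → ↥(centralizer ({u} : Set H)) := ![1, ⟨u, mem_centralizer_singleton_iff.2 rfl⟩,
      ⟨w, mem_centralizer_singleton_iff.2 hw⟩]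
    have hf : Function.Injective f := by
      intro i j e
      have e' : ((f i : ↥(centralizer ({u} : Set H))) : H) = f j := congrArg Subtype.val e
      fin_cases i <;> fin_cases j <;> simp [f] at e' <;>
        first
        | rfl
        | exact absurd e' (invol_ne_one hu)
        | exact absurd e'.symm (invol_ne_one hu)
        | exact absurd e' hne.1
        | exact absurd e'.symm hne.1
        | exact absurd e' hne.2
        | exact absurd e'.symm hne.2
    have := Nat.card_le_card_of_injective f hf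
    rw [hc, Nat.card_fin] at this
    omega
  have hSu : ∀ w ∈ (S : Subgroup H), w = 1 ∨ w = u := by
    have huS : u ∈ (S : Subgroup H) := hS (mem_zpowers u)
    haveI : Nontrivial (S : Subgroup H) := ⟨⟨u, huS⟩, 1, fun e => invol_ne_one hu (congrArg Subtype.val e)⟩
    haveI := S.isPGroup'.center_nontrivial
    obtain ⟨⟨c, hc'⟩, hc1⟩ := exists_ne (1 : center (S : Subgroup H))
    have hcu' : (c : H) = u := (hcu (congrArg Subtype.val (mem_center_iff.1 hc' ⟨u, huS⟩)).symm).resolve_left
      fun e => hc1 (Subtype.ext (Subtype.ext e))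
    intro w hw
    refine hcu ?_
    rw [← hcu']
    exact congrArg Subtype.val (mem_center_iff.1 hc' ⟨w, hw⟩)
  have hle : normalizer ((S : Subgroup H) : Set H) ≤ centralizer ((S : Subgroup H) : Set H) := by
    intro n hn
    refine mem_centralizer_iff.2 fun w hw => ?_
    rcases hSu w hw with rfl | rfl
    · simp
    · rcases hSu _ ((mem_normalizer_iff.1 hn w).1 hw) with e | e
      · exact absurd (conj_eq_one_iff.1 e) (invol_ne_one hu)
      · exact (mul_inv_eq_iff_eq_mul.1 e).symm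
  set M := (MonoidHom.transferSylow S hle).ker
  have hcompl : IsComplement' M (S : Subgroup H) := MonoidHom.ker_transferSylow_isComplement' S hle
  haveI : M.Normal := inferInstance
  have hfix : ∀ {m : H}, m ∈ M → m * u = u * m → m = 1 := fun {m} hm e => by
    rcases hcu e with e | e
    · exact e
    · exact mem_bot.1 (hcompl.disjoint.le_bot ⟨hm, e ▸ hS (mem_zpowers u)⟩)
  have hinv : ∀ {m : H}, m ∈ M → u * m * u = m⁻¹ := by
    intro m hm
    let φ : M → M := fun x => ⟨(x : H)⁻¹ * (u * x * u⁻¹),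
      mul_mem (inv_mem x.2) (Normal.conj_mem inferInstance _ x.2 u)⟩
    have hφ : Function.Injective φ := by
      intro x y e
      have e' : (x : H)⁻¹ * (u * x * u⁻¹) = (y : H)⁻¹ * (u * y * u⁻¹) := congrArg Subtype.val e
      refine Subtype.ext (mul_inv_eq_one.1 (hfix (mul_mem y.2 (inv_mem x.2)) ?_)).symm
      calc (y : H) * (x : H)⁻¹ * u = (y : H) * ((x : H)⁻¹ * (u * x * u⁻¹)) * u * (x : H)⁻¹ := by group
        _ = (y : H) * ((y : H)⁻¹ * (u * y * u⁻¹)) * u * (x : H)⁻¹ := by rw [e']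
        _ = _ := by group
    obtain ⟨x, hx⟩ := (Finite.injective_iff_surjective.1 hφ) ⟨m, hm⟩
    have hxm : (x : H)⁻¹ * (u * x * u⁻¹) = m := congrArg Subtype.val hx
    rw [← hxm, hui]
    refine (inv_eq_of_mul_eq_one_right ?_).symm
    calc (x : H)⁻¹ * (u * x * u) * (u * ((x : H)⁻¹ * (u * x * u)) * u)
        = (x : H)⁻¹ * u * x * (u * u) * (x : H)⁻¹ * u * x * (u * u) := by group
      _ = (x : H)⁻¹ * u * x * (x : H)⁻¹ * u * x := by rw [huu, mul_one, mul_one]
      _ = (x : H)⁻¹ * (u * u) * x := by group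
      _ = 1 := by rw [huu, mul_one, inv_mul_cancel]
  have hab : ∀ {m n : H}, m ∈ M → n ∈ M → m * n = n * m := by
    intro m n hm hn
    have e := hinv (mul_mem hm hn)
    rw [show u * (m * n) * u = u * m * (u * u) * n * u by rw [huu]; group,
      show u * m * (u * u) * n * u = u * m * u * (u * n * u) by group, hinv hm, hinv hn,
      _root_.mul_inv_rev] at e
    have := congrArg (fun w => w⁻¹) e
    simp only [_root_.mul_inv_rev, inv_inv] at this
    exact this.symm
  have hidx : M.index = 2 := by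
    have h1 := hcompl.symm.index_eq_card
    rw [h1]
    have hset : ((S : Subgroup H) : Set H) = {1, u} := by
      ext w
      simp only [SetLike.mem_coe, Set.mem_insert_iff, Set.mem_singleton_iff]
      exact ⟨hSu w, by rintro (rfl | rfl); exacts [one_mem _, hS (mem_zpowers _)]⟩
    rw [← SetLike.coe_sort_coe, Nat.card_coe_set_eq, hset, Set.ncard_pair (invol_ne_one hu).symm]
  have hpM : p ∈ M := by
    obtain ⟨k, hk⟩ := hp
    have h2 : p ^ 2 ∈ M := hidx ▸ Subgroup.pow_index_mem M p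
    have := pow_mem h2 (k + 1)
    rwa [← pow_mul, show 2 * (k + 1) = orderOf p + 1 by omega, pow_succ, pow_orderOf_eq_one, one_mul] at this
  by_cases hxM : x ∈ M
  · left; rw [hab hxM hpM, mul_inv_cancel_right]
  · right
    have huM : u ∉ M := fun e => invol_ne_one hu (mem_bot.1 (hcompl.disjoint.le_bot ⟨e, hS (mem_zpowers u)⟩))
    have hxu : x * u ∈ M := by
      rw [Subgroup.mul_mem_iff_of_index_two hidx]
      exact iff_of_false hxM huM
    calc x * p * x⁻¹ = x * u * (u * p * u) * (x * u)⁻¹ := by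
          rw [_root_.mul_inv_rev, hui]
          calc x * p * x⁻¹ = x * (u * u) * p * (u * u) * x⁻¹ := by rw [huu, mul_one, mul_one]
            _ = x * u * (u * p * u) * (u * x⁻¹) := by group
      _ = x * u * p⁻¹ * (x * u)⁻¹ := by rw [hinv hpM]
      _ = p⁻¹ := by rw [hab hxu (inv_mem hpM), mul_inv_cancel_right]

end generic

variable {G : Type v} [Group G]

/-- The cyclic subgroup inside its centralizer. -/
def cyc (g : G) : Subgroup ↥(centralizer ({g} : Set G)) :=
  zpowers ⟨g, mem_centralizer_singleton_iff.2 rfl⟩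

instance cyc_normal (g : G) : (cyc g).Normal := by
  refine ⟨fun r hr x => ?_⟩
  obtain ⟨k, rfl⟩ := mem_zpowers_iff.1 hr
  have hc : Commute (x : G) g := mem_centralizer_singleton_iff.1 x.2
  have : x * (⟨g, mem_centralizer_singleton_iff.2 rfl⟩ : ↥(centralizer ({g} : Set G))) ^ k * x⁻¹ =
      (⟨g, mem_centralizer_singleton_iff.2 rfl⟩ : ↥(centralizer ({g} : Set G))) ^ k := by
    refine Subtype.ext ?_
    simp only [Subgroup.coe_mul, Subgroup.coe_inv, SubgroupClass.coe_zpow]
    rw [(hc.zpow_right k).eq, mul_inv_cancel_right]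
  rw [this]
  exact hr

theorem mem_cyc {g : G} {r : ↥(centralizer ({g} : Set G))} : r ∈ cyc g ↔ (r : G) ∈ zpowers g := by
  simp only [cyc, mem_zpowers_iff, Subtype.ext_iff, SubgroupClass.coe_zpow]

theorem card_cyc (g : G) : Nat.card (cyc g) = orderOf g := by
  rw [cyc, Nat.card_zpowers, Subgroup.orderOf_mk]

variable [Finite G]

theorem eq_of_invol_coset {g u w : G} (hg : Odd (orderOf g)) (hu : u * g = g * u) (huu : u * u = 1)
    (hww : w * w = 1) (h : u⁻¹ * w ∈ zpowers g) : w = u := by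
  obtain ⟨k, hk⟩ := mem_zpowers_iff.1 h
  have hc : Commute u (g ^ k) := (show Commute u g from hu).zpow_right k
  have e : w = u * g ^ k := by rw [hk]; group
  have h2 : g ^ k * g ^ k = 1 := by
    rw [e] at hww
    calc g ^ k * g ^ k = u * u * (g ^ k * g ^ k) := by rw [huu, one_mul]
      _ = u * (u * g ^ k) * g ^ k := by group
      _ = u * (g ^ k * u) * g ^ k := by rw [hc.eq]
      _ = u * g ^ k * (u * g ^ k) := by group
      _ = 1 := hww
  have hodd : Odd (orderOf (g ^ k)) := Odd.of_dvd_nat hg (orderOf_dvd_of_pow_eq_one (by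
    rw [← zpow_natCast, ← zpow_mul, mul_comm, zpow_mul, zpow_natCast, pow_orderOf_eq_one, one_zpow]))
  rw [e, eq_one_of_odd_of_mul_self hodd h2, mul_one]

theorem comap_centralizer {g : G} {u : ↥(centralizer ({g} : Set G))} (hg : Odd (orderOf g))
    (huu : u * u = 1) :
    (centralizer ({QuotientGroup.mk' (cyc g) u} : Set (↥(centralizer ({g} : Set G)) ⧸ cyc g))).comap
      (QuotientGroup.mk' (cyc g)) = (centralizer ({(u : G)} : Set G)).subgroupOf (centralizer ({g} : Set G)) := by
  ext x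
  rw [mem_comap, mem_subgroupOf, mem_centralizer_singleton_iff, mem_centralizer_singleton_iff]
  constructor
  · intro e
    have h : QuotientGroup.mk' (cyc g) (u⁻¹ * (x * u * x⁻¹)) = 1 := by
      rw [map_mul, map_mul, map_mul, e, map_inv, map_inv, mul_inv_cancel_right, inv_mul_cancel]
    rw [QuotientGroup.mk'_apply, QuotientGroup.eq_one_iff, mem_cyc] at h
    have huu' : (u : G) * u = 1 := congrArg Subtype.val huu
    refine mul_inv_eq_iff_eq_mul.1 (eq_of_invol_coset hg (mem_centralizer_singleton_iff.1 u.2) huu' ?_ h)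
    calc (x : G) * u * (x : G)⁻¹ * ((x : G) * u * (x : G)⁻¹) = (x : G) * ((u : G) * u) * (x : G)⁻¹ := by group
      _ = 1 := by rw [huu']; group
  · intro e
    rw [← map_mul, ← map_mul]
    exact congrArg _ (Subtype.ext e)

theorem card_centralizer_quot {g : G} {u : ↥(centralizer ({g} : Set G))} (hg : Odd (orderOf g))
    (huu : u * u = 1) :
    Nat.card (centralizer ({QuotientGroup.mk' (cyc g) u} : Set (↥(centralizer ({g} : Set G)) ⧸ cyc g))) *
      orderOf g = Nat.card (centralizer ({g} : Set G) ⊓ centralizer ({(u : G)} : Set G) : Subgroup G) := by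
  have h1 := ((centralizer ({QuotientGroup.mk' (cyc g) u} :
    Set (↥(centralizer ({g} : Set G)) ⧸ cyc g))).comap (QuotientGroup.mk' (cyc g))).card_mul_index
  rw [index_comap_of_surjective _ (QuotientGroup.mk'_surjective _), comap_centralizer hg huu] at h1
  have h2 := (centralizer ({QuotientGroup.mk' (cyc g) u} :
    Set (↥(centralizer ({g} : Set G)) ⧸ cyc g))).card_mul_index
  have h3 := (cyc g).card_mul_index
  rw [index_eq_card, card_cyc] at h3
  rw [← h3, ← h2, ← inf_subgroupOf_left, Nat.card_congr (subgroupOfEquivOfLe inf_le_left).toEquiv] at h1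
  refine Nat.eq_of_mul_eq_mul_right (Nat.pos_of_ne_zero (centralizer ({QuotientGroup.mk' (cyc g) u} :
    Set (↥(centralizer ({g} : Set G)) ⧸ cyc g))).index_ne_zero_of_finite) ?_
  rw [h1]; ring

variable {z : G} {Q : Subgroup G}

namespace Pt

variable {t a ρ : G} {V B : Subgroup G} (p : Pt z Q t a) (s : Split z t a ρ V B)
include p s

theorem inf_centralizer_B {g : G} (hgB : g ∈ B) (hg : orderOf g = 3 ∨ orderOf g = 5) :
    Nat.card (centralizer ({g} : Set G) ⊓ centralizer ({t} : Set G) : Subgroup G) = 4 * orderOf g ∧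
    ∀ w ∈ centralizer ({g} : Set G) ⊓ centralizer ({t} : Set G), ∃ v ∈ V, ∃ r ∈ zpowers g, w = v * r := by
  obtain ⟨e⟩ := s.iso
  set K := centralizer ({g} : Set G) ⊓ centralizer ({t} : Set G)
  have hgA : (e ⟨g, hgB⟩ * e ⟨g, hgB⟩ * e ⟨g, hgB⟩ = 1 ∨
      e ⟨g, hgB⟩ * e ⟨g, hgB⟩ * e ⟨g, hgB⟩ * e ⟨g, hgB⟩ * e ⟨g, hgB⟩ = 1) ∧ e ⟨g, hgB⟩ ≠ 1 := by
    have ho : orderOf (e ⟨g, hgB⟩) = orderOf g := by
      rw [MulEquiv.orderOf_eq, orderOf_mk]
    constructor
    · rcases hg with hg | hg <;> rw [hg] at ho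
      · left; rw [← pow_orderOf_eq_one (e ⟨g, hgB⟩), ho, pow_succ, pow_two]
      · right; rw [← pow_orderOf_eq_one (e ⟨g, hgB⟩), ho, pow_succ, pow_succ, pow_succ, pow_two]
    · intro h1
      rw [h1, orderOf_one] at ho
      omega
  have hsurj : ∀ w ∈ K, ∃ v ∈ V, ∃ r ∈ zpowers g, w = v * r := by
    intro w hw
    obtain ⟨v, hv, b, hb, rfl⟩ := s.fac w hw.2
    have hbg : b * g = g * b := by
      have h1 := mem_centralizer_singleton_iff.1 hw.1
      refine mul_left_cancel (a := v) ?_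
      calc v * (b * g) = g * (v * b) := by rw [← h1, mul_assoc]
        _ = v * (g * b) := by rw [← mul_assoc, ← s.comm v hv g hgB, mul_assoc]
    obtain ⟨j, hj⟩ := AltFive.centralizer_pow ⟨e ⟨g, hgB⟩, hgA⟩ (e ⟨b, hb⟩) (by
      show e ⟨b, hb⟩ * e ⟨g, hgB⟩ = e ⟨g, hgB⟩ * e ⟨b, hb⟩
      rw [← map_mul, ← map_mul]; exact congrArg e (Subtype.ext hbg))
    refine ⟨v, hv, b, ?_, rfl⟩
    have hb' : (⟨b, hb⟩ : B) = ⟨g, hgB⟩ ^ (j : ℕ) := e.injective (by rw [map_pow]; exact hj)
    rw [show b = g ^ (j : ℕ) from congrArg Subtype.val hb']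
    exact npow_mem_zpowers g _
  have hmem : ∀ v ∈ V, ∀ r ∈ zpowers g, v * r ∈ K := fun v hv r hr =>
    mul_mem ⟨mem_centralizer_singleton_iff.2 (s.comm v hv g hgB), s.leV hv⟩
      ⟨zpowers_le.2 (mem_centralizer_singleton_iff.2 rfl : g ∈ centralizer ({g} : Set G)) hr,
        s.leB (zpowers_le.2 hgB hr)⟩
  let m : ↥V × ↥(zpowers g) → ↥K := fun q => ⟨q.1.1 * q.2.1, hmem _ q.1.2 _ q.2.2⟩
  have hm : Function.Bijective m := by
    refine ⟨?_, fun w => ?_⟩
    · rintro ⟨v, r⟩ ⟨v', r'⟩ e'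
      have e' : (v : G) * r = v' * r' := congrArg Subtype.val e'
      have h1 : (v' : G)⁻¹ * v ∈ V ⊓ B := mem_inf.2 ⟨V.mul_mem (V.inv_mem v'.2) v.2, by
        rw [show (v' : G)⁻¹ * v = r' * (r : G)⁻¹ by rw [eq_mul_inv_iff_mul_eq, mul_assoc, e', inv_mul_cancel_left]]
        exact B.mul_mem (zpowers_le.2 hgB r'.2) (B.inv_mem (zpowers_le.2 hgB r.2))⟩
      rw [s.inf, mem_bot, inv_mul_eq_one] at h1
      rw [← h1] at e'
      exact Prod.ext (Subtype.ext h1.symm) (Subtype.ext (mul_left_cancel e'))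
    · obtain ⟨v, hv, r, hr, e'⟩ := hsurj w w.2
      exact ⟨(⟨v, hv⟩, ⟨r, hr⟩), Subtype.ext e'.symm⟩
  exact ⟨by rw [← Nat.card_eq_of_bijective m hm, Nat.card_prod, s.cardV, Nat.card_zpowers], hsurj⟩

theorem invol_inf_centralizer_B {g : G} (hgB : g ∈ B) (hg : orderOf g = 3 ∨ orderOf g = 5) {w : G}
    (hw : w ∈ centralizer ({g} : Set G) ⊓ centralizer ({t} : Set G)) (hww : w * w = 1) : w ∈ V := by
  obtain ⟨v, hv, r, hr, rfl⟩ := (p.inf_centralizer_B s hgB hg).2 w hw
  have hodd : Odd (orderOf g) := by rcases hg with e | e <;> rw [e] <;> decide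
  have := eq_of_invol_coset hodd (s.comm v hv g hgB) (by rw [← pow_two]; exact s.sq v hv) hww
    (by rwa [inv_mul_cancel_left])
  rw [this]; exact hv

theorem sylow_centralizer_B {g : G} (hgB : g ∈ B) (hg : orderOf g = 3 ∨ orderOf g = 5) :
    ¬ 8 ∣ Nat.card (centralizer ({g} : Set G)) ∧
    ∀ u ∈ centralizer ({g} : Set G), orderOf u = 2 → IsConj t u := by
  classical
  haveI : Fact (Nat.Prime 2) := ⟨Nat.prime_two⟩
  set K := centralizer ({g} : Set G)
  have hVK : V ≤ K := fun v hv => mem_centralizer_singleton_iff.2 (s.comm v hv g hgB)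
  obtain ⟨S, hS⟩ := (IsPGroup.of_card (p := 2) (n := 2) (G := V.subgroupOf K)
    (by rw [Nat.card_congr (subgroupOfEquivOfLe hVK).toEquiv, s.cardV]; rfl)).exists_le_sylow
  have htS : (⟨t, hVK s.memV⟩ : K) ∈ (S : Subgroup K) := hS (mem_subgroupOf.2 s.memV)
  haveI : Nontrivial (S : Subgroup K) :=
    ⟨⟨_, htS⟩, 1, fun e => p.out.ne_one (congrArg (fun x : (S : Subgroup K) => ((x : K) : G)) e)⟩
  haveI := S.isPGroup'.center_nontrivial
  obtain ⟨⟨c, hc⟩, hc1⟩ := exists_ne (1 : center (S : Subgroup K))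
  obtain ⟨n, hn⟩ := IsPGroup.iff_card.1 S.isPGroup'
  obtain ⟨d, hd, hdo⟩ : ∃ d ∈ zpowers c, orderOf d = 2 := by
    obtain ⟨d, hd⟩ := exists_prime_orderOf_dvd_card' (G := zpowers c) 2 (by
      rw [Nat.card_zpowers]
      obtain ⟨k, -, hk⟩ := (Nat.dvd_prime_pow Nat.prime_two).1 (hn ▸ orderOf_dvd_natCard c)
      rcases k with _ | k
      · exact absurd (orderOf_eq_one_iff.1 (hk.trans (pow_zero 2))) fun e => hc1 (Subtype.ext e)
      · rw [hk, pow_succ]; exact Dvd.intro_left _ rfl)
    exact ⟨d, d.2, by rw [orderOf_coe]; exact hd⟩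
  have hdc : ∀ x : (S : Subgroup K), x * d = d * x := fun x =>
    mem_center_iff.1 (zpowers_le.2 hc hd) x
  have hdt : ((d : K) : G) * t = t * ((d : K) : G) :=
    (congrArg (fun x : (S : Subgroup K) => ((x : K) : G)) (hdc ⟨_, htS⟩)).symm
  have hdo' : orderOf ((d : K) : G) = 2 := by rw [orderOf_coe, orderOf_coe]; exact hdo
  have hdV : ((d : K) : G) ∈ V := p.invol_inf_centralizer_B s hgB hg
    ⟨(d : K).2, mem_centralizer_singleton_iff.2 hdt⟩ (invol_mul_self hdo')
  have hle : (S : Subgroup K) ≤ (centralizer ({t} : Set G)).subgroupOf K := by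
    intro x hx
    rw [mem_subgroupOf, ← p.centralizer_eq s hdV (invol_ne_one hdo'), mem_centralizer_singleton_iff]
    exact congrArg (fun x : (S : Subgroup K) => ((x : K) : G)) (hdc ⟨x, hx⟩)
  have h4 : Nat.card (S : Subgroup K) ∣ 4 * orderOf g := by
    have h := card_dvd_of_le hle
    rwa [← inf_subgroupOf_left, Nat.card_congr (subgroupOfEquivOfLe inf_le_left).toEquiv,
      (p.inf_centralizer_B s hgB hg).1] at h
  have h4' : Nat.card (S : Subgroup K) ∣ 4 := by
    refine Nat.Coprime.dvd_of_dvd_mul_right ?_ h4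
    rw [hn]
    rcases hg with e | e <;> rw [e] <;> exact Nat.Coprime.pow_left n (by decide)
  have hSV : (S : Subgroup K) = V.subgroupOf K := (eq_of_le_of_card_ge hS (by
    rw [Nat.card_congr (subgroupOfEquivOfLe hVK).toEquiv, s.cardV]
    exact Nat.le_of_dvd (by norm_num) h4')).symm
  refine ⟨fun h8 => ?_, fun u hu huo => ?_⟩
  · have h8' : 8 ∣ Nat.card (S : Subgroup K) := by
      refine Nat.Coprime.dvd_of_dvd_mul_right (n := (S : Subgroup K).index) ?_ ?_
      · exact Nat.Coprime.pow_left 3 ((Nat.Prime.coprime_iff_not_dvd Nat.prime_two).2 S.not_dvd_index)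
      · rw [(S : Subgroup K).card_mul_index]; exact h8
    exact absurd (h8'.trans h4') (by norm_num)
  · obtain ⟨S', hS'⟩ := (IsPGroup.of_card (p := 2) (n := 1) (G := zpowers (⟨u, hu⟩ : K))
      (by rw [Nat.card_zpowers, orderOf_mk, huo, pow_one])).exists_le_sylow
    obtain ⟨k, hk⟩ := MulAction.exists_smul_eq K S' S
    have hmem : k * ⟨u, hu⟩ * k⁻¹ ∈ (S : Subgroup K) := by
      rw [← hk, Sylow.coe_subgroup_smul]; exact ⟨_, hS' (mem_zpowers _), rfl⟩
    rw [hSV, mem_subgroupOf] at hmem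
    have hko : orderOf ((k : G) * u * (k : G)⁻¹) = 2 := invol_conj huo (k : G)
    have hB : (k : G) * u * (k : G)⁻¹ ∉ B := fun e => invol_ne_one hko (mem_bot.1 (s.inf.le ⟨hmem, e⟩))
    exact (s.tB _ (s.leV hmem) hko hB).symm.trans (isConj_iff.2 ⟨(k : G)⁻¹, by
      show (k : G)⁻¹ * ((k : G) * u * (k : G)⁻¹) * (k : G)⁻¹⁻¹ = u
      group⟩)

/-- The centralizer of an element of order three or five of the alternating factor. -/
theorem centralizer_cases {g : G} (hgB : g ∈ B) (hg : orderOf g = 3 ∨ orderOf g = 5) :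
    Nat.card (centralizer ({g} : Set G)) = 12 * orderOf g ∨
      ∃ φ : ↥(centralizer ({g} : Set G)) →* A, Function.Surjective φ ∧
        ∀ c, φ c = 1 ↔ (c : G) ∈ zpowers g := by
  classical
  haveI : Fact (Nat.Prime 2) := ⟨Nat.prime_two⟩
  obtain ⟨σ, hσ, hσB, hσV, hσt, -, -⟩ := p.exists_sigma s
  set K := centralizer ({g} : Set G) with hK
  have hodd : Odd (orderOf g) := by rcases hg with e | e <;> rw [e] <;> decide
  have hσK : σ ∈ K := mem_centralizer_singleton_iff.2 (hσB g hgB)
  have hVK : V ≤ K := fun v hv => mem_centralizer_singleton_iff.2 (s.comm v hv g hgB)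
  by_cases hnorm : K ≤ normalizer (V : Set G)
  · left
    rw [p.card_of_moving s hnorm hσK (by rw [← pow_orderOf_eq_one σ, hσ, pow_succ, pow_two]) hσt,
      (p.inf_centralizer_B s hgB hg).1]
    ring
  right
  set π := QuotientGroup.mk' (cyc g)
  let tK : K := ⟨t, hVK s.memV⟩
  have htt : tK * tK = 1 := Subtype.ext p.out.2.2
  have hcard4 : Nat.card (centralizer ({π tK} : Set (↥K ⧸ cyc g))) = 4 := by
    have h := card_centralizer_quot hodd htt
    rw [(p.inf_centralizer_B s hgB hg).1] at h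
    exact Nat.eq_of_mul_eq_mul_right (orderOf_pos g) h
  have hmem : ∀ {x : K}, π x ∈ centralizer ({π tK} : Set (↥K ⧸ cyc g)) ↔
      (x : G) ∈ centralizer ({t} : Set G) := fun {x} => by
    rw [← mem_comap, comap_centralizer hodd htt, mem_subgroupOf]
  have hker : ∀ {x : K}, π x = 1 ↔ (x : G) ∈ zpowers g := fun {x} => by
    rw [QuotientGroup.mk'_apply, QuotientGroup.eq_one_iff, mem_cyc]
  have hexp : ∀ c ∈ centralizer ({π tK} : Set (↥K ⧸ cyc g)), c ^ 2 = 1 := by
    intro c hc
    obtain ⟨x, rfl⟩ := QuotientGroup.mk'_surjective (cyc g) c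
    obtain ⟨v, hv, r, hr, e⟩ := (p.inf_centralizer_B s hgB hg).2 _ (mem_inf.2 ⟨x.2, hmem.1 hc⟩)
    rw [← map_pow, hker]
    show (x : G) ^ 2 ∈ zpowers g
    rw [e, (show Commute v r from s.comm v hv r (zpowers_le.2 hgB hr)).mul_pow, s.sq v hv, one_mul]
    exact pow_mem hr 2
  have hnotR : ∀ {v : G}, v ∈ V → v ∈ zpowers g → v = 1 := fun hv hv' =>
    mem_bot.1 (s.inf.le ⟨hv, zpowers_le.2 hgB hv'⟩)
  have hord : orderOf (π tK) = 2 := orderOf_eq_prime (by rw [pow_two, ← map_mul, htt, map_one])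
    fun e => p.out.ne_one (hnotR s.memV (hker.1 e))
  obtain ⟨eq⟩ : Nonempty ((↥K ⧸ cyc g) ≃* A) := by
    refine iso_alternating_five hord hcard4 hexp ?_ ?_
    · rintro ⟨S, N, hN, hNS⟩
      haveI := hN
      have hidx : N.index = Nat.card (S : Subgroup (↥K ⧸ cyc g)) := hNS.symm.index_eq_card
      obtain ⟨k, hk⟩ := IsPGroup.iff_card.1 S.isPGroup'
      have hσN : π ⟨σ, hσK⟩ ∈ N := by
        have h2 : orderOf (QuotientGroup.mk' N (π ⟨σ, hσK⟩)) ∣ 2 ^ k := by
          rw [← hk, ← hidx, index_eq_card]; exact orderOf_dvd_natCard _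
        have h3 : orderOf (QuotientGroup.mk' N (π ⟨σ, hσK⟩)) ∣ 3 := by
          rw [← hσ, ← Subgroup.orderOf_mk σ hσK]
          exact (orderOf_map_dvd _ _).trans (orderOf_map_dvd _ _)
        have := Nat.eq_one_of_dvd_coprimes (Nat.Coprime.pow_left k (by norm_num)) h2 h3
        rw [orderOf_eq_one_iff] at this
        exact (QuotientGroup.eq_one_iff _).1 this
      have hv : σ * t * σ⁻¹ * t ∈ V := mul_mem (hσV t s.memV) s.memV
      set c : K := ⟨σ, hσK⟩ * tK * ⟨σ, hσK⟩⁻¹ * tK with hc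
      have hcN : π c ∈ N := by
        have hti : tK⁻¹ = tK := inv_eq_of_mul_eq_one_right htt
        rw [hc, show (⟨σ, hσK⟩ : K) * tK * (⟨σ, hσK⟩ : K)⁻¹ * tK =
          ⟨σ, hσK⟩ * (tK * (⟨σ, hσK⟩ : K)⁻¹ * tK⁻¹) by rw [hti]; group, map_mul, map_mul, map_mul, map_inv, map_inv]
        exact mul_mem hσN (hN.conj_mem _ (inv_mem hσN) _)
      have hc1 : π c = 1 := by
        refine eq_one_of_odd_of_mul_self ?_ ?_
        · refine Odd.of_dvd_nat ?_ (orderOf_dvd_natCard N hcN)
          have h1 := S.not_dvd_index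
          rw [show (S : Subgroup (↥K ⧸ cyc g)).index = Nat.card N from hNS.index_eq_card] at h1
          rw [Nat.odd_iff]; omega
        · rw [← map_mul, show c * c = 1 from Subtype.ext (by rw [← pow_two]; exact s.sq _ hv), map_one]
      refine hσt ?_
      have e1 := hnotR hv (hker.1 hc1)
      rw [eq_inv_of_mul_eq_one_left e1, inv_eq_of_mul_eq_one_right p.out.2.2]
    · intro E hE hel
      haveI := hE
      refine ⟨fun h2 => ?_, fun h4 => ?_⟩
      · obtain ⟨x, hx, hux⟩ := (Nat.card_eq_two_iff' (1 : E)).1 h2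
        have hcen : ∀ k, k * (x : ↥K ⧸ cyc g) = x * k := by
          intro k
          have : (⟨k * x * k⁻¹, hE.conj_mem _ x.2 k⟩ : E) = x :=
            hux _ fun e => hx (Subtype.ext (conj_eq_one_iff.1 (congrArg Subtype.val e)))
          exact mul_inv_eq_iff_eq_mul.1 (congrArg Subtype.val this)
        obtain ⟨y, hy⟩ := QuotientGroup.mk'_surjective (cyc g) (x : ↥K ⧸ cyc g)
        have hyt : (y : G) ∈ centralizer ({t} : Set G) := hmem.1 (by
          rw [show π y = x from hy]; exact mem_centralizer_singleton_iff.2 (hcen _).symm)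
        obtain ⟨v, hv, r, hr, e⟩ := (p.inf_centralizer_B s hgB hg).2 _ (mem_inf.2 ⟨y.2, hyt⟩)
        let vK : K := ⟨v, hVK hv⟩
        have hvy : π vK = x := by
          rw [← hy]
          refine inv_mul_eq_one.1 ?_
          rw [← map_inv, ← map_mul, hker]
          show v⁻¹ * (y : G) ∈ zpowers g
          rw [e, inv_mul_cancel_left]; exact hr
        have hv1 : v ≠ 1 := fun e => hx (Subtype.ext (by
          rw [← hvy, show vK = 1 from Subtype.ext e, map_one]; rfl))
        have hvv : vK * vK = 1 := Subtype.ext (by rw [← pow_two]; exact s.sq v hv)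
        have h1 : (⟨σ, hσK⟩ : K) ∈ (centralizer ({(vK : G)} : Set G)).subgroupOf K := by
          rw [← comap_centralizer hodd hvv, mem_comap, mem_centralizer_singleton_iff, hvy]
          exact hcen _
        rw [mem_subgroupOf, p.centralizer_eq s hv hv1, mem_centralizer_singleton_iff] at h1
        exact hσt (by show σ * t * σ⁻¹ = t; rw [h1, mul_inv_cancel_right])
      · refine hnorm fun k hk => mem_normalizer_of_le fun v hv => ?_
        have hEp : IsPGroup 2 E := fun x => ⟨1, Subtype.ext (by simpa using hel.2 x x.2)⟩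
        have hsup : IsPGroup 2 (zpowers (π tK) ⊔ E : Subgroup _) :=
          IsPGroup.to_sup_of_normal_right (IsPGroup.of_card (n := 1) (by
            rw [Nat.card_zpowers, hord, pow_one])) hEp
        obtain ⟨m, hm⟩ := IsPGroup.iff_card.1 hsup
        have h8 : ¬ 8 ∣ Nat.card (↥K ⧸ cyc g) := fun h8 =>
          (p.sylow_centralizer_B s hgB hg).1 (h8.trans (by rw [← index_eq_card]; exact index_dvd_card _))
        have hm2 : m ≤ 2 := by
          by_contra hm2
          exact h8 ((pow_dvd_pow 2 (show 3 ≤ m by omega)).trans (hm ▸ card_subgroup_dvd_card _))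
        have heq : (zpowers (π tK) ⊔ E : Subgroup _) = E := (eq_of_le_of_card_ge le_sup_right (by
          rw [hm, h4]; exact (Nat.pow_le_pow_right (by norm_num) hm2).trans le_rfl)).symm
        have htE : π tK ∈ E := heq.le (mem_sup_left (mem_zpowers _))
        have hEC : E = centralizer ({π tK} : Set (↥K ⧸ cyc g)) := eq_of_le_of_card_ge
          (fun x hx => mem_centralizer_singleton_iff.2
            (congrArg Subtype.val (hel.1.is_comm.comm ⟨x, hx⟩ ⟨_, htE⟩)))
          (by rw [hcard4, h4])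
        let kK : K := ⟨k, hk⟩
        let vK : K := ⟨v, hVK hv⟩
        have hvE : π vK ∈ E := by rw [hEC]; exact hmem.2 (s.leV hv)
        have h1 : π (kK * vK * kK⁻¹) ∈ E := by
          rw [map_mul, map_mul, map_inv]; exact hE.conj_mem _ hvE _
        rw [hEC, hmem] at h1
        refine p.invol_inf_centralizer_B s hgB hg ⟨(kK * vK * kK⁻¹).2, h1⟩ ?_
        calc k * v * k⁻¹ * (k * v * k⁻¹) = k * (v * v) * k⁻¹ := by group
          _ = 1 := by rw [← pow_two, s.sq v hv]; group
  refine ⟨eq.toMonoidHom.comp π, eq.surjective.comp (QuotientGroup.mk'_surjective _), fun c => ?_⟩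
  rw [MonoidHom.comp_apply, MulEquiv.coe_toMonoidHom, map_eq_one_iff _ eq.injective, hker]

end Pt

end CfsgLib.Invol.JTwo
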