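import Cfsg.Agent.Lib.Invol.JTwo.Base

/-!
# Counting pairs of involutions
-/

set_option autoImplicit false

namespace CfsgLib.Invol.JTwo

open Subgroup

variable {G : Type*} [Group G] [Finite G] {z : G} {Q : Subgroup G}

theorem conj_involution {u v : G} (hc : IsConj u v) (hu : orderOf u = 2) : v * v = 1 ∧ v ≠ 1 := by
  obtain ⟨g, rfl⟩ := isConj_iff.1 hc
  exact ⟨invol_mul_self (invol_conj hu g), invol_ne_one (invol_conj hu g)⟩

theorem commute_of_mem_zpowers {u v w : G} (hu : u * u = 1) (hv : v * v = 1)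
    (hw : w ∈ zpowers (u * v)) (hww : w * w = 1) : u * w = w * u ∧ v * w = w * v := by
  obtain ⟨k, hk⟩ := mem_zpowers_iff.1 hw
  have hwi : w⁻¹ = w := inv_eq_of_mul_eq_one_right hww
  have hui : u⁻¹ = u := inv_eq_of_mul_eq_one_right hu
  have hvi : v⁻¹ = v := inv_eq_of_mul_eq_one_right hv
  have h1 : u * w * u⁻¹ = w := by
    conv_rhs => rw [← hwi, ← hk, ← inv_zpow, _root_.mul_inv_rev, hvi, hui]
    rw [← hk, ← conj_zpow]
    congr 1
    rw [hui, ← mul_assoc, hu, one_mul]
  have h2 : v * w * v⁻¹ = w := by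
    conv_rhs => rw [← hwi, ← hk, ← inv_zpow, _root_.mul_inv_rev, hvi, hui]
    rw [← hk, ← conj_zpow]
    congr 1
    rw [hvi, mul_assoc, mul_assoc, hv, mul_one]
  exact ⟨mul_inv_eq_iff_eq_mul.1 h1, mul_inv_eq_iff_eq_mul.1 h2⟩

namespace Hyp

variable (h : Hyp z Q)
include h

/-- The conjugates of `z` in its centralizer. -/
theorem conj_mem_iff {x : G} (hx : Out z Q x) {u : G} :
    (IsConj z u ∧ u * z = z * u) ↔ (u ∈ Q ∧ u * u = 1 ∧ u ≠ 1) := by
  constructor
  · rintro ⟨hu, huz⟩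
    obtain ⟨h2, h1⟩ := conj_involution hu h.inv
    refine ⟨?_, h2, h1⟩
    by_contra hq
    obtain ⟨c, -, hc⟩ := (h.outer_class hx).2 u ⟨mem_centralizer_singleton_iff.2 huz, hq, h2⟩
    exact (h.classes hx).1 (hu.trans (isConj_iff.2 ⟨c⁻¹, by rw [← hc]; group⟩))
  · rintro ⟨hu, h2, h1⟩
    refine ⟨?_, h.z_comm hu⟩
    by_cases e : u = z
    · rw [e]
    · exact h.conj_z hu h2 h1 e

/-- The conjugates of an outer involution in the centralizer. -/
theorem out_iff {x : G} (hx : Out z Q x) {v : G} : (IsConj x v ∧ v * z = z * v) ↔ Out z Q v := by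
  constructor
  · rintro ⟨hv, hvz⟩
    obtain ⟨h2, h1⟩ := conj_involution hv hx.order
    refine ⟨mem_centralizer_singleton_iff.2 hvz, fun hq => ?_, h2⟩
    exact (h.classes hx).1 (((h.conj_mem_iff hx).2 ⟨hq, h2, h1⟩).1.trans hv.symm)
  · intro hv
    obtain ⟨c, -, hc⟩ := (h.outer_class hx).2 v hv
    exact ⟨isConj_iff.2 ⟨c, hc⟩, mem_centralizer_singleton_iff.1 hv.1⟩

theorem card_invol : Nat.card {u : G // u ∈ Q ∧ u * u = 1 ∧ u ≠ 1} = 11 := by
  obtain ⟨f, hfC, hfo, hfix⟩ := h.five_elt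
  exact (HallJanko.invol_data h.card h.zmem h.z_ne h.zz (fun _ => h.z_comm) h.comm h.sq h.cen
    f (by rw [← hfo, pow_orderOf_eq_one]) (h.nrm f hfC) (mem_centralizer_singleton_iff.1 hfC) hfix).1

theorem card_noncommuting {v : G} (hv : Out z Q v) :
    Nat.card {u : G // (u ∈ Q ∧ u * u = 1 ∧ u ≠ 1) ∧ u * v ≠ v * u} = 8 := by
  classical
  letI := Fintype.ofFinite G
  obtain ⟨F⟩ := h.exists_frame
  obtain ⟨hg, hg1⟩ := h.pi_invol F hv
  obtain ⟨i, hi, -⟩ := AltFive.invol_fixed _ hg hg1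
  have h3 : Nat.card {u : G // (u ∈ Q ∧ u * u = 1 ∧ u ≠ 1) ∧ u * v = v * u} = 3 := by
    have e : ({z, F.p i, F.p i * z} : Set G).ncard = 3 := by
      have n3 : F.p i * z ≠ F.p i := fun e => h.z_ne (mul_eq_left.1 e)
      rw [Set.ncard_insert_of_notMem, Set.ncard_pair n3.symm]
      simp only [Set.mem_insert_iff, Set.mem_singleton_iff, not_or]
      exact ⟨(F.ne_z i).symm, fun e => F.ne_one i (mul_eq_right.1 e.symm)⟩
    rw [← e, ← Nat.card_coe_set_eq]
    refine Nat.card_congr (Equiv.subtypeEquivRight fun u => ?_)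
    simp only [Set.mem_insert_iff, Set.mem_singleton_iff]
    constructor
    · rintro ⟨⟨hu, h2, h1⟩, hc⟩
      exact ((h.inf_outer F hv hi u).1 ⟨hu, hc⟩).resolve_left h1
    · intro hu
      obtain ⟨hq, hc⟩ := (h.inf_outer F hv hi u).2 (Or.inr hu)
      refine ⟨⟨hq, ?_⟩, hc⟩
      rcases hu with rfl | rfl | rfl
      · exact ⟨h.zz, h.z_ne⟩
      · exact ⟨F.inv i, F.ne_one i⟩
      · exact ⟨h.mul_z_inv (F.mem i) (F.inv i), fun e => F.ne_z i (by
          calc F.p i = F.p i * z * z := by rw [mul_assoc, h.zz, mul_one]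
            _ = z := by rw [e, one_mul])⟩
  have htot := Fintype.card_subtype_compl (α := {u : G // u ∈ Q ∧ u * u = 1 ∧ u ≠ 1})
    (fun u => u.1 * v = v * u.1)
  rw [← Nat.card_eq_fintype_card, ← Nat.card_eq_fintype_card, ← Nat.card_eq_fintype_card,
    h.card_invol, Nat.card_congr (Equiv.subtypeSubtypeEquivSubtypeInter (fun u : G => u ∈ Q ∧ u * u = 1 ∧ u ≠ 1)
      (fun u => ¬ (u * v = v * u))),
    Nat.card_congr (Equiv.subtypeSubtypeEquivSubtypeInter (fun u : G => u ∈ Q ∧ u * u = 1 ∧ u ≠ 1)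
      (fun u => u * v = v * u)), h3] at htot
  exact htot

theorem pairs_over_z {t : G} (ht : Out z Q t) :
    Nat.card {p : G × G // IsConj z p.1 ∧ IsConj t p.2 ∧ z ∈ zpowers (p.1 * p.2)} = 960 := by
  classical
  letI := Fintype.ofFinite G
  have hiff : ∀ p : G × G, (IsConj z p.1 ∧ IsConj t p.2 ∧ z ∈ zpowers (p.1 * p.2)) ↔
      (Out z Q p.2 ∧ (p.1 ∈ Q ∧ p.1 * p.1 = 1 ∧ p.1 ≠ 1) ∧ p.1 * p.2 ≠ p.2 * p.1) := by
    rintro ⟨u, v⟩
    constructor
    · rintro ⟨hu, hv, hm⟩
      obtain ⟨hu2, hu1⟩ := conj_involution hu h.inv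
      obtain ⟨hv2, hv1⟩ := conj_involution hv ht.order
      obtain ⟨huz, hvz⟩ := commute_of_mem_zpowers hu2 hv2 hm h.zz
      have hvo := (h.out_iff ht).1 ⟨hv, hvz⟩
      have huQ := (h.conj_mem_iff ht).1 ⟨hu, huz⟩
      refine ⟨hvo, huQ, fun huv => ?_⟩
      have hsq : u * v * (u * v) = 1 := by
        calc u * v * (u * v) = u * (v * u) * v := by group
          _ = u * u * (v * v) := by rw [← huv]; group
          _ = 1 := by rw [hu2, hv2, one_mul]
      obtain ⟨k, hk⟩ := mem_zpowers_iff.1 hm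
      rcases Int.even_or_odd' k with ⟨m, rfl | rfl⟩
      · rw [zpow_mul, zpow_two, hsq, one_zpow] at hk; exact h.z_ne hk.symm
      · rw [zpow_add, zpow_mul, zpow_two, hsq, one_zpow, one_mul, zpow_one] at hk
        have hk' : u * v = z := hk
        refine hvo.2.1 ?_
        rw [show v = u⁻¹ * (u * v) by group, hk']
        exact mul_mem (inv_mem huQ.1) h.zmem
    · rintro ⟨hvo, ⟨huQ, hu2, hu1⟩, huv⟩
      refine ⟨((h.conj_mem_iff ht).2 ⟨huQ, hu2, hu1⟩).1, ((h.out_iff ht).2 hvo).1, ?_⟩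
      have hvz := mem_centralizer_singleton_iff.1 hvo.1
      have hw := HallJanko.comm_square hu2 hvo.2.2
      set u' := v * u * v⁻¹ with hu'
      have hu'Q : u' ∈ Q := h.nrm v hvo.1 u huQ
      have hu'2 : u' * u' = 1 := by
        calc u' * u' = v * (u * u) * v⁻¹ := by rw [hu']; group
          _ = 1 := by rw [hu2]; group
      have hu'1 : u' ≠ 1 := fun e => hu1 (conj_eq_one_iff.1 e)
      have huz : u ≠ z := fun e => huv (by rw [e]; exact hvz.symm)
      have hu'z : u' ≠ z := fun e => huz (by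
        calc u = v⁻¹ * u' * v := by rw [hu']; group
          _ = z := by rw [e, mul_assoc, ← hvz, inv_mul_cancel_left])
      by_cases hcm : u * u' = u' * u
      · rcases h.commuting_invol huQ hu2 hu1 huz hu'Q hu'2 hcm with e | e | e | e
        · exact absurd e hu'1
        · exact absurd e hu'z
        · exact absurd (show u * v = v * u from (mul_inv_eq_iff_eq_mul.1 (hu' ▸ e)).symm) huv
        · refine mem_zpowers_iff.2 ⟨2, ?_⟩
          show (u * v) ^ (2 : ℤ) = z
          rw [show (2 : ℤ) = ((2 : ℕ) : ℤ) from rfl, zpow_natCast, hw, e, ← mul_assoc, hu2, one_mul]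
      · have e := (h.comm u huQ u' hu'Q).resolve_left hcm
        refine mem_zpowers_iff.2 ⟨4, ?_⟩
        show (u * v) ^ (4 : ℤ) = z
        rw [show (4 : ℤ) = ((4 : ℕ) : ℤ) from rfl, zpow_natCast, show 4 = 2 * 2 from rfl, pow_mul, hw,
          pow_two]
        calc u * u' * (u * u') = z * (u' * u) * (u * u') := by rw [e]
          _ = z * (u' * (u * u) * u') := by group
          _ = z := by rw [hu2, mul_one, hu'2, mul_one]
  rw [Nat.card_congr (Equiv.subtypeEquivRight hiff)]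
  let e : {p : G × G // Out z Q p.2 ∧ (p.1 ∈ Q ∧ p.1 * p.1 = 1 ∧ p.1 ≠ 1) ∧ p.1 * p.2 ≠ p.2 * p.1} ≃
      Σ v : {v : G // Out z Q v}, {u : G // (u ∈ Q ∧ u * u = 1 ∧ u ≠ 1) ∧ u * v.1 ≠ v.1 * u} :=
    { toFun := fun p => ⟨⟨p.1.2, p.2.1⟩, ⟨p.1.1, p.2.2⟩⟩
      invFun := fun q => ⟨(q.2.1, q.1.1), q.1.2, q.2.2⟩
      left_inv := fun p => rfl
      right_inv := fun q => rfl }
  rw [Nat.card_congr e, Nat.card_sigma, Finset.sum_congr rfl fun v _ => h.card_noncommuting v.2,
    Finset.sum_const, Finset.card_univ, ← Nat.card_eq_fintype_card, h.card_out ht]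
  rfl

/-- The order formula. -/
theorem order_formula {t : G} (ht : Out z Q t) :
    Nat.card G = Nat.card (centralizer ({t} : Set G)) * 960 +
      1920 * Nat.card {p : G × G // IsConj z p.1 ∧ IsConj t p.2 ∧ t ∈ zpowers (p.1 * p.2)} := by
  obtain ⟨hnc, hall⟩ := h.classes ht
  have e := thompson_two_classes z t h.inv ht.order hnc hall
  rw [h.pairs_over_z ht, h.card_C] at e
  exact e

theorem pairs_over_t {t : G} (ht : Out z Q t) (V B : Subgroup G)
    (hVD : V ≤ centralizer ({t} : Set G)) (hBD : B ≤ centralizer ({t} : Set G))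
    (hVBc : ∀ v ∈ V, ∀ b ∈ B, v * b = b * v) (hVBi : V ⊓ B = ⊥)
    (hVfac : ∀ x ∈ centralizer ({t} : Set G), ∃ v ∈ V, ∃ b ∈ B, x = v * b)
    (hV2 : ∀ v ∈ V, v ^ 2 = 1) (htV : t ∈ V) (eB : B ≃* alternatingGroup (Fin 5))
    (hzB : ∀ x : G, IsConj z x ∧ x * t = t * x ↔ x ∈ B ∧ x * x = 1 ∧ x ≠ 1)
    (hCt : ∀ x ∈ centralizer ({t} : Set G), orderOf x = 2 → x ∉ B → IsConj x t) :
    Nat.card {p : G × G // IsConj z p.1 ∧ IsConj t p.2 ∧ t ∈ zpowers (p.1 * p.2)} = 195 := by
  classical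
  letI := Fintype.ofFinite G
  have hz := h.inv
  have htt : t * t = 1 := ht.2.2
  have hord : ∀ {a : G}, a * a = 1 → a ≠ 1 → orderOf a = 2 := fun {a} h h' =>
    orderOf_eq_prime (by rw [pow_two]; exact h) h'
  have hzt := (h.classes ht).1
  have hconjz : ∀ {u : G}, IsConj z u → u * u = 1 ∧ u ≠ 1 := fun h => conj_involution h hz
  have hconjt : ∀ {u : G}, IsConj t u → u * u = 1 ∧ u ≠ 1 := fun h' => conj_involution h' ht.order
  have hcommpow : ∀ {u v w : G}, u * u = 1 → v * v = 1 → w ∈ Subgroup.zpowers (u * v) → w * w = 1 →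
      u * w = w * u ∧ v * w = w * v := fun h1 h2 h3 h4 => commute_of_mem_zpowers h1 h2 h3 h4
  have hDmem : ∀ {a : G}, a ∈ centralizer ({t} : Set G) ↔ a * t = t * a := fun {a} =>
    mem_centralizer_singleton_iff
  set D := centralizer ({t} : Set G)
  have hBz : ∀ x ∈ B, orderOf x = 2 → IsConj x z := fun x hx ho =>
    ((hzB x).2 ⟨hx, invol_mul_self ho, invol_ne_one ho⟩).1.symm
  have hVuniq : ∀ v ∈ V, ∀ b ∈ B, ∀ v' ∈ V, ∀ b' ∈ B, v * b = v' * b' → v = v' ∧ b = b' := by
    intro v hv b hb v' hv' b' hb' h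
    have h1 : v'⁻¹ * v ∈ V ⊓ B := ⟨V.mul_mem (V.inv_mem hv') hv, by
      rw [show v'⁻¹ * v = b' * b⁻¹ by rw [eq_mul_inv_iff_mul_eq, mul_assoc, h, inv_mul_cancel_left]]
      exact B.mul_mem hb' (B.inv_mem hb)⟩
    rw [hVBi, Subgroup.mem_bot, inv_mul_eq_one] at h1
    exact ⟨h1.symm, mul_left_cancel (h1 ▸ h)⟩
  have ht := ht.order
  have hN2 : Nat.card {p : G × G // IsConj z p.1 ∧ IsConj t p.2 ∧ t ∈ Subgroup.zpowers (p.1 * p.2)} = 195 := by
    rw [← CfsgLib.Invol.HallJanko.alt_five_odd_pairs, ← Nat.card_eq_fintype_card]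
    have ht1 : t ≠ 1 := fun h => by rw [h, orderOf_one] at ht; omega
    have htB : t ∉ B := fun h => hzt (hBz t h ht).symm
    have hfwd : ∀ p : {p : G × G // IsConj z p.1 ∧ IsConj t p.2 ∧ t ∈ Subgroup.zpowers (p.1 * p.2)},
        ∃ b ∈ B, p.1.2 = t * b ∧ p.1.1 ∈ B ∧ b * b = 1 ∧ p.1.1 * p.1.1 = 1 ∧ p.1.1 ≠ 1 ∧
          (p.1.1 * b) ^ 15 = 1 := by
      rintro ⟨⟨u, v⟩, hu, hv, hm⟩
      obtain ⟨hu2, hu1⟩ := hconjz hu
      obtain ⟨hv2, -⟩ := hconjt hv
      obtain ⟨hut, hvt⟩ := hcommpow hu2 hv2 hm htt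
      have huB := ((hzB u).1 ⟨hu, hut⟩).1
      obtain ⟨w, hw, b, hb, rfl⟩ := hVfac v (hDmem.2 hvt)
      have hb2 : b * b = 1 := by
        have e : w * b * (w * b) = w * w * (b * b) := by
          calc w * b * (w * b) = w * (b * w) * b := by group
            _ = w * w * (b * b) := by rw [← hVBc w hw b hb]; group
        rw [hv2, ← pow_two w, hV2 w hw, one_mul] at e
        exact e.symm
      have hexp : (u * b) ^ 30 = 1 := by
        have h := CfsgLib.Invol.HallJanko.alt_five_exponent (eB ⟨u * b, B.mul_mem huB hb⟩)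
        rw [← map_pow, map_eq_one_iff _ eB.injective] at h
        exact congrArg Subtype.val h
      obtain ⟨k, hk⟩ := Subgroup.mem_zpowers_iff.1 hm
      have hcw : Commute w (u * b) := hVBc w hw _ (B.mul_mem huB hb)
      have hprod : u * (w * b) = w * (u * b) := by rw [← mul_assoc, ← hVBc w hw u huB, mul_assoc]
      have hk' : w ^ k * (u * b) ^ k = t * 1 := by
        rw [← hcw.mul_zpow, ← hprod, mul_one]; exact hk
      obtain ⟨hwk, hbk⟩ := hVuniq _ (V.zpow_mem hw k) _ (B.zpow_mem (B.mul_mem huB hb) k) t htV 1 B.one_mem hk'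
      rcases Int.even_or_odd' k with ⟨m, rfl | rfl⟩
      · rw [zpow_mul, zpow_two, ← pow_two, hV2 w hw, one_zpow] at hwk
        exact absurd hwk.symm ht1
      · rw [zpow_add, zpow_mul, zpow_two, ← pow_two, hV2 w hw, one_zpow, one_mul, zpow_one] at hwk
        subst hwk
        refine ⟨b, hb, rfl, huB, hb2, hu2, hu1, ?_⟩
        have h30 : (u * b) ^ (30 : ℤ) = 1 := by rw [show (30 : ℤ) = ((30 : ℕ) : ℤ) from rfl, zpow_natCast]; exact hexp
        have h15 : (u * b) ^ ((2 * m + 1) * 15) = 1 := by rw [zpow_mul, hbk, one_zpow]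
        rw [show (2 * m + 1) * 15 = 30 * m + ((15 : ℕ) : ℤ) by push_cast; ring, zpow_add, zpow_mul, h30,
          one_zpow, one_mul, zpow_natCast] at h15
        exact h15
    choose b hb hpb hpB hb2 hu2 hu1 h15 using hfwd
    exact Nat.card_congr
      { toFun := fun p => ⟨(eB ⟨p.1.1, hpB p⟩, eB ⟨b p, hb p⟩),
          by rw [← map_mul]; exact (map_eq_one_iff _ eB.injective).2 (Subtype.ext (hu2 p)),
          fun h => hu1 p (congrArg Subtype.val ((map_eq_one_iff _ eB.injective).1 h)),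
          by rw [← map_mul]; exact (map_eq_one_iff _ eB.injective).2 (Subtype.ext (hb2 p)),
          by rw [← map_mul, ← map_pow]; exact (map_eq_one_iff _ eB.injective).2 (Subtype.ext (h15 p))⟩
        invFun := fun q => ⟨((eB.symm q.1.1 : G), t * (eB.symm q.1.2 : G)), by
          obtain ⟨⟨q1, q2⟩, e1, e2, e3, e4⟩ := q
          set u : G := (eB.symm q1 : G) with hudef
          set c : G := (eB.symm q2 : G) with hcdef
          have huB : u ∈ B := (eB.symm q1).2
          have hcB : c ∈ B := (eB.symm q2).2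
          have hu2 : u * u = 1 := by
            have := congrArg eB.symm e1; rw [map_mul, map_one] at this
            exact congrArg Subtype.val this
          have hu1 : u ≠ 1 := fun h => e2 (by
            have h' : eB.symm q1 = 1 := Subtype.ext h
            rw [← eB.apply_symm_apply q1, h', map_one])
          have hc2 : c * c = 1 := by
            have := congrArg eB.symm e3; rw [map_mul, map_one] at this
            exact congrArg Subtype.val this
          have h15 : (u * c) ^ 15 = 1 := by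
            have := congrArg eB.symm e4; rw [map_pow, map_mul, map_one] at this
            exact congrArg Subtype.val this
          have htc : t * c = c * t := hVBc t htV c hcB
          have hv2 : t * c * (t * c) = 1 := by
            calc t * c * (t * c) = t * (c * t) * c := by group
              _ = t * t * (c * c) := by rw [← htc]; group
              _ = 1 := by rw [htt, hc2, one_mul]
          have hvB : t * c ∉ B := fun h => htB (by simpa using B.mul_mem h (B.inv_mem hcB))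
          have hv1 : t * c ≠ 1 := fun h => hvB (h ▸ B.one_mem)
          refine ⟨((hzB u).2 ⟨huB, hu2, hu1⟩).1,
            (hCt _ (D.mul_mem (hVD htV) (hBD hcB)) (hord hv2 hv1) hvB).symm, ?_⟩
          refine Subgroup.mem_zpowers_iff.2 ⟨15, ?_⟩
          show (u * (t * c)) ^ (15 : ℤ) = t
          have hcomm : Commute t (u * c) := hVBc t htV _ (B.mul_mem huB hcB)
          rw [show u * (t * c) = t * (u * c) by rw [← mul_assoc, ← hVBc t htV u huB, mul_assoc],
            show (15 : ℤ) = ((15 : ℕ) : ℤ) from rfl, zpow_natCast, hcomm.mul_pow, h15, mul_one,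
            show 15 = 2 * 7 + 1 from rfl, pow_succ, pow_mul, pow_two, htt, one_pow, one_mul]⟩
        left_inv := fun p => Subtype.ext (Prod.ext (by simp) (by simpa using (hpb p).symm))
        right_inv := fun q => by
          refine Subtype.ext (Prod.ext (by simp) ?_)
          generalize_proofs _ _ _ hmem hb'
          simp only
          refine Eq.trans (congrArg eB (Subtype.ext ?_)) (eB.apply_symm_apply _)
          show b _ = _
          apply mul_left_cancel (a := t)
          exact (hpb _).symm }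
  exact hN2

end Hyp

end CfsgLib.Invol.JTwo
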