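import Mathlib.GroupTheory.SpecificGroups.Alternating

/-!
# Facts on the alternating group of degree five used for groups of Hall–Janko type
-/

set_option autoImplicit false

namespace CfsgLib.Invol.JTwo.AltFive

local notation "A" => alternatingGroup (Fin 5)

/-- The action on points. -/
abbrev act (g : A) (i : Fin 5) : Fin 5 := (g : Equiv.Perm (Fin 5)) i

/-- Vectors of even weight. -/
abbrev Even5 (v : Fin 5 → Bool) : Prop := (v 0 ^^ v 1 ^^ v 2 ^^ v 3 ^^ v 4) = false

/-- Vectors fixed by an element. -/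
abbrev Fix (g : A) (v : Fin 5 → Bool) : Prop := ∀ i, v (act g i) = v i

theorem card_A : Nat.card A = 60 := by
  rw [Nat.card_eq_fintype_card]; decide +kernel

theorem card_even : Fintype.card {v : Fin 5 → Bool // Even5 v} = 16 := by decide +kernel

theorem invol_fixed : ∀ g : A, g * g = 1 → g ≠ 1 → ∃ i, act g i = i ∧ ∀ j, act g j = j → j = i := by
  decide +kernel

theorem three_fixed : ∀ g : A, g * g * g = 1 → g ≠ 1 →
    ∃ i j, i ≠ j ∧ act g i = i ∧ act g j = j ∧ ∀ k, act g k = k → k = i ∨ k = j := by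
  decide +kernel

theorem invol_fix_card : ∀ g : A, g * g = 1 → g ≠ 1 →
    Fintype.card {v : Fin 5 → Bool // Even5 v ∧ Fix g v} = 4 := by
  decide +kernel

theorem three_fix_card : ∀ g : A, g * g * g = 1 → g ≠ 1 →
    Fintype.card {v : Fin 5 → Bool // Even5 v ∧ Fix g v} = 4 := by
  decide +kernel

theorem invol_count : Fintype.card {g : A // g * g = 1 ∧ g ≠ 1} = 15 := by decide +kernel

theorem invol_conj : ∀ g h : A, g * g = 1 → g ≠ 1 → h * h = 1 → h ≠ 1 → ∃ k : A, k * g * k⁻¹ = h := by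
  decide +kernel

theorem invol_centralizer : ∀ g : A, g * g = 1 → g ≠ 1 →
    Fintype.card {k : A // k * g = g * k} = 4 := by
  decide +kernel

theorem invol_commute_fixed : ∀ g k : A, g * g = 1 → g ≠ 1 → k * g = g * k →
    k * k = 1 ∧ ∀ i, act g i = i → act k i = i := by
  decide +kernel

theorem stab_card : ∀ i : Fin 5, Fintype.card {g : A // act g i = i} = 12 := by decide +kernel

theorem four_card : ∀ i : Fin 5, Fintype.card {g : A // g * g = 1 ∧ act g i = i} = 4 := by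
  decide +kernel

theorem four_mul (g h : A) (hg : g * g = 1) (hh : h * h = 1) (i : Fin 5) (hgi : act g i = i)
    (hhi : act h i = i) : g * h = h * g ∧ g * h * (g * h) = 1 ∧ act (g * h) i = i := by
  have key : ∀ i : Fin 5, ∀ g : {g : A // g * g = 1 ∧ act g i = i},
      ∀ h : {g : A // g * g = 1 ∧ act g i = i},
      g.1 * h.1 = h.1 * g.1 ∧ g.1 * h.1 * (g.1 * h.1) = 1 ∧ act (g.1 * h.1) i = i := by decide +kernel
  exact key i ⟨g, hg, hgi⟩ ⟨h, hh, hhi⟩

theorem transitive : ∀ i j : Fin 5, ∃ g : A, act g i = j := by decide +kernel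

end CfsgLib.Invol.JTwo.AltFive

namespace CfsgLib.Invol.JTwo.AltFive

local notation "A" => alternatingGroup (Fin 5)

/-- The complement of a unit vector. -/
abbrev co (i : Fin 5) : Fin 5 → Bool := fun k => decide (i ≠ k)

theorem co_even : ∀ i : Fin 5, Even5 (co i) := by decide +kernel

theorem even_zero_at : ∀ i : Fin 5, Fintype.card {v : Fin 5 → Bool // Even5 v ∧ v i = false} = 8 := by
  decide +kernel

theorem invol_fix_span (g : A) (hg : g * g = 1) (hg1 : g ≠ 1) (v : Fin 5 → Bool) (hv : Even5 v)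
    (hf : Fix g v) : (∀ k, v k = false) ∨ (∃ j, ∀ k, v k = (co j k ^^ co (act g j) k)) ∨
      ∃ j l, ∀ k, v k = ((co j k ^^ co (act g j) k) ^^ (co l k ^^ co (act g l) k)) := by
  have key : ∀ g : {g : A // g * g = 1 ∧ g ≠ 1}, ∀ v : {v : Fin 5 → Bool // Even5 v},
      Fix g.1 v.1 → (∀ k, v.1 k = false) ∨ (∃ j, ∀ k, v.1 k = (co j k ^^ co (act g.1 j) k)) ∨
      ∃ j l, ∀ k, v.1 k = ((co j k ^^ co (act g.1 j) k) ^^ (co l k ^^ co (act g.1 l) k)) := by
    decide +kernel
  exact key ⟨g, hg, hg1⟩ ⟨v, hv⟩ hf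

theorem invol_span_commute : ∀ g : A, g * g = 1 → ∀ j l : Fin 5,
    ((co j l ^^ co (act g j) l) ^^ (co j (act g l) ^^ co (act g j) (act g l))) = false := by
  decide +kernel

theorem fix_co : ∀ g : A, ∀ i : Fin 5, Fix g (co i) → act g i = i := by decide +kernel

theorem invol_ne_one_of_move : ∀ g : A, ∀ i : Fin 5, act g i ≠ i → g ≠ 1 := by decide +kernel

end CfsgLib.Invol.JTwo.AltFive

namespace CfsgLib.Invol.JTwo.AltFive

local notation "A" => alternatingGroup (Fin 5)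

theorem four_three (g k : A) (hg : g * g = 1) (hk : k * k * k = 1) (hk1 : k ≠ 1) (i : Fin 5)
    (hgi : act g i = i) (hki : act k i = i) (h : g * k = k * g) : g = 1 := by
  have key : ∀ i : Fin 5, ∀ g : {g : A // g * g = 1 ∧ act g i = i},
      ∀ k : {k : A // k * k * k = 1 ∧ k ≠ 1 ∧ act k i = i}, g.1 * k.1 = k.1 * g.1 → g.1 = 1 := by
    decide +kernel
  exact key i ⟨g, hg, hgi⟩ ⟨k, hk, hk1, hki⟩ h

set_option synthInstance.maxSize 2048 in
theorem four_cases (g k l : A) (hg : g * g = 1) (hk : k * k = 1) (hl : l * l = 1) (i : Fin 5)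
    (hgi : act g i = i) (hki : act k i = i) (hli : act l i = i) (hg1 : g ≠ 1) (hk1 : k ≠ 1) (hkg : k ≠ g) :
    l = 1 ∨ l = g ∨ l = k ∨ l = k * g := by
  have key : ∀ i : Fin 5, ∀ g k l : {g : A // g * g = 1 ∧ act g i = i}, g.1 ≠ 1 → k.1 ≠ 1 → k.1 ≠ g.1 →
      l.1 = 1 ∨ l.1 = g.1 ∨ l.1 = k.1 ∨ l.1 = k.1 * g.1 := by decide +kernel
  exact key i ⟨g, hg, hgi⟩ ⟨k, hk, hki⟩ ⟨l, hl, hli⟩ hg1 hk1 hkg

/-- The four-group fixing a point. -/
def four (i : Fin 5) : Subgroup A where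
  carrier := {g | g * g = 1 ∧ act g i = i}
  one_mem' := ⟨one_mul 1, rfl⟩
  mul_mem' := fun {g h} hg hh => (four_mul g h hg.1 hh.1 i hg.2 hh.2).2
  inv_mem' := fun {g} hg => by
    show g⁻¹ * g⁻¹ = 1 ∧ act g⁻¹ i = i
    rw [inv_eq_of_mul_eq_one_right hg.1]
    exact hg

theorem card_four (i : Fin 5) : Nat.card (four i) = 4 := by
  rw [← four_card i, ← Nat.card_eq_fintype_card]
  exact Nat.card_congr (Equiv.subtypeEquivRight fun g => Iff.rfl)

end CfsgLib.Invol.JTwo.AltFive
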