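import Cfsg.Agent.Lib.Invol.JTwo.Center
import Cfsg.Agent.Lib.Invol.ZStar

/-!
# An involution of Hall–Janko type in a simple group is not weakly closed in the extraspecial group
-/

set_option autoImplicit false

namespace CfsgLib.Invol.JTwo

open Subgroup

variable {G : Type*} [Group G] {z : G} {Q : Subgroup G}

namespace PreHyp

variable (h : PreHyp z Q)
include h

/-- A commuting conjugate gives a conjugate inside the extraspecial group. -/
theorem exists_nwc_of_commuting [Finite G] {x : G} (hxC : x ∈ centralizer ({z} : Set G))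
    (hxz : x ≠ z) (hc : IsConj z x) : ∃ a ∈ Q, a ≠ z ∧ IsConj z a := by
  by_contra hw
  push Not at hw
  have hweak : ∀ a ∈ Q, IsConj z a → a = z := fun a ha hac => by_contra fun hne => hw a ha hne hac
  obtain ⟨g, rfl⟩ := isConj_iff.1 hc
  set x := g * z * g⁻¹ with hxdef
  have hxx : x * x = 1 := invol_mul_self (invol_conj h.inv g)
  have hxQ : x ∉ Q := fun hm => hxz (hweak x hm hc)
  have hx : Out z Q x := ⟨hxC, hxQ, hxx⟩
  obtain ⟨F⟩ := h.exists_frame
  obtain ⟨hg, hg1⟩ := h.pi_invol F hx
  obtain ⟨i, hi, -⟩ := AltFive.invol_fixed _ hg hg1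
  have hpx := h.commute_point F hx hi
  have key : ∀ a ∈ Q, a * a = 1 → a ≠ 1 → a ≠ z → a * x = x * a → g⁻¹ * a * g ∈ Q := by
    intro a ha haa ha1 haz hax
    by_contra hn
    have hout : Out z Q (g⁻¹ * a * g) := ⟨mem_centralizer_singleton_iff.2 (by
        calc g⁻¹ * a * g * z = g⁻¹ * (a * x) * g := by rw [hxdef]; group
          _ = g⁻¹ * (x * a) * g := by rw [hax]
          _ = z * (g⁻¹ * a * g) := by rw [hxdef]; group), hn, by
        calc g⁻¹ * a * g * (g⁻¹ * a * g) = g⁻¹ * (a * a) * g := by group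
          _ = 1 := by rw [haa]; group⟩
    obtain ⟨c, -, hc'⟩ := (h.outer_class hx).2 _ hout
    refine haz (hweak a ha ?_)
    exact (hc.trans (isConj_iff.2 ⟨c, hc'⟩)).trans (isConj_iff.2 ⟨g, by group⟩)
  have h1 := key _ (F.mem i) (F.inv i) (F.ne_one i) (F.ne_z i) hpx.symm
  have h2 := key (F.p i * z) (mul_mem (F.mem i) h.zmem) (h.mul_z_inv (F.mem i) (F.inv i))
    (fun e => F.ne_z i (by
      calc F.p i = F.p i * z * z := by rw [mul_assoc, h.zz, mul_one]
        _ = z := by rw [e, one_mul]))
    (fun e => F.ne_one i (mul_eq_right.1 e)) (by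
      rw [mul_assoc, ← mem_centralizer_singleton_iff.1 hxC, ← mul_assoc, ← hpx, mul_assoc])
  have hz' : g⁻¹ * z * g ∈ Q := by
    have e : g⁻¹ * z * g = g⁻¹ * F.p i * g * (g⁻¹ * (F.p i * z) * g) := by
      calc g⁻¹ * z * g = g⁻¹ * (F.p i * F.p i * z) * g := by rw [F.inv, one_mul]
        _ = _ := by group
    rw [e]; exact mul_mem h1 h2
  have he := hweak _ hz' (isConj_iff.2 ⟨g⁻¹, by group⟩)
  exact hxz (by
    rw [hxdef]
    calc g * z * g⁻¹ = g * (g⁻¹ * z * g) * g⁻¹ := by rw [he]
      _ = z := by group)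

/-- In a simple group the involution is not weakly closed in the extraspecial group. -/
theorem exists_nwc [Finite G] [IsSimpleGroup G] : ∃ a ∈ Q, a ≠ z ∧ IsConj z a := by
  by_cases hx : ∀ g : G, Commute z (g * z * g⁻¹) → g * z * g⁻¹ = z
  · exfalso
    have hz := CfsgLib.Invol.zstar (z := z) ⟨h.inv, hx⟩
    haveI := Coprime.pPrimeCore_characteristic (G := G) 2
    haveI : (Cfsg.pPrimeCore 2 G).Normal := inferInstance
    rcases (inferInstance : IsSimpleGroup G).eq_bot_or_eq_top_of_normal (Cfsg.pPrimeCore 2 G) inferInstance with e | e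
    · have hC : centralizer ({z} : Set G) = ⊤ := eq_top_iff.2 fun g _ => mem_centralizer_singleton_iff.2 (by
        have := hz g
        rw [e, mem_bot] at this
        exact (mul_inv_eq_iff_eq_mul.1 (mul_inv_eq_one.1 this)).symm)
      haveI : Q.Normal := ⟨fun a ha c => h.nrm c (hC ▸ mem_top c) a ha⟩
      have hcard := h.card_C
      rw [hC, card_top] at hcard
      rcases (inferInstance : IsSimpleGroup G).eq_bot_or_eq_top_of_normal Q inferInstance with e' | e'
      · have := h.card; rw [e', card_bot] at this; norm_num at this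
      · have := h.card; rw [e', card_top, hcard] at this; norm_num at this
    · refine Coprime.pPrimeCore_not_dvd (G := G) Nat.prime_two ?_
      rw [e, card_top, ← h.inv]
      exact orderOf_dvd_natCard z
  · push Not at hx
    obtain ⟨g, hg, hne⟩ := hx
    exact h.exists_nwc_of_commuting (mem_centralizer_singleton_iff.2 hg.eq.symm) hne
      (isConj_iff.2 ⟨g, rfl⟩)

end PreHyp

end CfsgLib.Invol.JTwo
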