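import Cfsg.Agent.Lib.Invol.JTwo.Base
import Cfsg.Agent.Lib.Invol.JTwo.Fusion
import Cfsg.Agent.Lib.Classical.ExcIsoTwo
import Cfsg.Agent.Lib.Coprime.Component
import Cfsg.Agent.Lib.Coprime.Core
import Cfsg.Agent.Lib.PGroup.ExtraspecialClassify
import Cfsg.Prelude.Def_Classical

/-!
# The hypothesis from the Prelude form
-/

set_option autoImplicit false

namespace CfsgLib.Invol.JTwo

open Subgroup

theorem omega_equiv :
    Nonempty (↥(Cfsg.Omega (ZMod 2) (Cfsg.quadFormMinus 1 (ZMod 2) 1 1)) ≃* alternatingGroup (Fin 5)) := by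
  obtain ⟨e⟩ := CfsgLib.Classical.ExcIsoTwo.iso_minus_two (F := ZMod 2) (ZMod.card 2)
  have halt : commutator (Equiv.Perm (Fin 5)) = alternatingGroup (Fin 5) := by
    refine le_antisymm alternatingGroup.commutator_perm_le ?_
    rw [← commutator_alternatingGroup_eq_self (α := Fin 5) (by simp), commutator_def]
    exact Subgroup.commutator_mono le_top le_top
  have hmap : (commutator ↥(Cfsg.isometryGroup (ZMod 2) (Cfsg.quadFormMinus 1 (ZMod 2) 1 1))).map e.toMonoidHom =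
      alternatingGroup (Fin 5) := by
    rw [← halt, commutator_def, commutator_def, Subgroup.map_commutator, ← MonoidHom.range_eq_map,
      MonoidHom.range_eq_top.2 (show Function.Surjective e.toMonoidHom from e.surjective)]
  exact ⟨((commutator _).equivMapOfInjective e.toMonoidHom e.injective).trans (MulEquiv.subgroupCongr hmap)⟩

theorem prehyp_of {G : Type*} [Group G] [Finite G] (z : G) (hz : orderOf z = 2)
    (Q : Subgroup (Subgroup.centralizer ({z} : Set G))) [Q.Normal]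
    (hselfc : centralizer (Q : Set (centralizer ({z} : Set G))) ≤ Q)
    (hQ : Cfsg.IsExtraspecial 2 Q) (hcard : Nat.card Q = 2 ^ 5)
    (e : (Subgroup.centralizer ({z} : Set G)) ⧸ Q ≃* alternatingGroup (Fin 5)) :
    PreHyp z (Q.map (Subgroup.centralizer ({z} : Set G)).subtype) := by
  haveI : Fact (Nat.Prime 2) := ⟨Nat.prime_two⟩
  have hmem : ∀ (a : G) (ha : a ∈ (centralizer ({z} : Set G))), a ∈ Q.map (centralizer ({z} : Set G)).subtype ↔ (⟨a, ha⟩ : (centralizer ({z} : Set G))) ∈ Q := fun a ha =>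
    ⟨fun ⟨b, hb, he⟩ => by subst he; exact hb, fun h => ⟨_, h, rfl⟩⟩
  have hle : Q.map (centralizer ({z} : Set G)).subtype ≤ (centralizer ({z} : Set G)) := map_subtype_le _
  have hzz : z * z = 1 := invol_mul_self hz
  have hzC : z ∈ (centralizer ({z} : Set G)) := mem_centralizer_singleton_iff.2 rfl
  have hzQ : (⟨z, hzC⟩ : (centralizer ({z} : Set G))) ∈ Q := hselfc (mem_centralizer_iff.2 fun b _ =>
    Subtype.ext (mem_centralizer_singleton_iff.1 b.2))
  obtain ⟨hsc, -⟩ := CfsgLib.PGroup.smallCenter_of_extraspecial (p := 2) hQ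
  have hcen : ∀ a : Q, a ∈ center Q → ((a : (centralizer ({z} : Set G))) : G) = 1 ∨ ((a : (centralizer ({z} : Set G))) : G) = z := by
    intro a ha
    have hzc : (⟨⟨z, hzC⟩, hzQ⟩ : Q) ∈ center Q :=
      mem_center_iff.2 fun b => Subtype.ext (Subtype.ext (mem_centralizer_singleton_iff.1 b.1.2))
    have hzc1 : (⟨⟨z, hzC⟩, hzQ⟩ : Q) ≠ 1 := fun h => invol_ne_one hz (congrArg (fun q : Q => ((q : (centralizer ({z} : Set G))) : G)) h)
    obtain ⟨k, hk⟩ := mem_zpowers_iff.1 (hsc.zpowers_cover hzc hzc1 ha)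
    have hk' : ((a : (centralizer ({z} : Set G))) : G) = z ^ k := by rw [← hk]; simp
    rw [hk']
    rcases Int.even_or_odd' k with ⟨m, rfl | rfl⟩
    · left; rw [zpow_mul, zpow_two, hzz, one_zpow]
    · right; rw [zpow_add, zpow_mul, zpow_two, hzz, one_zpow, one_mul, zpow_one]
  refine
    { inv := hz, le := hle, nrm := ?_, card := ?_, zmem := ⟨_, hzQ, rfl⟩, comm := ?_, sq := ?_, cen := ?_,
      self := ?_, quot := ?_ }
  · rintro c hc a ⟨a', ha', rfl⟩
    exact ⟨_, (inferInstance : Q.Normal).conj_mem a' ha' ⟨c, hc⟩, rfl⟩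
  · rw [Nat.card_congr (Q.equivMapOfInjective (centralizer ({z} : Set G)).subtype (centralizer ({z} : Set G)).subtype_injective).toEquiv.symm, hcard]; rfl
  · rintro _ ⟨a, ha, rfl⟩ _ ⟨b, hb, rfl⟩
    have h := hsc.comm_mem ⟨a, ha⟩ ⟨b, hb⟩
    rcases hcen _ h with h' | h' <;> rw [commutatorElement_def] at h' <;>
      simp only [Subgroup.coe_mul, Subgroup.coe_inv] at h'
    · exact Or.inl (calc (a : G) * b = (a : G) * b * (a : G)⁻¹ * (b : G)⁻¹ * (b * a) := by group
        _ = b * a := by rw [h', one_mul])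
    · exact Or.inr (calc (a : G) * b = (a : G) * b * (a : G)⁻¹ * (b : G)⁻¹ * (b * a) := by group
        _ = z * (b * a) := by rw [h'])
  · rintro _ ⟨a, ha, rfl⟩
    have h := hcen _ (hsc.pow_mem ⟨a, ha⟩)
    simpa [pow_two] using h
  · rintro _ ⟨a, ha, rfl⟩ hab
    exact hcen ⟨a, ha⟩ (mem_center_iff.2 fun b => Subtype.ext (Subtype.ext (hab _ ⟨_, b.2, rfl⟩).symm))
  · intro c hc hcc
    exact (hmem c hc).2 (hselfc (mem_centralizer_iff.2 fun b hb => Subtype.ext (hcc _ ⟨b, hb, rfl⟩).symm))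
  · refine ⟨e.toMonoidHom.comp (QuotientGroup.mk' Q),
      e.surjective.comp (QuotientGroup.mk'_surjective Q), fun c => ?_⟩
    rw [MonoidHom.comp_apply, MulEquiv.coe_toMonoidHom, map_eq_one_iff _ e.injective,
      QuotientGroup.mk'_apply, QuotientGroup.eq_one_iff, hmem c.1 c.2]

theorem hyp_of {G : Type*} [Group G] [Finite G] (z : G) (hz : orderOf z = 2)
    (Q : Subgroup (Subgroup.centralizer ({z} : Set G))) [Q.Normal]
    (hF : Cfsg.generalizedFittingSubgroup (Subgroup.centralizer ({z} : Set G)) = Q)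
    (hQ : Cfsg.IsExtraspecial 2 Q) (hcard : Nat.card Q = 2 ^ 5)
    (e : (Subgroup.centralizer ({z} : Set G)) ⧸ Q ≃* Cfsg.Omega (ZMod 2) (Cfsg.quadFormMinus 1 (ZMod 2) 1 1))
    (hnwc : ∃ g : G, (∃ hq : g * z * g⁻¹ ∈ Subgroup.centralizer ({z} : Set G),
      (⟨g * z * g⁻¹, hq⟩ : Subgroup.centralizer ({z} : Set G)) ∈ Q) ∧ g * z * g⁻¹ ≠ z)
    (hcl : ∃ x y : G, orderOf x = 2 ∧ orderOf y = 2 ∧ ¬ IsConj x y) :
    Hyp z (Q.map (Subgroup.centralizer ({z} : Set G)).subtype) := by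
  obtain ⟨eO⟩ := omega_equiv
  refine { toPreHyp := prehyp_of z hz Q ?_ hQ hcard (e.trans eO), nwc := ?_, two := hcl }
  · rw [← hF]; exact CfsgLib.Coprime.centralizer_generalizedFitting_le
  · obtain ⟨g, ⟨hq, hqQ⟩, hne⟩ := hnwc
    exact ⟨g * z * g⁻¹, ⟨_, hqQ, rfl⟩, hne, isConj_iff.2 ⟨g, rfl⟩⟩

/-- The hypothesis in a simple group. -/
theorem hyp_of_simple {G : Type*} [Group G] [Finite G] [IsSimpleGroup G] (z : G) (hz : orderOf z = 2)
    (Q : Subgroup (Subgroup.centralizer ({z} : Set G))) [Q.Normal]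
    (hselfc : centralizer (Q : Set (centralizer ({z} : Set G))) ≤ Q)
    (hQ : Cfsg.IsExtraspecial 2 Q) (hcard : Nat.card Q = 2 ^ 5)
    (e : (Subgroup.centralizer ({z} : Set G)) ⧸ Q ≃* alternatingGroup (Fin 5))
    (hcl : ∃ x y : G, orderOf x = 2 ∧ orderOf y = 2 ∧ ¬ IsConj x y) :
    Hyp z (Q.map (Subgroup.centralizer ({z} : Set G)).subtype) :=
  let h := prehyp_of z hz Q hselfc hQ hcard e
  { toPreHyp := h, nwc := h.exists_nwc, two := hcl }

end CfsgLib.Invol.JTwo
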