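import Cfsg.Agent.Lib.Invol.JTwo.Unique
import Cfsg.Agent.Lib.Invol.JTwo.Bridge
import Cfsg.Agent.Lib.Char.J2.ReflCentralizer

/-!
# The centralizer of a central involution in the Hall–Janko group
-/

set_option autoImplicit false
set_option maxRecDepth 10000

namespace CfsgLib.Invol.JTwo

open Subgroup CfsgLib.Char.J2
open scoped Pointwise

local notation "A" => alternatingGroup (Fin 5)

theorem stab100_words_check :
    (stabWords.getD 0 [] ∈ stabWords ∧ coreWords.getD 2 [] ∈ coreWords) ∧
    (bimg (coreWords.getD 2 [] ++ stabWords.getD 0 []) != bimg (stabWords.getD 0 [] ++ coreWords.getD 2 [])) = true ∧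
    (bimg (coreWords.getD 2 [] ++ stabWords.getD 0 []) != bimg (zWord ++ (stabWords.getD 0 [] ++ coreWords.getD 2 []))) = true := by
  decide +kernel

/-- An involution word outside the core. -/
def outWord : List ℕ := [1, 0, 2, 3, 1, 2, 1, 2, 1, 0, 3, 1, 2, 3, 0, 2, 1, 3, 2, 1, 2]

theorem outWord_check : decide (wPerm outWord 314 = 314) = true ∧ (bimg (outWord ++ outWord) == bimg []) = true ∧
    (frW outWord == List.finRange 5) = false := by
  decide +kernel

/-- The model. -/
theorem stab100_prehyp : ∃ (z : ↥stab100) (Q : Subgroup ↥stab100),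
    centralizer ({z} : Set ↥stab100) = ⊤ ∧ PreHyp z Q ∧ ∃ x, Out z Q x := by
  classical
  obtain ⟨ψ₀, hψ₀⟩ := exists_frame100
  obtain ⟨hlen, hmem, -, -, hcomm, -, hcen, hzc⟩ := coreWords_check
  simp only [List.all_eq_true, List.any_eq_true, Bool.and_eq_true, Bool.or_eq_true, decide_eq_true_eq,
    beq_iff_eq, Bool.not_eq_true', beq_eq_false_iff_ne, ne_eq] at hmem hcomm hcen hzc
  obtain ⟨⟨hw0, hq2⟩, hne1, hne2⟩ := stab100_words_check
  simp only [bne_iff_ne, ne_eq] at hne1 hne2
  obtain ⟨ho1, ho2, ho3⟩ := outWord_check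
  simp only [decide_eq_true_eq, beq_iff_eq, beq_eq_false_iff_ne, ne_eq] at ho1 ho2 ho3
  obtain ⟨ψ, hψr, hψk, hψE⟩ := stab100_structure
  haveI : Fact (Nat.Prime 2) := ⟨Nat.prime_two⟩
  -- the two kernels coincide
  have hstab : ∀ w : List ℕ, wPerm w 314 = 314 → gWord w ∈ lineStab := fun w hw =>
    mem_lineStab.2 (Fin.ext ((lineFun_gWord _ _).trans hw))
  let el : {w : List ℕ // wPerm w 314 = 314} → ↥stab100 := fun w => ⟨rho (gWord w.1), gWord w.1, hstab w.1 w.2, rfl⟩
  have helmul : ∀ u v : {w : List ℕ // wPerm w 314 = 314},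
      ((el u * el v : ↥stab100) : Equiv.Perm (Fin 100)) = rho (gWord (u.1 ++ v.1)) := fun u v => by
    rw [gWord_append, map_mul]; rfl
  -- the central involution and the extraspecial kernel
  obtain ⟨e5⟩ : Nonempty (↥stab100 ⧸ ψ.ker ≃* A) :=
    ⟨(QuotientGroup.quotientKerEquivRange ψ).trans (MulEquiv.subgroupCongr hψr)⟩
  haveI : IsSimpleGroup A := alternatingGroup.isSimpleGroup (by simp)
  let φ : ↥stab100 →* A := e5.toMonoidHom.comp (QuotientGroup.mk' ψ.ker)
  have hφs : Function.Surjective φ := e5.surjective.comp (QuotientGroup.mk'_surjective _)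
  have hφk : φ.ker = ψ.ker := by
    ext c
    rw [MonoidHom.mem_ker, MonoidHom.comp_apply, MulEquiv.coe_toMonoidHom, map_eq_one_iff _ e5.injective,
      QuotientGroup.mk'_apply, QuotientGroup.eq_one_iff]
  let φ' : ↥stab100 →* Equiv.Perm (Fin 5) := ψ₀
  have hψ₀r : φ'.range = A := by
    rw [← range_frameHom]
    refine le_antisymm ?_ ?_
    · rintro _ ⟨⟨_, g, hg, rfl⟩, rfl⟩
      exact ⟨⟨g, hg⟩, (hψ₀ ⟨g, hg⟩).symm⟩
    · rintro _ ⟨g, rfl⟩
      exact ⟨_, hψ₀ g⟩
  -- both kernels are the normal subgroup of order thirty-two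
  have hk0 : Nat.card φ'.ker = 32 := by
    have h := Subgroup.card_mul_index φ'.ker
    rw [Subgroup.index_ker, hψ₀r, card_stab100, AltFive.card_A] at h
    omega
  have hker : φ'.ker = ψ.ker := by
    have hm : (φ'.ker.map φ).Normal := (inferInstance : φ'.ker.Normal).map φ hφs
    rcases hm.eq_bot_or_eq_top with e | e
    · refine eq_of_le_of_card_ge (fun x hx => ?_) (by rw [hψk, hk0])
      rw [← hφk, MonoidHom.mem_ker]
      have : φ x ∈ φ'.ker.map φ := ⟨x, hx, rfl⟩
      rwa [e, mem_bot] at this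
    · exfalso
      have := Subgroup.card_map_dvd φ'.ker φ
      rw [e, card_top, AltFive.card_A, hk0] at this
      norm_num at this
  have hin : ∀ (w : List ℕ) (hw : w ∈ coreWords), el ⟨w, (hmem w hw).1⟩ ∈ ψ.ker := fun w hw => by
    rw [← hker, MonoidHom.mem_ker]
    show ψ₀ _ = 1
    rw [hψ₀ ⟨gWord w, hstab w (hmem w hw).1⟩]
    refine Equiv.ext fun d => ?_
    rw [frameHom_gWord (hstab w (hmem w hw).1), (hmem w hw).2]
    simp
  have hz : zWord ∈ coreWords := by decide +kernel
  set z : ↥stab100 := el ⟨zWord, (hmem _ hz).1⟩ with hzdef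
  let F : Fin 32 → ψ.ker := fun k => ⟨_, hin (coreWords[k.1]'(by rw [hlen]; exact k.2)) (List.getElem_mem _)⟩
  have hF : Function.Injective F := by
    intro a b e
    obtain ⟨-, -, hnd, -⟩ := coreWords_check
    have e' := (bimg_eq_iff _ _).2 (congrArg (fun x : ψ.ker => ((x.1 : ↥stab100) : Equiv.Perm (Fin 100))) e)
    rw [← List.getElem_map bimg (h := by rw [List.length_map, hlen]; exact a.2),
      ← List.getElem_map bimg (h := by rw [List.length_map, hlen]; exact b.2), hnd.getElem_inj_iff] at e'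
    exact Fin.ext e'
  have hall : ∀ q ∈ ψ.ker, ∃ w, ∃ hw : w ∈ coreWords, q = el ⟨w, (hmem w hw).1⟩ := fun q hq => by
    obtain ⟨k, hk⟩ := (hF.bijective_of_nat_card_le (by rw [hψk, Nat.card_fin])).2 ⟨q, hq⟩
    exact ⟨coreWords[k.1]'(by rw [hlen]; exact k.2), List.getElem_mem _, (congrArg Subtype.val hk).symm⟩
  have hzQ : z ∈ ψ.ker := hin _ hz
  have hz1 : z ≠ 1 := by
    intro e
    have e' : rho (gWord zWord) = rho (gWord []) := (congrArg Subtype.val e).trans (by rw [gWord, map_one]; rfl)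
    rw [← bimg_eq_iff] at e'
    revert e'
    decide +kernel
  have hz2 : z * z = 1 := by
    refine Subtype.ext ?_
    rw [helmul, show ((1 : ↥stab100) : Equiv.Perm (Fin 100)) = rho (gWord []) by rw [gWord, map_one]; rfl]
    exact (bimg_eq_iff (zWord ++ zWord) []).1 (by decide +kernel)
  have hzcen : ∀ g : ↥stab100, g * z = z * g := by
    intro g
    have hzk : ∀ q ∈ ψ.ker, q * z = z * q := fun q hq => by
      obtain ⟨w, hw, rfl⟩ := hall q hq
      refine Subtype.ext ?_
      rw [helmul, helmul]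
      exact ((bimg_eq_iff _ _).1 (hzc w hw)).symm
    -- the conjugate of `z` is the nontrivial central element of the kernel
    have hgz : g * z * g⁻¹ ∈ ψ.ker := (inferInstance : ψ.ker.Normal).conj_mem _ hzQ g
    obtain ⟨u, hu, he⟩ := hall _ hgz
    have hne : g * z * g⁻¹ ≠ 1 := fun e => hz1 (conj_eq_one_iff.1 e)
    rcases hcen u hu with (e | e) | ⟨v, hv, hne'⟩
    · refine absurd (he.trans (Subtype.ext ?_)) hne
      show rho (gWord u) = 1
      rw [e, gWord, map_one]
    · have : g * z * g⁻¹ = z := he.trans (Subtype.ext (by show rho (gWord u) = rho (gWord zWord); rw [e]))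
      rwa [mul_inv_eq_iff_eq_mul] at this
    · exfalso
      have h0 : g⁻¹ * el ⟨v, (hmem v hv).1⟩ * g ∈ ψ.ker := by
        have := (inferInstance : ψ.ker.Normal).conj_mem _ (hin v hv) g⁻¹
        rwa [inv_inv] at this
      have hc := hzk _ h0
      have hcc : el ⟨v, (hmem v hv).1⟩ * (g * z * g⁻¹) = g * z * g⁻¹ * el ⟨v, (hmem v hv).1⟩ := by
        calc el ⟨v, (hmem v hv).1⟩ * (g * z * g⁻¹) = g * (g⁻¹ * el ⟨v, (hmem v hv).1⟩ * g * z) * g⁻¹ := by group
          _ = g * (z * (g⁻¹ * el ⟨v, (hmem v hv).1⟩ * g)) * g⁻¹ := by rw [hc]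
          _ = _ := by group
      rw [he] at hcc
      have := congrArg Subtype.val hcc
      rw [helmul, helmul, ← bimg_eq_iff] at this
      exact hne' this.symm
  have htop : centralizer ({z} : Set ↥stab100) = ⊤ :=
    eq_top_iff.2 fun g _ => mem_centralizer_singleton_iff.2 (hzcen g)
  -- the kernel contains its centralizer
  have hself : centralizer (ψ.ker : Set ↥stab100) ≤ ψ.ker := by
    haveI : (centralizer (ψ.ker : Set ↥stab100)).Normal := inferInstance
    rcases ((inferInstance : (centralizer (ψ.ker : Set ↥stab100)).Normal).map φ hφs).eq_bot_or_eq_top with e | e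
    · intro x hx
      rw [← hφk, MonoidHom.mem_ker]
      have : φ x ∈ (centralizer (ψ.ker : Set ↥stab100)).map φ := ⟨x, hx, rfl⟩
      rwa [e, mem_bot] at this
    · exfalso
      have hgw : wPerm (stabWords.getD 0 []) 314 = 314 := by decide +kernel
      set g := el ⟨(stabWords.getD 0 []), hgw⟩
      obtain ⟨c, hc, hcφ⟩ := (e ▸ mem_top (φ g) : φ g ∈ (centralizer (ψ.ker : Set ↥stab100)).map φ)
      have hq : c⁻¹ * g ∈ ψ.ker := by rw [← hφk, MonoidHom.mem_ker, map_mul, map_inv, hcφ, inv_mul_cancel]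
      obtain ⟨u, hu, hue⟩ := hall _ hq
      set q := el ⟨(coreWords.getD 2 []), (hmem _ hq2).1⟩
      have hcq : c * q = q * c := (mem_centralizer_iff.1 hc q (hin _ hq2)).symm
      have hgc : g = c * el ⟨u, (hmem u hu).1⟩ := by rw [← hue, mul_inv_cancel_left]
      rcases hcomm u hu _ hq2 with r | r
      · have hu' : el ⟨u, (hmem u hu).1⟩ * q = q * el ⟨u, (hmem u hu).1⟩ := Subtype.ext (by
          rw [helmul, helmul]; exact (bimg_eq_iff _ _).1 r)
        have : q * g = g * q := by rw [hgc, ← mul_assoc, ← hcq, mul_assoc, ← hu', mul_assoc]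
        have e1 := congrArg Subtype.val this
        rw [helmul, helmul, ← bimg_eq_iff] at e1
        exact hne1 e1
      · have hu' : el ⟨u, (hmem u hu).1⟩ * q = z * (q * el ⟨u, (hmem u hu).1⟩) := Subtype.ext (by
          have := (bimg_eq_iff _ _).1 r
          rw [gWord_append zWord, map_mul] at this
          rw [helmul, this]
          show _ = rho (gWord zWord) * ((q * el ⟨u, (hmem u hu).1⟩ : ↥stab100) : Equiv.Perm (Fin 100))
          rw [helmul])
        have : q * g = z * (g * q) := by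
          calc q * g = q * c * el ⟨u, (hmem u hu).1⟩ := by rw [hgc, mul_assoc]
            _ = c * (q * el ⟨u, (hmem u hu).1⟩) := by rw [← hcq, mul_assoc]
            _ = c * (z * (el ⟨u, (hmem u hu).1⟩ * q)) := by rw [hu', ← mul_assoc z z, hz2, one_mul]
            _ = z * (g * q) := by rw [← mul_assoc c, hzcen c, hgc]; group
        have e1 := congrArg Subtype.val this
        rw [show ((q * g : ↥stab100) : Equiv.Perm (Fin 100)) = rho (gWord (coreWords.getD 2 [] ++ stabWords.getD 0 [])) from helmul _ _,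
          show ((z * (g * q) : ↥stab100) : Equiv.Perm (Fin 100)) = rho (gWord (zWord ++ (stabWords.getD 0 [] ++ coreWords.getD 2 []))) from by
            rw [gWord_append zWord, map_mul, ← helmul ⟨stabWords.getD 0 [], hgw⟩ ⟨coreWords.getD 2 [], (hmem _ hq2).1⟩]; rfl, ← bimg_eq_iff] at e1
        exact hne2 e1
  have hzo : orderOf z = 2 := orderOf_eq_prime (by rw [pow_two, hz2]) hz1
  have hle : ψ.ker ≤ centralizer ({z} : Set ↥stab100) := by rw [htop]; exact le_top
  have hpre : PreHyp z ψ.ker :=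
    { inv := hzo
      le := hle
      nrm := fun c _ a ha => (inferInstance : ψ.ker.Normal).conj_mem a ha c
      card := hψk
      zmem := hzQ
      comm := fun a ha b hb => by
        obtain ⟨u, hu, rfl⟩ := hall a ha
        obtain ⟨v, hv, rfl⟩ := hall b hb
        rcases hcomm u hu v hv with r | r
        · exact Or.inl (Subtype.ext (by rw [helmul, helmul]; exact (bimg_eq_iff _ _).1 r))
        · refine Or.inr (Subtype.ext ?_)
          have := (bimg_eq_iff _ _).1 r
          rw [gWord_append zWord, map_mul] at this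
          rw [helmul, this]
          show _ = rho (gWord zWord) * ((el ⟨v, (hmem v hv).1⟩ * el ⟨u, (hmem u hu).1⟩ : ↥stab100) : Equiv.Perm (Fin 100))
          rw [helmul]
      sq := fun a ha => by
        obtain ⟨u, hu, rfl⟩ := hall a ha
        obtain ⟨-, -, -, -, -, hsq, -, -⟩ := coreWords_check
        simp only [List.all_eq_true, Bool.or_eq_true, beq_iff_eq] at hsq
        rcases hsq u hu with r | r
        · refine Or.inl (Subtype.ext ?_)
          rw [helmul, (bimg_eq_iff _ _).1 r, gWord, map_one]; rfl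
        · refine Or.inr (Subtype.ext ?_)
          rw [helmul, (bimg_eq_iff _ _).1 r]
      cen := fun a ha hb => by
        obtain ⟨u, hu, rfl⟩ := hall a ha
        rcases hcen u hu with (r | r) | ⟨v, hv, hne'⟩
        · exact Or.inl (Subtype.ext (by show rho (gWord u) = 1; rw [r, gWord, map_one]))
        · exact Or.inr (Subtype.ext (by show rho (gWord u) = rho (gWord zWord); rw [r]))
        · have := congrArg Subtype.val (hb _ (hin v hv))
          rw [helmul, helmul, ← bimg_eq_iff] at this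
          exact absurd this hne'
      self := fun c _ hc => hself (mem_centralizer_iff.2 fun a ha => (hc a ha).symm)
      quot := ⟨φ.comp (centralizer ({z} : Set ↥stab100)).subtype, fun u => by
        obtain ⟨g, rfl⟩ := hφs u
        exact ⟨⟨g, htop ▸ mem_top g⟩, rfl⟩, fun c => by rw [MonoidHom.comp_apply, ← MonoidHom.mem_ker, hφk]; rfl⟩ }
  refine ⟨z, ψ.ker, htop, hpre, el ⟨outWord, ho1⟩, mem_centralizer_singleton_iff.2 (hzcen _), fun hout => ?_,
    Subtype.ext ?_⟩
  · obtain ⟨u, hu, he⟩ := hall _ hout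
    apply ho3
    have hk : el ⟨outWord, ho1⟩ ∈ φ'.ker := hker.symm ▸ hout
    have hone : ψ₀ ⟨rho (gWord outWord), gWord outWord, hstab _ ho1, rfl⟩ = 1 := hk
    rw [hψ₀ ⟨gWord outWord, hstab _ ho1⟩] at hone
    refine List.ext_getElem (by simp [frW]) fun d hd1 hd2 => ?_
    have hd : d < 5 := by simpa [frW] using hd1
    have := congrArg (fun p : Equiv.Perm (Fin 5) => p ⟨d, hd⟩) hone
    rw [frameHom_gWord, List.getD_eq_getElem _ _ hd1] at this
    simpa using this
  · rw [helmul, (bimg_eq_iff _ _).1 ho2, gWord, map_one]; rfl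

/-- A group of that shape is the centralizer of a central involution of the Hall–Janko group. -/
theorem exists_iso_J2 {G : Type*} [Group G] [Finite G] {z : G} {Q : Subgroup G} (h : PreHyp z Q)
    (hx : ∃ x, Out z Q x) :
    ∃ (z' : Cfsg.Spor.J2) (R : Sylow 2 Cfsg.Spor.J2), orderOf z' = 2 ∧ z' ∈ (R : Subgroup Cfsg.Spor.J2) ∧
      (∀ s ∈ (R : Subgroup Cfsg.Spor.J2), s * z' = z' * s) ∧
      Nonempty (↥(centralizer ({z} : Set G)) ≃* ↥(centralizer ({z'} : Set Cfsg.Spor.J2))) := by
  classical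
  haveI : Fact (Nat.Prime 2) := ⟨Nat.prime_two⟩
  haveI : Finite Cfsg.Spor.J2 := Nat.finite_of_card_ne_zero (by rw [card_J2]; norm_num)
  obtain ⟨zs, Qs, htop, hs, hxs⟩ := stab100_prehyp
  obtain ⟨e1⟩ := h.centralizer_iso hs hx hxs
  let e2 : ↥(centralizer ({zs} : Set ↥stab100)) ≃* ↥stab100 := (MulEquiv.subgroupCongr htop).trans Subgroup.topEquiv
  let x₀ : ↥Cfsg.Spor.twoJ2 := toIsom.symm (lineRefl exI)
  have hto : toIsom x₀ = lineRefl exI := MulEquiv.apply_symm_apply _ _
  have hrefl : Cfsg.Spor.IsIcoReflection x₀.1 :=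
    isIcoReflection_lineRefl exI
  obtain ⟨e3⟩ := exists_centralizer_equiv hrefl
  set z' : Cfsg.Spor.J2 := QuotientGroup.mk x₀ with hz'
  have hcard : Nat.card (centralizer ({z'} : Set Cfsg.Spor.J2)) = 1920 := by
    rw [Nat.card_congr e3.toEquiv, card_stab100]
  have hx2 : z' * z' = 1 := by
    rw [hz', ← QuotientGroup.mk_mul, show x₀ * x₀ = 1 from toIsom.injective (by
      rw [map_mul, hto, map_one]
      refine Subtype.ext (Equiv.ext fun x => Subtype.ext ?_)
      show ((lineRefl exI).1 ((lineRefl exI).1 x)).1 = x.1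
      rw [lineRefl_apply, lineRefl_apply]
      exact qrefl_self (qip_row exI) _), QuotientGroup.mk_one]
  have hx1 : z' ≠ 1 := fun e => by
    have hc : centralizer ({z'} : Set Cfsg.Spor.J2) = ⊤ :=
      eq_top_iff.2 fun g _ => mem_centralizer_singleton_iff.2 (by rw [e, mul_one, one_mul])
    rw [hc, card_top, card_J2] at hcard
    norm_num at hcard
  set C := centralizer ({z'} : Set Cfsg.Spor.J2)
  obtain ⟨R₀⟩ : Nonempty (Sylow 2 C) := inferInstance
  let R' : Subgroup Cfsg.Spor.J2 := (R₀ : Subgroup C).map C.subtype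
  have hR : Nat.card R' = 2 ^ (Nat.card Cfsg.Spor.J2).factorization 2 := by
    rw [← Nat.card_congr ((R₀ : Subgroup C).equivMapOfInjective C.subtype C.subtype_injective).toEquiv,
      R₀.card_eq_multiplicity, hcard, card_J2,
      show (1920 : ℕ) = 2 ^ 7 * 15 by norm_num, show (604800 : ℕ) = 2 ^ 7 * 4725 by norm_num,
      Nat.factorization_mul (by norm_num) (by norm_num), Nat.factorization_mul (by norm_num) (by norm_num)]
    simp [Nat.prime_two.factorization_self, Nat.factorization_eq_zero_of_not_dvd]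
  refine ⟨z', Sylow.ofCard R' hR, orderOf_eq_prime (by rw [pow_two, hx2]) hx1, ?_, ?_,
    ⟨e1.trans (e2.trans e3.symm)⟩⟩
  · rw [Sylow.coe_ofCard]
    have hzC : z' ∈ C := mem_centralizer_singleton_iff.2 rfl
    have hnorm : (zpowers (⟨z', hzC⟩ : C)).Normal := ⟨fun a ha g => by
      obtain ⟨k, rfl⟩ := mem_zpowers_iff.1 ha
      have hc : Commute g (⟨z', hzC⟩ : C) := Subtype.ext (mem_centralizer_singleton_iff.1 g.2)
      rw [(hc.zpow_right k).eq, mul_inv_cancel_right]
      exact zpow_mem (mem_zpowers _) k⟩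
    have hp : IsPGroup 2 (zpowers (⟨z', hzC⟩ : C)) := IsPGroup.of_card (n := 1) (by
      rw [Nat.card_zpowers, pow_one]
      exact orderOf_eq_prime (Subtype.ext (by rw [SubgroupClass.coe_pow, pow_two]; exact hx2))
        (fun e => hx1 (congrArg Subtype.val e)))
    obtain ⟨R₁, hR₁⟩ := hp.exists_le_sylow
    obtain ⟨g, hg⟩ := MulAction.exists_smul_eq C R₁ R₀
    refine ⟨⟨z', hzC⟩, ?_, rfl⟩
    have hm : (⟨z', hzC⟩ : C) ∈ (MulAut.conj g • (R₁ : Subgroup C) : Subgroup C) := by
      refine ⟨⟨z', hzC⟩, hR₁ (mem_zpowers _), ?_⟩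
      show g * ⟨z', hzC⟩ * g⁻¹ = _
      rw [show g * ⟨z', hzC⟩ = ⟨z', hzC⟩ * g from Subtype.ext (mem_centralizer_singleton_iff.1 g.2),
        mul_inv_cancel_right]
    rw [← Sylow.coe_subgroup_smul, hg] at hm
    exact hm
  · rw [Sylow.coe_ofCard]
    rintro _ ⟨c, -, rfl⟩
    exact mem_centralizer_singleton_iff.1 c.2

end CfsgLib.Invol.JTwo
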