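import Cfsg.Agent.Lib.Invol.JTwo.ConfigBase
import Cfsg.Agent.Lib.Spor.J2Unique.Iso
import Mathlib.GroupTheory.SpecificGroups.Alternating.Simple

/-!
# The configuration in a group of Hall–Janko type
-/

set_option autoImplicit false

namespace CfsgLib.Invol.JTwo

open Subgroup CfsgLib.Spor.TC CfsgLib.Spor.HN CfsgLib.Spor.J2Unique

local notation "A" => alternatingGroup (Fin 5)

variable {G : Type*} [Group G]

theorem ev_congr {g g' : ℕ → G} : ∀ {w : List ℕ}, (∀ x ∈ w, g x = g' x) → ev g w = ev g' w :=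
  fun h => congrArg List.prod (List.map_congr_left h)

theorem ev_com {g : ℕ → G} (hg : ∀ x, g (x ^^^ 1) = (g x)⁻¹) {x y : List ℕ}
    (h : ev g x * ev g y = ev g y * ev g x) : ev g (com x y) = 1 := by
  rw [com, ev_append, ev_append, ev_append, ev_inv' hg, ev_inv' hg]
  calc (ev g x)⁻¹ * (ev g y)⁻¹ * ev g x * ev g y = (ev g y * ev g x)⁻¹ * (ev g x * ev g y) := by group
    _ = 1 := by rw [h, inv_mul_cancel]

/-- The four elements of a twin. -/
def word4 (ψ χ : A →* G) : ℕ → G := gv (ψ Icosa.a0) (ψ Icosa.b0) (χ Icosa.a0) (χ Icosa.b0)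

/-- The local letters of a twin. -/
def word4' (ψ χ : A →* G) : ℕ → G := letterVal [χ Icosa.a0, χ Icosa.b0, ψ Icosa.r0, ψ Icosa.s0]

variable (ψ χ : A →* G)

theorem word4_psi {w : List ℕ} (hw : ∀ x ∈ w, x < 4) : ev (word4 ψ χ) w = ψ (ev Icosa.c0 w) := by
  rw [Icosa.c0, map_ev_letterVal]
  refine ev_congr fun x hx => ?_
  have := hw x hx
  interval_cases x <;> simp [word4, gv, letterVal]

theorem elR_eq : elR (ψ Icosa.a0) (ψ Icosa.b0) (χ Icosa.a0) (χ Icosa.b0) = ψ Icosa.r0 :=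
  word4_psi ψ χ (by decide)

theorem elS_eq : elS (ψ Icosa.a0) (ψ Icosa.b0) (χ Icosa.a0) (χ Icosa.b0) = ψ Icosa.s0 :=
  word4_psi ψ χ (by decide)

theorem lv_eq : lv (ψ Icosa.a0) (ψ Icosa.b0) (χ Icosa.a0) (χ Icosa.b0) = word4' ψ χ := by
  rw [lv, elR_eq, elS_eq]
  rfl

theorem word4'_chi {w : List ℕ} (hw : ∀ x ∈ w, x < 4) : ev (word4' ψ χ) w = χ (ev Icosa.c0 w) := by
  rw [Icosa.c0, map_ev_letterVal]
  refine ev_congr fun x hx => ?_
  have := hw x hx
  interval_cases x <;> simp [word4', letterVal]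

/-- The five conjugates. -/
def point (k : Fin 5) : G := (χ (ev Icosa.c0 (lW k)))⁻¹ * ψ Icosa.s0 * χ (ev Icosa.c0 (lW k))

theorem ev_pt (k : Fin 5) : ev (word4' ψ χ) (lPt k) = point ψ χ k := by
  have h4 : ∀ x ∈ lW k, x < 4 := by revert k; decide
  rw [lPt, ev_append, ev_append, ev_inv' (g := word4' ψ χ) (letterVal_xor _), word4'_chi ψ χ h4]
  simp [point, ev, word4', letterVal]

theorem point_zero : point ψ χ 0 = ψ Icosa.s0 := by simp [point, lW, ev]

variable {z : G} {Q : Subgroup G}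

/-- Everything known about the five conjugates. -/
structure Points (z : G) (Q : Subgroup G) (ψ χ : A →* G) (F : Frame z Q) (τ : Equiv.Perm (Fin 5)) : Prop where
  hyp : Hyp z Q
  r_eq : ψ Icosa.r0 = z
  twin : Twin z ψ χ
  memC : ∀ u, χ u ∈ centralizer ({z} : Set G)
  act : ∀ u (hu : χ u ∈ centralizer ({z} : Set G)) (i : Fin 5),
    AltFive.act (F.π ⟨χ u, hu⟩) i = τ (AltFive.act u (τ.symm i))
  memQ : ∀ k, point ψ χ k ∈ Q
  sq : ∀ k, point ψ χ k * point ψ χ k = 1
  chi : ∀ k, F.chi (point ψ χ k) = AltFive.co (τ (Icosa.pt k))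
  lift : ∀ y : ↥(centralizer ({z} : Set G)), ∃ (u : A) (hu : χ u ∈ centralizer ({z} : Set G)), F.π ⟨χ u, hu⟩ = F.π y

theorem exists_points [Finite G] (h : Hyp z Q) (tw : Twin z ψ χ) (hz : ψ Icosa.r0 = z) :
    ∃ (F : Frame z Q) (τ : Equiv.Perm (Fin 5)), Points z Q ψ χ F τ := by
  classical
  obtain ⟨F⟩ := h.exists_frame
  have hC : ∀ u, χ u ∈ centralizer ({z} : Set G) := fun u =>
    mem_centralizer_singleton_iff.2 (by rw [← hz]; exact tw.inverter u)
  let β : A →* A := F.π.comp (χ.codRestrict _ hC)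
  have hbinj : Function.Injective β := by
    haveI : IsSimpleGroup A := alternatingGroup.isSimpleGroup (by simp)
    rcases (inferInstance : IsSimpleGroup A).eq_bot_or_eq_top_of_normal β.ker inferInstance with e | e
    · exact (MonoidHom.ker_eq_bot_iff β).1 e
    · exfalso
      have hb : β Icosa.b0 = 1 := MonoidHom.mem_ker.1 (e ▸ mem_top _)
      have hd : orderOf (χ Icosa.b0) ∣ 32 :=
        h.card ▸ Q.orderOf_dvd_natCard ((F.ker _).1 hb)
      rw [orderOf_injective χ tw.injχ, orderOf_eq_prime (p := 3) (by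
        rw [pow_succ, pow_two]; exact Icosa.presentation.2.1) Icosa.presentation.2.2.2.2] at hd
      norm_num at hd
  have hbij : Function.Bijective β := ⟨hbinj, Finite.injective_iff_surjective.1 hbinj⟩
  obtain ⟨τ, hτ⟩ := (CfsgLib.Perm.Groups.AltAut.conjNormal_bijective (Ω := Fin 5)
    (by rw [Fintype.card_fin]; norm_num) (by rw [Fintype.card_fin]; norm_num)).2 (MulEquiv.ofBijective β hbij)
  have hval : ∀ u : A, ((β u : A) : Equiv.Perm (Fin 5)) = τ * u * τ⁻¹ := fun u => by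
    rw [← MulEquiv.ofBijective_apply β hbij, ← hτ]
    exact MulAut.conjNormal_apply _ _
  have hact : ∀ u (hu : χ u ∈ centralizer ({z} : Set G)) (i : Fin 5),
      AltFive.act (F.π ⟨χ u, hu⟩) i = τ (AltFive.act u (τ.symm i)) := by
    intro u hu i
    show ((β u : A) : Equiv.Perm (Fin 5)) i = _
    rw [hval]; rfl
  set S := ψ Icosa.s0 with hSdef
  have hSz : S * z = z * S := by rw [hSdef, ← hz, ← map_mul, ← map_mul, Icosa.four_facts.2.2.2.2.2.1]
  have hSC : S ∈ centralizer ({z} : Set G) := mem_centralizer_singleton_iff.2 hSz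
  have hSQ : S ∈ Q := by
    refine (F.ker ⟨S, hSC⟩).1 ?_
    obtain ⟨w, hw⟩ := hbij.2 (F.π ⟨S, hSC⟩)
    have hcomm : ∀ u : A, AltFive.act u 0 = 0 → w * u = u * w := fun u hu => hbinj (by
      rw [map_mul, map_mul, hw]
      show F.π _ * F.π _ = F.π _ * F.π _
      rw [← map_mul, ← map_mul]
      exact congrArg F.π (Subtype.ext (tw.stab u hu _).symm))
    rw [← hw, Icosa.centralizer_trivial w (hcomm _ Icosa.point_facts.1) (hcomm _ Icosa.point_facts.2.1), map_one]
  have hSS : S * S = 1 := by rw [hSdef, ← map_mul, Icosa.four_facts.2.1, map_one]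
  obtain ⟨j, hj⟩ : ∃ j, S = F.p j ∨ S = F.p j * z := by
    rcases h.invol_cases F hSQ hSS with e | e | e
    · exact absurd (tw.injψ (e.trans (map_one ψ).symm)) Icosa.four_facts.2.2.2.1
    · exact absurd (tw.injψ (e.trans hz.symm)) Icosa.four_facts.2.2.2.2.1
    · exact e
  have hfixj : ∀ u : A, AltFive.act u 0 = 0 → AltFive.act u (τ.symm j) = τ.symm j := by
    intro u hu
    have hc : χ u * F.p j = F.p j * χ u := by
      have := tw.stab u hu Icosa.s0
      rcases hj with e | e <;> rw [← hSdef, e] at this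
      · exact this
      · exact (h.centralizer_mul_z (hC u)).1 this
    have h1 := h.act_of_commute (F := F) (c := ⟨χ u, hC u⟩) hc
    rw [hact] at h1
    exact τ.injective (h1.trans (τ.apply_symm_apply j).symm)
  have hj0 : τ.symm j = 0 :=
    Icosa.fixed_unique _ (hfixj _ Icosa.point_facts.1) (hfixj _ Icosa.point_facts.2.1)
  have hchiS : F.chi S = AltFive.co (τ 0) := by
    rw [← hj0, τ.apply_symm_apply]
    rcases hj with e | e <;> rw [e]
    · exact F.chi_p j
    · rw [h.chi_mul_z F (F.mem j)]; exact F.chi_p j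
  have hmemQ : ∀ k, point ψ χ k ∈ Q := fun k => by
    have := h.nrm _ (inv_mem (hC (ev Icosa.c0 (lW k)))) S hSQ
    rwa [inv_inv] at this
  refine ⟨F, τ, h, hz, tw, hC, hact, hmemQ, fun k => ?_, fun k => ?_, fun y => ?_⟩
  · set w := χ (ev Icosa.c0 (lW k)) with hw
    show w⁻¹ * S * w * (w⁻¹ * S * w) = 1
    calc w⁻¹ * S * w * (w⁻¹ * S * w) = w⁻¹ * (S * S) * w := by group
      _ = 1 := by rw [hSS]; group
  · funext i
    set u := (ev Icosa.c0 (lW k))⁻¹ with hu
    have e : point ψ χ k = ((⟨χ u, hC u⟩ : centralizer ({z} : Set G)) : G) * S *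
        ((⟨χ u, hC u⟩ : centralizer ({z} : Set G)) : G)⁻¹ := by
      show _ = χ u * S * (χ u)⁻¹
      rw [hu, map_inv, inv_inv]; rfl
    obtain ⟨l, rfl⟩ : ∃ l, AltFive.act (F.π ⟨χ u, hC u⟩) l = i :=
      (F.π ⟨χ u, hC u⟩ : Equiv.Perm (Fin 5)).surjective i
    rw [e, F.chi_conj h.toPreHyp _ hSQ l, hchiS, hact]
    show AltFive.co (τ 0) l = AltFive.co (τ (AltFive.act u 0)) (τ (AltFive.act u (τ.symm l)))
    simp only [AltFive.co]
    refine decide_eq_decide.2 (not_congr ⟨fun e => ?_, fun e => ?_⟩)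
    · rw [← e, τ.symm_apply_apply]
    · have := (u : Equiv.Perm (Fin 5)).injective (τ.injective e)
      rw [this, τ.apply_symm_apply]
  · obtain ⟨u, hu⟩ := hbij.2 (F.π y)
    exact ⟨u, hC u, hu⟩

namespace Points

variable {ψ χ} {F : Frame z Q} {τ : Equiv.Perm (Fin 5)} (P : Points z Q ψ χ F τ)
include P

theorem nc_point (i k : Fin 5) : nc (point ψ χ i) (point ψ χ k) = decide (i ≠ k) := by
  have hne : point ψ χ k ≠ 1 ∧ point ψ χ k ≠ z := by
    constructor <;> intro e <;> have := congrFun (P.chi k) (τ (Icosa.pt (k + 1))) <;>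
      rw [e] at this
    all_goals
      first
        | rw [P.hyp.chi_one F] at this
        | rw [P.hyp.chi_z F] at this
      simp only [AltFive.co, false_eq_decide_iff, ne_eq, not_not] at this
      have := Icosa.pt_injective _ _ (τ.injective this)
      exact absurd this ((by decide : ∀ k : Fin 5, k ≠ k + 1) k)
  rcases P.hyp.invol_cases F (P.memQ k) (P.sq k) with e | e | ⟨m, hm⟩
  · exact absurd e hne.1
  · exact absurd e hne.2
  have hchim : F.chi (point ψ χ k) = AltFive.co m := by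
    rcases hm with e | e <;> rw [e]
    · exact F.chi_p m
    · rw [P.hyp.chi_mul_z F (F.mem m)]; exact F.chi_p m
  have hm' : m = τ (Icosa.pt k) := by
    have := congrFun (hchim.symm.trans (P.chi k)) m
    simp only [AltFive.co, ne_eq, not_true, decide_false, false_eq_decide_iff, not_not] at this
    exact this.symm
  have hval : nc (point ψ χ i) (point ψ χ k) = F.chi (point ψ χ i) m := by
    rcases hm with e | e <;> rw [e]
    · rfl
    · rw [nc_symm, P.hyp.nc_mul (F.mem m) P.hyp.zmem (P.memQ i), P.hyp.nc_z (P.memQ i), Bool.xor_false,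
        nc_symm]
      rfl
  rw [hval, P.chi i, hm']
  simp only [AltFive.co]
  exact decide_eq_decide.2 (not_congr ⟨fun e => Icosa.pt_injective _ _ (τ.injective e), fun e => by rw [e]⟩)

theorem swap_point {i k : Fin 5} (hik : i ≠ k) :
    point ψ χ k * point ψ χ i = z * (point ψ χ i * point ψ χ k) := by
  refine (P.hyp.comm _ (P.memQ k) _ (P.memQ i)).resolve_left fun e => ?_
  have := P.nc_point k i
  rw [nc_eq_false.2 e] at this
  simp [Ne.symm hik] at this

theorem sq_pair {i k : Fin 5} (hik : i ≠ k) :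
    point ψ χ i * point ψ χ k * (point ψ χ i * point ψ χ k) = z := by
  calc point ψ χ i * point ψ χ k * (point ψ χ i * point ψ χ k)
      = point ψ χ i * (point ψ χ k * point ψ χ i) * point ψ χ k := by group
    _ = point ψ χ i * z * (point ψ χ i * (point ψ χ k * point ψ χ k)) := by rw [P.swap_point hik]; group
    _ = z := by rw [P.sq, mul_one, P.hyp.z_comm (P.memQ i), mul_assoc, P.sq, mul_one]

theorem prod_cases :
    point ψ χ 0 * point ψ χ 1 * point ψ χ 2 * point ψ χ 3 * point ψ χ 4 = 1 ∨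
      point ψ χ 0 * point ψ χ 1 * point ψ χ 2 * point ψ χ 3 * point ψ χ 4 = z := by
  have m := P.memQ
  have h := P.hyp
  have e : F.chi 1 = F.chi (point ψ χ 0 * point ψ χ 1 * point ψ χ 2 * point ψ χ 3 * point ψ χ 4) := by
    funext l
    rw [h.chi_one, h.chi_mul F (mul_mem (mul_mem (mul_mem (m 0) (m 1)) (m 2)) (m 3)) (m 4),
      h.chi_mul F (mul_mem (mul_mem (m 0) (m 1)) (m 2)) (m 3), h.chi_mul F (mul_mem (m 0) (m 1)) (m 2),
      h.chi_mul F (m 0) (m 1), P.chi, P.chi, P.chi, P.chi, P.chi, Icosa.co_five]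
  rcases h.eq_or_of_chi F (one_mem Q) (mul_mem (mul_mem (mul_mem (mul_mem (m 0) (m 1)) (m 2)) (m 3)) (m 4)) e
    with e' | e'
  · exact Or.inl e'
  · exact Or.inr (e'.trans (one_mul z))

theorem config [Finite G] (hprod : point ψ χ 0 * point ψ χ 1 * point ψ χ 2 * point ψ χ 3 * point ψ χ 4 = 1) :
    Config (ψ Icosa.a0) (ψ Icosa.b0) (χ Icosa.a0) (χ Icosa.b0) := by
  have tw := P.twin
  have hR := P.r_eq
  have hzz := P.hyp.zz
  set g := word4 ψ χ with hg
  set l := word4' ψ χ with hl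
  have hgx : ∀ x, g (x ^^^ 1) = (g x)⁻¹ := fun x => letterVal_xor _ x
  have hlx : ∀ x, l (x ^^^ 1) = (l x)⁻¹ := fun x => letterVal_xor _ x
  have hglob : ∀ w, ev g (glob w) = ev l w := fun w => by
    rw [hg, word4, ev_glob, lv_eq]
  have hgψ : ∀ {w : List ℕ}, (∀ x ∈ w, x < 4) → ev g w = ψ (ev Icosa.c0 w) := fun hw => word4_psi ψ χ hw
  have g4 : ev g [4] = χ Icosa.a0 := by simp [hg, word4, gv, ev, letterVal]
  have g6 : ev g [6] = χ Icosa.b0 := by simp [hg, word4, gv, ev, letterVal]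
  have gV : ev g (glob lV) = χ Icosa.v0 := by rw [hglob, hl, word4'_chi ψ χ (by decide)]; rfl
  have gR : ev g wR = ψ Icosa.r0 := hgψ (by decide)
  have l4 : ev l [4] = z := by rw [← hR]; simp [hl, word4', ev, letterVal]
  have l5 : ev l [5] = z := by
    rw [← hR]
    simp [hl, word4', ev, letterVal]
    rw [inv_eq_of_mul_eq_one_right (by rw [← map_mul, Icosa.four_facts.1, map_one] : ψ Icosa.r0 * ψ Icosa.r0 = 1)]
  have l6 : ev l [6] = point ψ χ 0 := by rw [point_zero]; simp [hl, word4', ev, letterVal]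
  have pS : ∀ k, ev l (lPt k) = point ψ χ k := ev_pt ψ χ
  have hb0 : AltFive.act Icosa.b0 0 = 0 := Icosa.point_facts.1
  have hv0 : AltFive.act Icosa.v0 0 = 0 := Icosa.point_facts.2.1
  have hzcom : ∀ k, z * point ψ χ k = point ψ χ k * z := fun k => (P.hyp.z_comm (P.memQ k)).symm
  have hrel3 : ev l [6, 0, 6, 0, 6, 0, 6, 0, 5] = 1 := by
    have e1 : point ψ χ 1 = χ Icosa.a0 * point ψ χ 0 * χ Icosa.a0 := by
      rw [point_zero]
      have hi : (χ Icosa.a0)⁻¹ = χ Icosa.a0 := by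
        refine inv_eq_of_mul_eq_one_right ?_
        rw [← map_mul, Icosa.presentation.1, map_one]
      have hw : ev Icosa.c0 (lW 1) = Icosa.a0 := by simp [lW, ev, Icosa.c0, letterVal]
      rw [point, hw, hi]
    rw [show [6, 0, 6, 0, 6, 0, 6, 0, 5] = [6] ++ [0] ++ [6] ++ [0] ++ ([6] ++ [0] ++ [6] ++ [0]) ++ [5] from rfl]
    simp only [ev_append, l6, l5]
    rw [show ev l [0] = χ Icosa.a0 by simp [hl, word4', ev, letterVal]]
    calc _ = point ψ χ 0 * (χ Icosa.a0 * point ψ χ 0 * χ Icosa.a0) *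
        (point ψ χ 0 * (χ Icosa.a0 * point ψ χ 0 * χ Icosa.a0)) * z := by group
      _ = 1 := by rw [← e1, P.sq_pair (by decide), hzz]
  have hlprod : ev l lProd = 1 := by
    rw [lProd]; simp only [ev_append, pS]; exact hprod
  have hχ5 : ev Icosa.c0 [0, 2, 0, 2, 0, 2, 0, 2, 0, 2] = 1 := Icosa.presentation.2.2.1
  have hgχ : ∀ {w : List ℕ}, (∀ x ∈ w, x < 4) → ev l w = χ (ev Icosa.c0 w) := fun hw => word4'_chi ψ χ hw
  constructor
  · show ∀ w ∈ commonRels, ev g w = 1
    have aa : ev Icosa.c0 [0, 0] = 1 := by simp [Icosa.c0, ev, letterVal, Icosa.presentation.1]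
    have bbb : ev Icosa.c0 [2, 2, 2] = 1 := by
      simp [Icosa.c0, ev, letterVal, ← mul_assoc, Icosa.presentation.2.1]
    simp only [commonRels, List.forall_mem_cons, List.not_mem_nil, false_implies, implies_true, and_true]
    refine ⟨?_, ?_, ?_, ?_, ?_, ?_, ?_, ?_, ?_, ?_, ?_, ?_, ?_, ?_, ?_, ?_, ?_, ?_⟩
    · rw [hgψ (by decide), aa, map_one]
    · rw [hgψ (by decide), bbb, map_one]
    · rw [hgψ (by decide), hχ5, map_one]
    · rw [show [4, 4] = glob [0, 0] from rfl, hglob, hgχ (by decide), aa, map_one]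
    · rw [show [6, 6, 6] = glob [2, 2, 2] from rfl, hglob, hgχ (by decide), bbb, map_one]
    · rw [show [4, 6, 4, 6, 4, 6, 4, 6, 4, 6] = glob [0, 2, 0, 2, 0, 2, 0, 2, 0, 2] from rfl, hglob,
        hgχ (by decide), hχ5, map_one]
    · exact ev_com hgx (by rw [hgψ (w := [0]) (by decide), g6]; exact (tw.stab _ hb0 _).symm)
    · exact ev_com hgx (by rw [hgψ (w := [2]) (by decide), g6]; exact (tw.stab _ hb0 _).symm)
    · exact ev_com hgx (by rw [hgψ (w := [0]) (by decide), gV]; exact (tw.stab _ hv0 _).symm)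
    · exact ev_com hgx (by rw [hgψ (w := [2]) (by decide), gV]; exact (tw.stab _ hv0 _).symm)
    · refine ev_com hgx ?_
      rw [hgψ (w := [0, 2]) (by decide), g4, show ev Icosa.c0 [0, 2] = Icosa.a0 * Icosa.b0 by
        simp [Icosa.c0, ev, letterVal]]
      exact (tw.five _).symm
    · refine ev_com hgx ?_
      rw [hgψ (w := [0, 2]) (by decide), g6, show ev Icosa.c0 [0, 2] = Icosa.a0 * Icosa.b0 by
        simp [Icosa.c0, ev, letterVal]]
      exact (tw.five _).symm
    · exact ev_com hgx (by rw [gR, g4]; exact (tw.inverter _).symm)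
    · exact ev_com hgx (by rw [gR, g6]; exact (tw.inverter _).symm)
    · rw [hglob]; exact hrel3
    · rw [hglob]; exact hlprod
    · rw [hglob, lX]
      simp only [ev_append, pS, l5]
      rw [P.sq_pair (by decide), hzz]
    · rw [hglob]
      exact ev_com hlx (by rw [l4, pS]; exact hzcom 1)
  · rw [lv_eq]
    show ∀ w ∈ locRels, ev l w = 1
    simp only [locRels, List.forall_mem_cons, List.not_mem_nil, false_implies, implies_true, and_true]
    refine ⟨?_, ?_, ?_, ?_, ?_, ?_, ?_, ?_, ?_, ?_, hrel3, hlprod⟩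
    · rw [hgχ (by decide), show ev Icosa.c0 [0, 0] = 1 by simp [Icosa.c0, ev, letterVal, Icosa.presentation.1],
        map_one]
    · rw [hgχ (by decide), show ev Icosa.c0 [2, 2, 2] = 1 by
        simp [Icosa.c0, ev, letterVal, ← mul_assoc, Icosa.presentation.2.1], map_one]
    · rw [hgχ (by decide), hχ5, map_one]
    · rw [show [6, 6] = [6] ++ [6] from rfl, ev_append, l6, P.sq]
    · rw [show [4, 4] = [4] ++ [4] from rfl, ev_append, l4, hzz]
    · exact ev_com hlx (by rw [l6, point_zero, hgχ (w := [2]) (by decide), show ev Icosa.c0 [2] = Icosa.b0 by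
        simp [Icosa.c0, ev, letterVal]]; exact (tw.stab _ hb0 _).symm)
    · exact ev_com hlx (by rw [l4, hgχ (w := [0]) (by decide), ← hR]; exact (tw.inverter _).symm)
    · exact ev_com hlx (by rw [l4, hgχ (w := [2]) (by decide), ← hR]; exact (tw.inverter _).symm)
    · exact ev_com hlx (by rw [l4, l6]; exact (hzcom 0).symm)
    · exact ev_com hlx (by rw [l6, point_zero, hgχ (w := lV) (by decide)]; exact (tw.stab _ hv0 _).symm)
  · rw [elR_eq, elS_eq, ← map_inv, ← map_mul, ← map_mul, ← map_mul, Icosa.four_facts.2.2.2.2.2.2]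
  · rw [elR_eq]
    intro hm
    have hle : closure ({χ Icosa.a0, χ Icosa.b0} : Set G) ≤ χ.range := by
      rw [closure_le]; rintro x (rfl | rfl) <;> exact ⟨_, rfl⟩
    obtain ⟨u, hu⟩ := hle hm
    have hc : ∀ w : A, u * w = w * u := fun w => tw.injχ (by
      rw [map_mul, map_mul, hu]; exact (tw.inverter w).symm)
    rw [AltFive.center_trivial u hc, map_one, hR] at hu
    exact P.hyp.z_ne hu.symm
  · rw [lv_eq]
    show ∃ (n : Fin 32) (k : Fin 4), _ ∧ ψ Icosa.b0 * ev l lX * (ψ Icosa.b0)⁻¹ = ev l (lVal n k)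
    have hX : ev l lX = point ψ χ 1 * point ψ χ 3 := by rw [lX, ev_append, pS, pS]
    rw [hX]
    set X := point ψ χ 1 * point ψ χ 3 with hXdef
    set b := ψ Icosa.b0 with hbdef
    have hXz : X * z = z * X := P.hyp.z_comm (mul_mem (P.memQ 1) (P.memQ 3))
    have hXS : X * ψ Icosa.s0 = ψ Icosa.s0 * X := by
      rw [← point_zero ψ χ, ← nc_eq_false, hXdef, P.hyp.nc_mul (P.memQ 1) (P.memQ 3) (P.memQ 0),
        P.nc_point, P.nc_point]
      decide
    have hX4 : ∀ w : A, (w = Icosa.r0 ∨ w = Icosa.s0 ∨ w = Icosa.r0 * Icosa.s0) → X * ψ w = ψ w * X := by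
      rintro w (rfl | rfl | rfl)
      · rw [hR]; exact hXz
      · exact hXS
      · rw [map_mul, hR, ← mul_assoc, hXz, mul_assoc, hXS, ← mul_assoc]
    have hy : ∀ w : A, (X * ψ (Icosa.b0⁻¹ * w * Icosa.b0) = ψ (Icosa.b0⁻¹ * w * Icosa.b0) * X) →
        b * X * b⁻¹ * ψ w = ψ w * (b * X * b⁻¹) := by
      intro w e
      rw [map_mul, map_mul, map_inv, ← hbdef] at e
      calc b * X * b⁻¹ * ψ w = b * (X * (b⁻¹ * ψ w * b)) * b⁻¹ := by group
        _ = b * (b⁻¹ * ψ w * b * X) * b⁻¹ := by rw [e]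
        _ = _ := by group
    have hyz : b * X * b⁻¹ * z = z * (b * X * b⁻¹) := by
      rw [← hR]; exact hy _ (hX4 _ Icosa.four_conj.1)
    have hyS : b * X * b⁻¹ * ψ Icosa.s0 = ψ Icosa.s0 * (b * X * b⁻¹) := hy _ (hX4 _ Icosa.four_conj.2)
    set y : ↥(centralizer ({z} : Set G)) := ⟨b * X * b⁻¹, mem_centralizer_singleton_iff.2 hyz⟩ with hydef
    obtain ⟨w, hwC, hw⟩ := P.lift y
    have hchi0 : F.chi (point ψ χ 0) = AltFive.co (τ 0) := by rw [P.chi, Icosa.pt_zero]
    have hw0 : AltFive.act w 0 = 0 := by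
      have hq : point ψ χ 0 ∈ Q := P.memQ 0
      have := (P.hyp.fix_mod_iff F y hq).1 (Or.inl (by
        rw [point_zero, show ((y : G)) = b * X * b⁻¹ from rfl, hyS, mul_inv_cancel_right]))
      rw [hchi0, ← hw] at this
      have h2 := AltFive.fix_co _ _ this
      rw [P.act, τ.symm_apply_apply] at h2
      exact τ.injective h2
    have hX4' : X * X * (X * X) = 1 := by rw [hXdef, P.sq_pair (by decide), hzz]
    have hw4 : w ^ 4 = 1 := by
      have hy4 : y ^ 4 = 1 := Subtype.ext (by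
        show (b * X * b⁻¹) ^ 4 = 1
        rw [conj_pow, show X ^ 4 = X * X * (X * X) by simp [pow_succ, mul_assoc], hX4']; group)
      have e : F.π ⟨χ (w ^ 4), P.memC _⟩ = 1 := by
        rw [show (⟨χ (w ^ 4), P.memC _⟩ : ↥(centralizer ({z} : Set G))) = ⟨χ w, hwC⟩ ^ 4 from
          Subtype.ext (map_pow χ w 4), map_pow, hw, ← map_pow, hy4, map_one]
      refine Subtype.ext (Equiv.ext fun i => ?_)
      have h2 := P.act (w ^ 4) (P.memC _) (τ i)
      rw [e, τ.symm_apply_apply] at h2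
      exact (τ.injective h2).symm
    obtain ⟨k, hk⟩ := Icosa.four_words w hw0 hw4
    set u := (y : G) * (χ w)⁻¹ with hudef
    have huQ : u ∈ Q := (F.ker (y * (⟨χ w, hwC⟩ : ↥(centralizer ({z} : Set G)))⁻¹)).1 (by
      rw [map_mul, map_inv, hw, mul_inv_cancel])
    have huS : u * point ψ χ 0 = point ψ χ 0 * u := by
      rw [point_zero, hudef]
      have hc : Commute (χ w) (ψ Icosa.s0) := tw.stab w hw0 _
      exact ((show Commute (y : G) (ψ Icosa.s0) from hyS).mul_left hc.inv_left).eq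
    have huj : F.chi u (τ 0) = false := by
      have hnc : nc u (point ψ χ 0) = false := nc_eq_false.2 huS
      rcases P.hyp.invol_cases F (P.memQ 0) (P.sq 0) with e | e | ⟨m, hm⟩
      · rw [e] at hchi0
        have := congrFun hchi0 (τ 1)
        rw [P.hyp.chi_one] at this
        exact absurd this (by simp [AltFive.co])
      · rw [e] at hchi0
        have := congrFun hchi0 (τ 1)
        rw [P.hyp.chi_z] at this
        exact absurd this (by simp [AltFive.co])
      have hm' : F.chi (point ψ χ 0) = AltFive.co m := by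
        rcases hm with e | e <;> rw [e]
        · exact F.chi_p m
        · rw [P.hyp.chi_mul_z F (F.mem m)]; exact F.chi_p m
      have hmeq : m = τ 0 := by
        have := congrFun (hm'.symm.trans hchi0) m
        simp only [AltFive.co, ne_eq, not_true, decide_false, false_eq_decide_iff, not_not] at this
        exact this.symm
      rw [← hmeq]
      show nc u (F.p m) = false
      rcases hm with e | e <;> rw [e] at hnc
      · exact hnc
      · rw [nc_eq_false] at hnc ⊢
        exact (P.hyp.centralizer_mul_z (P.hyp.le huQ)).1 hnc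
    obtain ⟨e1, e2, e3, e4, hpar, hv⟩ := Icosa.span τ (F.chi u) (P.hyp.chi_even F huQ) huj
    set pw : Bool → G → G := fun e x => if e then x else 1 with hpw
    have hmem : ∀ (e : Bool) {x : G}, x ∈ Q → pw e x ∈ Q := fun e x hx => by
      cases e <;> simp [hpw, hx, one_mem]
    have hchipw : ∀ (e : Bool) (k : Fin 5) (i : Fin 5),
        F.chi (pw e (point ψ χ k)) i = (e && AltFive.co (τ (Icosa.pt k)) i) := fun e k i => by
      cases e <;> simp [hpw, P.hyp.chi_one, P.chi]
    have m1 := hmem e1 (P.memQ 0)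
    have m2 := hmem e2 (P.memQ 1)
    have m3 := hmem e3 (P.memQ 2)
    have m4 := hmem e4 (P.memQ 3)
    set u' := pw e1 (point ψ χ 0) * pw e2 (point ψ χ 1) * pw e3 (point ψ χ 2) * pw e4 (point ψ χ 3) with hu'
    have hu'Q : u' ∈ Q := mul_mem (mul_mem (mul_mem m1 m2) m3) m4
    have hchi' : F.chi u' = F.chi u := by
      funext i
      rw [hu', P.hyp.chi_mul F (mul_mem (mul_mem m1 m2) m3) m4, P.hyp.chi_mul F (mul_mem m1 m2) m3,
        P.hyp.chi_mul F m1 m2, hchipw, hchipw, hchipw, hchipw, hv]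
    obtain ⟨e0, he0⟩ : ∃ e0 : Bool, u = pw e0 z * u' := by
      rcases P.hyp.eq_or_of_chi F hu'Q huQ hchi' with e | e
      · exact ⟨false, by rw [e]; simp [hpw]⟩
      · exact ⟨true, by rw [e, P.hyp.z_comm hu'Q]; simp [hpw]⟩
    obtain ⟨n, n0, n1, n2, n3, n4⟩ := Icosa.bits e0 e1 e2 e3 e4
    refine ⟨n, k, by rw [n2, n3, n4]; exact hpar, ?_⟩
    have hif : ∀ (e : Bool) (w : List ℕ), ev l (if e then w else []) = pw e (ev l w) := fun e w => by
      cases e <;> simp [hpw, ev]
    have hU : ev l (lU n) = pw e0 z * u' := by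
      rw [lU, n0, n1, n2, n3, n4]
      simp only [ev_append, hif, pS, l4, l6]
      rw [hu']
      group
    have h4 : ∀ x ∈ lT k, x < 4 := (by decide : ∀ k : Fin 4, ∀ x ∈ lT k, x < 4) k
    rw [lVal, ev_append, hU, ← he0, hgχ h4, ← hk, hudef, inv_mul_cancel_right]

end Points

/-- The exchanged second group. -/
def swapHom : A →* A := (MulAut.conjNormal Icosa.swp : MulAut A).toMonoidHom

theorem exists_config [Finite G] (h : Hyp z Q) (tw : Twin z ψ χ) (hz : ψ Icosa.r0 = z) :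
    ∃ a b p q : G, Config a b p q := by
  obtain ⟨F, τ, P⟩ := exists_points ψ χ h tw hz
  rcases P.prod_cases with e | e
  · exact ⟨_, _, _, _, P.config e⟩
  let χ' : A →* G := χ.comp swapHom
  have hsw : ∀ u : A, ((swapHom u : A) : Equiv.Perm (Fin 5)) = Icosa.swp * u * Icosa.swp⁻¹ :=
    fun u => MulAut.conjNormal_apply _ _
  have hinv : Icosa.swp⁻¹ = Icosa.swp := Equiv.swap_inv _ _
  have hfix : ∀ u : A, AltFive.act u 0 = 0 → AltFive.act (swapHom u) 0 = 0 := by
    intro u hu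
    show ((swapHom u : A) : Equiv.Perm (Fin 5)) 0 = 0
    rw [hsw, hinv, Equiv.Perm.mul_apply, Equiv.Perm.mul_apply, Icosa.swp_zero]
    show Icosa.swp (AltFive.act u 0) = 0
    rw [hu, Icosa.swp_zero]
  have tw' : Twin z ψ χ' := ⟨tw.injψ, tw.injχ.comp (MulAut.conjNormal Icosa.swp : MulAut A).injective,
    fun u hu x => tw.stab _ (hfix u hu) x, fun u => tw.five _, fun u => tw.inverter _, tw.class_z⟩
  obtain ⟨F', τ', P'⟩ := exists_points ψ χ' h tw' hz
  have hpt : ∀ k, point ψ χ' k = point ψ χ (Equiv.swap 1 2 k) := by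
    intro k
    set w' := swapHom (ev Icosa.c0 (lW k)) with hw'
    set w := ev Icosa.c0 (lW (Equiv.swap 1 2 k)) with hw
    have h0 : AltFive.act (w * w'⁻¹) 0 = 0 := by
      show (w : Equiv.Perm (Fin 5)) ((w'⁻¹ : A).1 0) = 0
      have e1 : (w'⁻¹ : A).1 0 = Icosa.pt (Equiv.swap 1 2 k) := by
        rw [hw', ← map_inv, hsw, hinv, Equiv.Perm.mul_apply, Equiv.Perm.mul_apply, Icosa.swp_zero,
          ← Icosa.swp_pt]
        rfl
      rw [e1, Icosa.pt]
      show (w : Equiv.Perm (Fin 5)) ((w⁻¹ : A).1 0) = 0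
      rw [← Equiv.Perm.mul_apply]
      show ((w * w⁻¹ : A) : Equiv.Perm (Fin 5)) 0 = 0
      rw [mul_inv_cancel]; rfl
    have hc := tw.stab _ h0 Icosa.s0
    rw [map_mul, map_inv] at hc
    show (χ w')⁻¹ * ψ Icosa.s0 * χ w' = (χ w)⁻¹ * ψ Icosa.s0 * χ w
    calc (χ w')⁻¹ * ψ Icosa.s0 * χ w' = (χ w)⁻¹ * (χ w * (χ w')⁻¹ * ψ Icosa.s0) * χ w' := by group
      _ = (χ w)⁻¹ * (ψ Icosa.s0 * (χ w * (χ w')⁻¹)) * χ w' := by rw [hc]
      _ = _ := by group
  refine ⟨_, _, _, _, P'.config ?_⟩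
  rw [hpt, hpt, hpt, hpt, hpt, show Equiv.swap (1 : Fin 5) 2 0 = 0 by decide, show Equiv.swap (1 : Fin 5) 2 1 = 2 by decide,
    show Equiv.swap (1 : Fin 5) 2 2 = 1 by decide, show Equiv.swap (1 : Fin 5) 2 3 = 3 by decide,
    show Equiv.swap (1 : Fin 5) 2 4 = 4 by decide]
  calc point ψ χ 0 * point ψ χ 2 * point ψ χ 1 * point ψ χ 3 * point ψ χ 4
      = point ψ χ 0 * (point ψ χ 2 * point ψ χ 1) * point ψ χ 3 * point ψ χ 4 := by group
    _ = point ψ χ 0 * z * point ψ χ 1 * point ψ χ 2 * point ψ χ 3 * point ψ χ 4 := by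
      rw [P.swap_point (i := 1) (k := 2) (by decide)]; group
    _ = z * (point ψ χ 0 * point ψ χ 1 * point ψ χ 2 * point ψ χ 3 * point ψ χ 4) := by
      rw [P.hyp.z_comm (P.memQ 0)]; group
    _ = 1 := by rw [e, h.zz]

/-- A group of Hall–Janko type is the Hall–Janko group. -/
theorem Hyp.nonempty_mulEquiv [Finite G] [IsSimpleGroup Cfsg.Spor.J2] (h : Hyp z Q) :
    Nonempty (G ≃* Cfsg.Spor.J2) := by
  obtain ⟨ψ, χ, tw⟩ := h.exists_twin
  obtain ⟨c, hc⟩ := isConj_iff.1 tw.class_z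
  have h' : Hyp (ψ Icosa.r0) (cj c Q) := hc ▸ h.conj c
  obtain ⟨a, b, p, q, cfg⟩ := exists_config ψ χ h'
    ⟨tw.injψ, tw.injχ, tw.stab, tw.five, tw.inverter, IsConj.refl _⟩ rfl
  exact CfsgLib.Spor.J2Unique.nonempty_mulEquiv cfg h.card_eq

end CfsgLib.Invol.JTwo
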