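import Cfsg.Agent.Lib.Invol.JTwo.AltFive
import Cfsg.Agent.Lib.Spor.J2Unique.Words

/-!
# The concrete icosahedral group behind the configuration of a group of Hall–Janko type
-/

set_option autoImplicit false

namespace CfsgLib.Invol.JTwo.Icosa

open Equiv CfsgLib.Spor.TC CfsgLib.Spor.HN CfsgLib.Spor.J2Unique

local notation "A" => alternatingGroup (Fin 5)

/-- The involution generator. -/
def a0 : A := ⟨swap 0 1 * swap 2 3, Perm.mem_alternatingGroup.2 (by decide)⟩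

/-- The generator of order three. -/
def b0 : A := ⟨swap 1 4 * swap 4 2, Perm.mem_alternatingGroup.2 (by decide)⟩

/-- The letters. -/
def c0 : ℕ → A := letterVal [a0, b0]

/-- The inverter of `a0 * b0`. -/
def r0 : A := ev c0 wR

/-- An involution commuting with `r0`. -/
def s0 : A := ev c0 wS

/-- An involution fixing the point zero. -/
def v0 : A := ev c0 lV

/-- The points of the five conjugates. -/
def pt (k : Fin 5) : Fin 5 := AltFive.act (ev c0 (lW k))⁻¹ 0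

theorem presentation : a0 * a0 = 1 ∧ b0 * b0 * b0 = 1 ∧ ev c0 [0, 2, 0, 2, 0, 2, 0, 2, 0, 2] = 1 ∧ a0 ≠ 1 ∧ b0 ≠ 1 := by
  decide +kernel

theorem gen_facts : (a0 * b0) * (a0 * b0) * (a0 * b0) * (a0 * b0) * (a0 * b0) = 1 ∧ a0 * b0 ≠ 1 ∧
    r0 * (a0 * b0) * r0⁻¹ = (a0 * b0)⁻¹ := by
  decide +kernel

theorem four_facts : r0 * r0 = 1 ∧ s0 * s0 = 1 ∧ r0 ≠ 1 ∧ s0 ≠ 1 ∧ s0 ≠ r0 ∧ s0 * r0 = r0 * s0 ∧
    b0 * r0 * b0⁻¹ = r0 * s0 := by
  decide +kernel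

theorem four_conj : (b0⁻¹ * r0 * b0 = r0 ∨ b0⁻¹ * r0 * b0 = s0 ∨ b0⁻¹ * r0 * b0 = r0 * s0) ∧
    (b0⁻¹ * s0 * b0 = r0 ∨ b0⁻¹ * s0 * b0 = s0 ∨ b0⁻¹ * s0 * b0 = r0 * s0) := by
  decide +kernel

theorem point_facts : AltFive.act b0 0 = 0 ∧ AltFive.act v0 0 = 0 ∧ v0 * v0 = 1 ∧ v0 ≠ 1 := by
  decide +kernel

theorem fixed_unique : ∀ i, AltFive.act b0 i = i → AltFive.act v0 i = i → i = 0 := by decide +kernel

theorem centralizer_trivial : ∀ x : A, x * b0 = b0 * x → x * v0 = v0 * x → x = 1 := by decide +kernel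

theorem pt_zero : pt 0 = 0 := by decide +kernel

theorem pt_injective : ∀ i j, pt i = pt j → i = j := by decide +kernel

theorem stab_words : ∀ u : A, AltFive.act u 0 = 0 →
    ∃ i j : Fin 3, u = b0 ^ i.1 ∨ u = b0 ^ i.1 * v0 * b0 ^ j.1 := by
  decide +kernel

theorem four_words : ∀ u : A, AltFive.act u 0 = 0 → u ^ 4 = 1 → ∃ k : Fin 4, u = ev c0 (lT k) := by
  decide +kernel

theorem four_words_fix : ∀ k : Fin 4, AltFive.act (ev c0 (lT k)) 0 = 0 := by decide +kernel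

/-- Pairs generating a point stabiliser. -/
abbrev Pair (s v : A) : Prop :=
  s * s * s = 1 ∧ s ≠ 1 ∧ v * v = 1 ∧ v ≠ 1 ∧ s * v * s⁻¹ * v = v * (s * v * s⁻¹) ∧ s * v * s⁻¹ ≠ v

set_option synthInstance.maxSize 2048 in
theorem pair_centralizer : ∀ s : {s : A // s * s * s = 1 ∧ s ≠ 1}, ∀ v : {v : A // v * v = 1 ∧ v ≠ 1},
    Pair s.1 v.1 → ∀ π : Perm (Fin 5), π * (s.1 : Perm (Fin 5)) = s.1 * π →
      π * (v.1 : Perm (Fin 5)) = v.1 * π → π = 1 := by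
  decide +kernel

set_option synthInstance.maxSize 2048 in
theorem pair_conj : ∀ s : {s : A // s * s * s = 1 ∧ s ≠ 1}, ∀ v : {v : A // v * v = 1 ∧ v ≠ 1},
    Pair s.1 v.1 → ∃ k : A, (k * b0 * k⁻¹ = s.1 ∨ k * b0 * k⁻¹ = s.1 * s.1) ∧
      (k * v0 * k⁻¹ = v.1 ∨ k * v0 * k⁻¹ = s.1 * v.1 * s.1⁻¹ ∨
        k * v0 * k⁻¹ = s.1 * s.1 * v.1 * (s.1 * s.1)⁻¹) := by
  decide +kernel

/-- The exchange of the points of the first two conjugates. -/
def swp : Perm (Fin 5) := swap (pt 1) (pt 2)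

theorem swp_zero : swp 0 = 0 := by decide +kernel

theorem swp_pt : ∀ k : Fin 5, swp (pt k) = pt (swap 1 2 k) := by decide +kernel

theorem span : ∀ τ : Perm (Fin 5), ∀ v : Fin 5 → Bool, AltFive.Even5 v → v (τ 0) = false →
    ∃ e1 e2 e3 e4 : Bool, (e2 ^^ e3 ^^ e4) = false ∧ ∀ l, v l =
      ((e1 && AltFive.co (τ (pt 0)) l) ^^ (e2 && AltFive.co (τ (pt 1)) l) ^^
        (e3 && AltFive.co (τ (pt 2)) l) ^^ (e4 && AltFive.co (τ (pt 3)) l)) := by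
  decide +kernel

theorem co_five : ∀ τ : Perm (Fin 5), ∀ l, (AltFive.co (τ (pt 0)) l ^^ AltFive.co (τ (pt 1)) l ^^
    AltFive.co (τ (pt 2)) l ^^ AltFive.co (τ (pt 3)) l ^^ AltFive.co (τ (pt 4)) l) = false := by
  decide +kernel

theorem bits : ∀ e0 e1 e2 e3 e4 : Bool, ∃ n : Fin 32, n.1.testBit 0 = e0 ∧ n.1.testBit 1 = e1 ∧
    n.1.testBit 2 = e2 ∧ n.1.testBit 3 = e3 ∧ n.1.testBit 4 = e4 := by
  decide +kernel

end CfsgLib.Invol.JTwo.Icosa
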