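import Cfsg.Agent.Lib.Invol.JTwo.Five
import Cfsg.Agent.Lib.Invol.JTwo.Icosa
import Cfsg.Agent.Lib.Perm.Groups.AltAut

/-!
# Two icosahedral subgroups in a group of Hall–Janko type

One centralizes the four-group of a second involution, the other is the centralizer of an element of
order five and an involution inverting it in the first.
-/

set_option autoImplicit false

namespace CfsgLib.Invol.JTwo

open Subgroup

local notation "A" => alternatingGroup (Fin 5)

variable {G : Type*} [Group G]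

/-- Two embedded icosahedral groups in the required position. -/
structure Twin (z : G) (ψ χ : A →* G) : Prop where
  injψ : Function.Injective ψ
  injχ : Function.Injective χ
  stab : ∀ u : A, AltFive.act u 0 = 0 → ∀ x : A, χ u * ψ x = ψ x * χ u
  five : ∀ u : A, χ u * ψ (Icosa.a0 * Icosa.b0) = ψ (Icosa.a0 * Icosa.b0) * χ u
  inverter : ∀ u : A, χ u * ψ Icosa.r0 = ψ Icosa.r0 * χ u
  class_z : IsConj z (ψ Icosa.r0)

/-- A group homomorphism on the quotient commuting with an involution fixing two elements. -/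
theorem icosa_fix {C : Type*} [Group C] (φ : C →* A) (hφ : Function.Surjective φ) (β : A →* A)
    (hβ : ∀ y, β (β y) = y) {s v : A} (hp : Icosa.Pair s v) (hs : β s = s) (hv : β v = v) :
    ∀ y, β y = y := by
  have hbij : Function.Bijective β := Function.Involutive.bijective hβ
  obtain ⟨π, hπ⟩ := (CfsgLib.Perm.Groups.AltAut.conjNormal_bijective (Ω := Fin 5)
    (by rw [Fintype.card_fin]; norm_num) (by rw [Fintype.card_fin]; norm_num)).2 (MulEquiv.ofBijective β hbij)
  have hval : ∀ y : A, ((β y : A) : Equiv.Perm (Fin 5)) = π * y * π⁻¹ := fun y => by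
    rw [← MulEquiv.ofBijective_apply β hbij, ← hπ]
    exact MulAut.conjNormal_apply _ _
  have hπ1 : π = 1 := Icosa.pair_centralizer ⟨s, hp.1, hp.2.1⟩ ⟨v, hp.2.2.1, hp.2.2.2.1⟩ hp π
    (mul_inv_eq_iff_eq_mul.1 ((hval s).symm.trans (by rw [hs])))
    (mul_inv_eq_iff_eq_mul.1 ((hval v).symm.trans (by rw [hv])))
  intro y
  refine Subtype.ext ?_
  rw [hval, hπ1, one_mul, inv_one, mul_one]

variable {z : G} {Q : Subgroup G} [Finite G]

namespace Hyp

variable (h : Hyp z Q)
include h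

/-- An element of order five centralized by an element of order three has an icosahedral centralizer
modulo its own subgroup. -/
theorem five_quot {x d : G} (hx : orderOf x = 5) (hd : orderOf d = 3) (hdx : d * x = x * d) :
    ∃ φ : ↥(centralizer ({x} : Set G)) →* A, Function.Surjective φ ∧ ∀ c, φ c = 1 ↔ (c : G) ∈ zpowers x := by
  haveI : Fact (Nat.Prime 5) := ⟨Nat.prime_five⟩
  obtain ⟨g, hG⟩ := h.exists_gee
  obtain ⟨R, hR⟩ := (IsPGroup.of_card (p := 5) (n := 1) (G := zpowers g)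
    (by rw [Nat.card_zpowers, hG.ord, pow_one])).exists_le_sylow
  obtain ⟨-, -, -, l, -, -, -, h7, h3, hall⟩ := h.five_main hG (hR (mem_zpowers g))
  obtain ⟨S, hS⟩ := (IsPGroup.of_card (p := 5) (n := 1) (G := zpowers x)
    (by rw [Nat.card_zpowers, hx, pow_one])).exists_le_sylow
  obtain ⟨e, he⟩ := MulAction.exists_smul_eq G S R
  have hxR : e * x * e⁻¹ ∈ (R : Subgroup G) := by
    rw [← he, Sylow.coe_subgroup_smul]; exact ⟨x, hS (mem_zpowers x), rfl⟩
  obtain ⟨c, hc⟩ := hall _ hxR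
    ((orderOf_injective (MulAut.conj e).toMonoidHom (MulAut.conj e).injective x).trans hx)
  rw [show c * (e * x * e⁻¹) * c⁻¹ = c * e * x * (c * e)⁻¹ by group] at hc
  have hd' : c * e * d * (c * e)⁻¹ ∈ centralizer ({c * e * x * (c * e)⁻¹} : Set G) := by
    refine mem_centralizer_conj.2 ?_
    rw [mem_centralizer_singleton_iff]
    calc (c * e)⁻¹ * (c * e * d * (c * e)⁻¹) * (c * e) * x = d * x := by group
      _ = x * d := hdx
      _ = _ := by group
  rcases hc with e' | e'
  · have hC := centralizer_of_zpowers_eq e'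
    obtain ⟨φ, hs, hk⟩ := hG.quot
    let m : ↥(centralizer ({x} : Set G)) →* ↥(centralizer ({g} : Set G)) :=
      MonoidHom.mk' (fun u => ⟨c * e * u * (c * e)⁻¹, by
        rw [← hC, mem_centralizer_conj]; simpa [mul_assoc] using u.2⟩) fun u v => Subtype.ext (by
        show c * e * ((u : G) * v) * (c * e)⁻¹ = c * e * u * (c * e)⁻¹ * (c * e * v * (c * e)⁻¹)
        group)
    refine ⟨φ.comp m, hs.comp fun u => ⟨⟨(c * e)⁻¹ * u * (c * e), mem_centralizer_conj.1 (by rw [hC]; exact u.2)⟩,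
      Subtype.ext (by show c * e * ((c * e)⁻¹ * (u : G) * (c * e)) * (c * e)⁻¹ = u; group)⟩, fun u => ?_⟩
    rw [MonoidHom.comp_apply, hk, ← e']
    show c * e * (u : G) * (c * e)⁻¹ ∈ zpowers (c * e * x * (c * e)⁻¹) ↔ _
    rw [show c * e * x * (c * e)⁻¹ = (MulAut.conj (c * e)).toMonoidHom x from rfl, ← MonoidHom.map_zpowers,
      show c * e * (u : G) * (c * e)⁻¹ = (MulAut.conj (c * e)).toMonoidHom u from rfl]
    exact mem_map_iff_mem (MulAut.conj (c * e)).injective
  · exfalso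
    rw [centralizer_of_zpowers_eq e'] at hd'
    refine h3 ?_
    rw [← hd, ← orderOf_injective (MulAut.conj (c * e)).toMonoidHom (MulAut.conj (c * e)).injective d]
    exact orderOf_dvd_natCard _ hd'

theorem exists_twin : ∃ ψ χ : A →* G, Twin z ψ χ := by
  classical
  obtain ⟨t, ht⟩ := h.exists_out
  obtain ⟨a, p⟩ := h.exists_pt ht
  obtain ⟨ρ, V, B, s⟩ := p.exists_split
  obtain ⟨eB⟩ := s.iso
  obtain ⟨σ, hσ, hσB, hσV, hσt, -, -⟩ := p.exists_sigma s
  have hσ3 : σ * σ * σ = 1 := by rw [← pow_orderOf_eq_one σ, hσ, pow_succ, pow_two]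
  let ψ : A →* G := B.subtype.comp eB.symm.toMonoidHom
  have hψ : Function.Injective ψ := B.subtype_injective.comp eB.symm.injective
  have hψB : ∀ u, ψ u ∈ B := fun u => (eB.symm u).2
  set g := ψ (Icosa.a0 * Icosa.b0) with hgdef
  set r := ψ Icosa.r0 with hrdef
  have hg : orderOf g = 5 := by
    rw [hgdef, orderOf_injective ψ hψ]
    haveI : Fact (Nat.Prime 5) := ⟨Nat.prime_five⟩
    exact orderOf_eq_prime (by
      rw [pow_succ, pow_succ, pow_succ, pow_two]; exact Icosa.gen_facts.1) Icosa.gen_facts.2.1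
  have hr : IsConj z r :=
    ((s.zB r).2 ⟨hψB _, by rw [hrdef, ← map_mul, Icosa.four_facts.1, map_one],
      fun e => Icosa.four_facts.2.2.1 (hψ (e.trans (map_one ψ).symm))⟩).1
  have hrr : r * r = 1 := by rw [hrdef, ← map_mul, Icosa.four_facts.1, map_one]
  have hrg : r * g * r⁻¹ = g⁻¹ := by
    rw [hrdef, hgdef, ← map_inv, ← map_mul, ← map_mul, Icosa.gen_facts.2.2, map_inv]
  obtain ⟨φ, hφ, hker⟩ := h.five_quot hg hσ (hσB g (hψB _))
  let C := centralizer ({g} : Set G)
  have htB : ∀ b ∈ B, t * b = b * t := fun b hb => s.comm t s.memV b hb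
  have hσC : σ ∈ C := mem_centralizer_singleton_iff.2 (hσB g (hψB _))
  have htC : t ∈ C := mem_centralizer_singleton_iff.2 (htB g (hψB _))
  have hout : ∀ x : C, (x : G) ^ 6 = 1 → φ x = 1 → (x : G) = 1 := by
    intro x h6 hx
    rw [← orderOf_eq_one_iff]
    have h5 : orderOf (x : G) ∣ 5 := by
      rw [← hg, ← Nat.card_zpowers g]; exact orderOf_dvd_natCard _ ((hker x).1 hx)
    exact Nat.eq_one_of_dvd_coprimes (by norm_num) h5 (orderOf_dvd_of_pow_eq_one h6)
  -- conjugation by the inverter, on the quotient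
  have hrC : ∀ x : C, r * (x : G) * r⁻¹ ∈ C := by
    intro x
    have hx := mem_centralizer_singleton_iff.1 x.2
    refine mem_centralizer_singleton_iff.2 ?_
    have e : g = (r * g * r⁻¹)⁻¹ := by rw [hrg, inv_inv]
    rw [e]
    calc r * (x : G) * r⁻¹ * (r * g * r⁻¹)⁻¹ = r * (x * g⁻¹) * r⁻¹ := by group
      _ = r * (g⁻¹ * x) * r⁻¹ := by rw [(Commute.inv_right (a := (x : G)) (b := g) hx).eq]
      _ = _ := by group
  let cr : C →* C := MonoidHom.mk' (fun x => ⟨r * x * r⁻¹, hrC x⟩) fun x y => Subtype.ext (by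
    show r * ((x : G) * y) * r⁻¹ = r * x * r⁻¹ * (r * y * r⁻¹); group)
  have hkerle : φ.ker ≤ (φ.comp cr).ker := by
    intro x hx
    rw [MonoidHom.mem_ker, MonoidHom.comp_apply, hker]
    obtain ⟨n, hn⟩ := mem_zpowers_iff.1 ((hker x).1 hx)
    refine mem_zpowers_iff.2 ⟨-n, ?_⟩
    show g ^ (-n) = r * (x : G) * r⁻¹
    rw [← hn, show r * g ^ n * r⁻¹ = MulAut.conj r (g ^ n) from rfl, map_zpow]
    show g ^ (-n) = (r * g * r⁻¹) ^ n
    rw [hrg, inv_zpow, zpow_neg]
  let β : A →* A := φ.liftOfSurjective hφ ⟨φ.comp cr, hkerle⟩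
  have hβ : ∀ x, β (φ x) = φ (cr x) := fun x =>
    φ.liftOfRightInverse_comp_apply _ (Function.rightInverse_surjInv hφ) ⟨φ.comp cr, hkerle⟩ x
  have hcr2 : ∀ x, cr (cr x) = x := fun x => Subtype.ext (by
    show r * (r * (x : G) * r⁻¹) * r⁻¹ = x
    calc r * (r * (x : G) * r⁻¹) * r⁻¹ = (r * r) * x * (r * r)⁻¹ := by group
      _ = x := by rw [hrr]; group)
  have hfix : ∀ x : C, (x : G) * r = r * x → β (φ x) = φ x := fun x hx => by
    rw [hβ]; congr 1; refine Subtype.ext ?_
    show r * (x : G) * r⁻¹ = x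
    rw [← hx, mul_inv_cancel_right]
  set sσ := φ ⟨σ, hσC⟩ with hsσ
  set vt := φ ⟨t, htC⟩ with hvt
  have ht2 : t * t = 1 := ht.2.2
  have hconjV : σ * t * σ⁻¹ ∈ V := hσV t s.memV
  have hpair : Icosa.Pair sσ vt := by
    refine ⟨?_, fun e => ?_, ?_, fun e => ?_, ?_, fun e => ?_⟩
    · rw [hsσ, ← map_mul, ← map_mul, show (⟨σ, hσC⟩ : C) * ⟨σ, hσC⟩ * ⟨σ, hσC⟩ = 1 from Subtype.ext hσ3, map_one]
    · have := hout ⟨σ, hσC⟩ (orderOf_dvd_iff_pow_eq_one.1 (show orderOf σ ∣ 6 by rw [hσ]; norm_num)) e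
      rw [show σ = 1 from this, orderOf_one] at hσ; norm_num at hσ
    · rw [hvt, ← map_mul, show (⟨t, htC⟩ : C) * ⟨t, htC⟩ = 1 from Subtype.ext ht2, map_one]
    · exact ht.ne_one (hout ⟨t, htC⟩ (by rw [show 6 = 2 * 3 from rfl, pow_mul, pow_two, ht2, one_pow]) e)
    · rw [hsσ, hvt, ← map_inv, ← map_mul, ← map_mul, ← map_mul, ← map_mul]
      exact congrArg φ (Subtype.ext (s.comm_V hconjV s.memV))
    · rw [hsσ, hvt, ← map_inv, ← map_mul, ← map_mul, ← mul_inv_eq_one, ← map_inv, ← map_mul] at e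
      refine hσt (mul_inv_eq_one.1 (hout _ ?_ e))
      rw [show 6 = 2 * 3 from rfl, pow_mul]
      have hm : σ * t * σ⁻¹ * t⁻¹ ∈ V := mul_mem hconjV (inv_mem s.memV)
      rw [show ((⟨σ, hσC⟩ * ⟨t, htC⟩ * (⟨σ, hσC⟩)⁻¹ * (⟨t, htC⟩)⁻¹ : C) : G) ^ 2 = 1 from s.sq _ hm, one_pow]
  have hid : ∀ y, β y = y := icosa_fix φ hφ β
    (fun y => by obtain ⟨x, rfl⟩ := hφ y; rw [hβ, hβ, hcr2]) hpair
    (hfix _ (hσB r (hψB _))) (hfix _ (htB r (hψB _)))
  -- the second icosahedral group
  set K : Subgroup C := (centralizer ({r} : Set G)).subgroupOf C with hK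
  have hbij : Function.Bijective (φ.comp K.subtype) := by
    refine ⟨(injective_iff_map_eq_one _).2 fun x hx => ?_, fun y => ?_⟩
    · obtain ⟨n, hn⟩ := mem_zpowers_iff.1 ((hker _).1 hx)
      refine Subtype.ext (Subtype.ext ?_)
      have hxr : ((x : C) : G) * r = r * ((x : C) : G) := mem_centralizer_singleton_iff.1 (mem_subgroupOf.1 x.2)
      show ((x : C) : G) = 1
      rw [show ((x.1 : C) : G) = g ^ n from hn.symm] at hxr ⊢
      have e2 : (g ^ n)⁻¹ = g ^ n :=
        calc (g ^ n)⁻¹ = (r * g * r⁻¹) ^ n := by rw [hrg, inv_zpow]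
          _ = r * g ^ n * r⁻¹ := by
            rw [show r * g * r⁻¹ = MulAut.conj r g from rfl, ← map_zpow]; rfl
          _ = g ^ n := by rw [← hxr, mul_inv_cancel_right]
      have h2 : (g ^ n) ^ 2 = 1 := by rw [pow_two]; nth_rw 1 [← e2]; exact inv_mul_cancel _
      rw [← orderOf_eq_one_iff]
      refine Nat.eq_one_of_dvd_coprimes (by norm_num : Nat.Coprime 5 2) ?_ (orderOf_dvd_of_pow_eq_one h2)
      rw [← hg, ← Nat.card_zpowers g]; exact orderOf_dvd_natCard _ (zpow_mem_zpowers g n)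
    · have key : ∀ u : A, u * u = 1 → u ∈ (φ.comp K.subtype).range := by
        intro u hu
        obtain ⟨x, hx⟩ := hφ u
        obtain ⟨n, hn⟩ := mem_zpowers_iff.1 ((hker _).1 (show φ (x * x) = 1 by rw [map_mul, hx, hu]))
        have hxg : Commute (x : G) g := mem_centralizer_singleton_iff.1 x.2
        have h5 : φ (x ^ 5) = u := by
          rw [map_pow, hx, pow_succ, pow_succ, pow_succ, pow_two, hu, one_mul, hu, one_mul]
        have hinv : ((x ^ 5 : C) : G) * (x ^ 5 : C) = 1 := by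
          have e : ((x ^ 5 : C) : G) * (x ^ 5 : C) = ((x : G) * x) ^ 5 := by
            rw [coe_pow, (Commute.refl (x : G)).mul_pow]
          rw [e, show (x : G) * x = g ^ n from hn.symm, ← zpow_natCast, ← zpow_mul, mul_comm, zpow_mul,
            zpow_natCast, show g ^ 5 = 1 from hg ▸ pow_orderOf_eq_one g, one_zpow]
        set w := (x ^ 5 : C) with hw
        have hfixw : φ (cr w) = φ w := by rw [← hβ, hid]
        obtain ⟨m, hm⟩ := mem_zpowers_iff.1 ((hker (cr w * w⁻¹)).1 (by rw [map_mul, map_inv, hfixw, mul_inv_cancel]))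
        have e1 : r * (w : G) * r⁻¹ = g ^ m * w := by
          rw [show g ^ m = r * (w : G) * r⁻¹ * (w : G)⁻¹ from hm, inv_mul_cancel_right]
        have hwg : Commute (w : G) (g ^ m) := by
          rw [hw, coe_pow]; exact (hxg.zpow_right m).pow_left 5
        have e2 : g ^ m * g ^ m = 1 :=
          calc g ^ m * g ^ m = g ^ m * g ^ m * ((w : G) * w) := by rw [hinv, mul_one]
            _ = g ^ m * (g ^ m * w) * w := by group
            _ = g ^ m * (w * g ^ m) * w := by rw [hwg.eq]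
            _ = (r * (w : G) * r⁻¹) * (r * (w : G) * r⁻¹) := by rw [e1]; group
            _ = r * ((w : G) * w) * r⁻¹ := by group
            _ = 1 := by rw [hinv]; group
        have e3 : g ^ m = 1 := by
          rw [← orderOf_eq_one_iff]
          refine Nat.eq_one_of_dvd_coprimes (by norm_num : Nat.Coprime 5 2) ?_
            (orderOf_dvd_of_pow_eq_one (by rw [pow_two]; exact e2))
          rw [← hg, ← Nat.card_zpowers g]; exact orderOf_dvd_natCard _ (zpow_mem_zpowers g m)
        rw [e3, one_mul] at e1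
        exact ⟨⟨w, mem_subgroupOf.2 (mem_centralizer_singleton_iff.2 (mul_inv_eq_iff_eq_mul.1 e1).symm)⟩, h5⟩
      obtain ⟨u, v, rfl⟩ := AltFive.two_invol y
      exact mul_mem (key _ u.2) (key _ v.2)
  let eK : K ≃* A := MulEquiv.ofBijective _ hbij
  let ι : A →* G := (C.subtype.comp K.subtype).comp eK.symm.toMonoidHom
  have hι : ∀ x : C, (x : G) * r = r * x → ι (φ x) = x := by
    intro x hx
    have e : eK ⟨x, mem_subgroupOf.2 (mem_centralizer_singleton_iff.2 hx)⟩ = φ x := rfl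
    show (((eK.symm (φ x)) : C) : G) = x
    rw [← e, MulEquiv.symm_apply_apply]
  obtain ⟨k, hk1, hk2⟩ := Icosa.pair_conj ⟨sσ, hpair.1, hpair.2.1⟩ ⟨vt, hpair.2.2.1, hpair.2.2.2.1⟩ hpair
  let χ : A →* G := ι.comp (MulAut.conj k).toMonoidHom
  have hinjι : Function.Injective ι :=
    (C.subtype_injective.comp K.subtype_injective).comp eK.symm.injective
  refine ⟨ψ, χ, hψ, hinjι.comp (MulAut.conj k).injective, fun u hu x => ?_, fun u => ?_, fun u => ?_, hr⟩
  · have hP : ∀ y ∈ closure ({sσ, vt} : Set A), ι y * ψ x = ψ x * ι y := by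
      intro y hy
      induction hy using closure_induction with
      | mem y hy =>
        rcases hy with rfl | rfl
        · rw [hι _ (hσB r (hψB _))]; exact hσB _ (hψB _)
        · rw [hι _ (htB r (hψB _))]; exact htB _ (hψB _)
      | one => simp
      | mul y w _ _ hy hw => rw [map_mul, mul_assoc, hw, ← mul_assoc, hy, mul_assoc]
      | inv y _ hy => rw [map_inv]; exact (Commute.inv_left hy).eq
    have hsm : sσ ∈ closure ({sσ, vt} : Set A) := subset_closure (by simp)
    have hvm : vt ∈ closure ({sσ, vt} : Set A) := subset_closure (by simp)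
    have hb : k * Icosa.b0 * k⁻¹ ∈ closure ({sσ, vt} : Set A) := by
      rcases hk1 with e | e <;> rw [e]
      exacts [hsm, mul_mem hsm hsm]
    have hv' : k * Icosa.v0 * k⁻¹ ∈ closure ({sσ, vt} : Set A) := by
      rcases hk2 with e | e | e <;> rw [e]
      exacts [hvm, mul_mem (mul_mem hsm hvm) (inv_mem hsm),
        mul_mem (mul_mem (mul_mem hsm hsm) hvm) (inv_mem (mul_mem hsm hsm))]
    refine hP _ ?_
    show MulAut.conj k u ∈ _
    obtain ⟨i, j, rfl | rfl⟩ := Icosa.stab_words u hu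
    · rw [map_pow]; exact pow_mem hb _
    · rw [map_mul, map_mul, map_pow, map_pow]; exact mul_mem (mul_mem (pow_mem hb _) hv') (pow_mem hb _)
  · exact mem_centralizer_singleton_iff.1 ((eK.symm (MulAut.conj k u)).1.2)
  · exact mem_centralizer_singleton_iff.1 (mem_subgroupOf.1 (eK.symm (MulAut.conj k u)).2)

end Hyp

end CfsgLib.Invol.JTwo
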