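import Cfsg.Agent.Lib.Invol.JTwo.Setup

/-!
# Coordinates on the extraspecial group
-/

set_option autoImplicit false

namespace CfsgLib.Invol.JTwo

open Subgroup

local notation "A" => alternatingGroup (Fin 5)

variable {G : Type*} [Group G] {z : G} {Q : Subgroup G}

open Classical in
/-- The failure to commute. -/
noncomputable def nc (a b : G) : Bool := decide (a * b ≠ b * a)

theorem nc_eq_false {a b : G} : nc a b = false ↔ a * b = b * a := by simp [nc]

theorem nc_symm (a b : G) : nc a b = nc b a := by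
  classical
  simp only [nc]
  exact decide_eq_decide.2 ⟨fun h e => h e.symm, fun h e => h e.symm⟩

theorem nc_conj (c a b : G) : nc (c * a * c⁻¹) (c * b * c⁻¹) = nc a b := by
  classical
  simp only [nc]
  refine decide_eq_decide.2 (not_congr ?_)
  rw [show c * a * c⁻¹ * (c * b * c⁻¹) = c * (a * b) * c⁻¹ by group,
    show c * b * c⁻¹ * (c * a * c⁻¹) = c * (b * a) * c⁻¹ by group, mul_left_inj, mul_right_inj]

theorem PreHyp.nc_mul (h : PreHyp z Q) {a b x : G} (ha : a ∈ Q) (hb : b ∈ Q) (hx : x ∈ Q) :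
    nc (a * b) x = (nc a x ^^ nc b x) := by
  classical
  have := h.mul_comm_iff ha hb hx
  simp only [nc]
  by_cases e1 : a * x = x * a <;> by_cases e2 : b * x = x * b <;> simp_all

theorem PreHyp.nc_z (h : PreHyp z Q) {x : G} (hx : x ∈ Q) : nc z x = false :=
  nc_eq_false.2 (h.z_comm hx).symm

namespace Frame

variable (F : Frame z Q)

/-- The coordinates of an element. -/
noncomputable def chi (q : G) : Fin 5 → Bool := fun i => nc q (F.p i)

theorem chi_p (i : Fin 5) : F.chi (F.p i) = AltFive.co i := by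
  funext j
  classical
  simp only [chi, nc, AltFive.co]
  refine decide_eq_decide.2 ⟨fun hne e => hne (by rw [e]), fun hne => F.noncomm i j hne⟩

theorem chi_conj (h : PreHyp z Q) (c : ↥(centralizer ({z} : Set G))) {q : G} (hq : q ∈ Q) (i : Fin 5) :
    F.chi ((c : G) * q * (c : G)⁻¹) (AltFive.act (F.π c) i) = F.chi q i := by
  have hcq := h.nrm c c.2 q hq
  have hm := F.mem (AltFive.act (F.π c) i)
  show nc _ _ = nc q (F.p i)
  rw [← nc_conj (c : G) q (F.p i)]
  rcases F.equi c i with e | e <;> rw [e]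
  rw [nc_symm (_ * _ * _) (F.p _ * z), h.nc_mul hm h.zmem hcq, h.nc_z hcq, Bool.xor_false, nc_symm]

end Frame

namespace PreHyp

variable (h : PreHyp z Q) (F : Frame z Q)
include h

theorem chi_mul {a b : G} (ha : a ∈ Q) (hb : b ∈ Q) (k : Fin 5) :
    F.chi (a * b) k = (F.chi a k ^^ F.chi b k) :=
  h.nc_mul ha hb (F.mem k)

theorem chi_z (k : Fin 5) : F.chi z k = false := h.nc_z (F.mem k)

theorem chi_one (k : Fin 5) : F.chi 1 k = false := nc_eq_false.2 (by simp)

theorem chi_mul_z {a : G} (ha : a ∈ Q) : F.chi (a * z) = F.chi a := by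
  funext k; rw [h.chi_mul F ha h.zmem, h.chi_z, Bool.xor_false]

theorem eq_or_of_chi {a b : G} (ha : a ∈ Q) (hb : b ∈ Q) (e : F.chi a = F.chi b) :
    b = a ∨ b = a * z := by
  have h1 : ∀ i, a * b * F.p i = F.p i * (a * b) := fun i => nc_eq_false.1 (by
    show F.chi (a * b) i = false
    rw [h.chi_mul F ha hb, e, Bool.xor_self])
  rcases F.sep _ (mul_mem ha hb) h1 with h2 | h2 <;> rcases h.sq a ha with h3 | h3
  · exact Or.inl (by
      calc b = a * a * b := by rw [h3, one_mul]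
        _ = a := by rw [mul_assoc, h2, mul_one])
  · right
    calc b = z * z * b := by rw [h.zz, one_mul]
      _ = z * (a * a) * b := by rw [h3]
      _ = z * a * (a * b) := by group
      _ = a * z := by rw [h2, mul_one, h.z_comm ha]
  · exact Or.inr (by
      calc b = a * a * b := by rw [h3, one_mul]
        _ = a * z := by rw [mul_assoc, h2])
  · left
    calc b = z * z * b := by rw [h.zz, one_mul]
      _ = z * (a * a) * b := by rw [h3]
      _ = z * a * (a * b) := by group
      _ = a := by rw [h2, ← h.z_comm ha, mul_assoc, h.zz, mul_one]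

theorem chi_even {q : G} (hq : q ∈ Q) : AltFive.Even5 (F.chi q) := by
  have m := F.mem
  have hc : F.p 0 * F.p 1 * F.p 2 * F.p 3 * F.p 4 ∈ Q :=
    mul_mem (mul_mem (mul_mem (mul_mem (m 0) (m 1)) (m 2)) (m 3)) (m 4)
  have h5 : ∀ x ∈ Q, nc (F.p 0 * F.p 1 * F.p 2 * F.p 3 * F.p 4) x =
      (nc (F.p 0) x ^^ nc (F.p 1) x ^^ nc (F.p 2) x ^^ nc (F.p 3) x ^^ nc (F.p 4) x) := fun x hx => by
    rw [h.nc_mul (mul_mem (mul_mem (mul_mem (m 0) (m 1)) (m 2)) (m 3)) (m 4) hx,
      h.nc_mul (mul_mem (mul_mem (m 0) (m 1)) (m 2)) (m 3) hx,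
      h.nc_mul (mul_mem (m 0) (m 1)) (m 2) hx, h.nc_mul (m 0) (m 1) hx]
  have h1 : ∀ i, F.p 0 * F.p 1 * F.p 2 * F.p 3 * F.p 4 * F.p i =
      F.p i * (F.p 0 * F.p 1 * F.p 2 * F.p 3 * F.p 4) := fun i => nc_eq_false.1 (by
    rw [h5 _ (m i)]
    show (F.chi (F.p 0) i ^^ F.chi (F.p 1) i ^^ F.chi (F.p 2) i ^^ F.chi (F.p 3) i ^^ F.chi (F.p 4) i) = false
    rw [F.chi_p, F.chi_p, F.chi_p, F.chi_p, F.chi_p]
    revert i; decide)
  have h0 : nc (F.p 0 * F.p 1 * F.p 2 * F.p 3 * F.p 4) q = false := by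
    rcases F.sep _ hc h1 with e | e <;> rw [e]
    · exact nc_eq_false.2 (by simp)
    · exact h.nc_z hq
  rw [h5 q hq, nc_symm (F.p 0), nc_symm (F.p 1), nc_symm (F.p 2), nc_symm (F.p 3), nc_symm (F.p 4)] at h0
  exact h0

section count

variable [Finite G]

theorem exists_chi {v : Fin 5 → Bool} (hv : AltFive.Even5 v) : ∃ q ∈ Q, F.chi q = v := by
  classical
  letI := Fintype.ofFinite G
  let f : Q → {v : Fin 5 → Bool // AltFive.Even5 v} := fun q => ⟨F.chi q, h.chi_even F q.2⟩
  have hle := Finset.card_le_mul_card_image (f := f) (Finset.univ : Finset Q) 2 (fun w hw => by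
    obtain ⟨q₀, -, rfl⟩ := Finset.mem_image.1 hw
    refine le_trans (Finset.card_le_card
      (t := ({q₀, q₀ * ⟨z, h.zmem⟩} : Finset Q)) fun r hr => ?_) Finset.card_le_two
    simp only [Finset.mem_filter] at hr
    rcases h.eq_or_of_chi F q₀.2 r.2 (congrArg Subtype.val hr.2).symm with e | e
    · simp [Subtype.ext e]
    · simp [Subtype.ext_iff, e])
  rw [Finset.card_univ, ← Nat.card_eq_fintype_card, h.card] at hle
  have hall : Finset.univ.image f = Finset.univ := Finset.eq_univ_of_card _ (le_antisymm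
    (Finset.card_le_univ _) (by rw [AltFive.card_even]; omega))
  obtain ⟨q, -, hq⟩ := Finset.mem_image.1 (hall.ge (Finset.mem_univ ⟨v, hv⟩))
  exact ⟨q, q.2, congrArg Subtype.val hq⟩

theorem count (P : (Fin 5 → Bool) → Prop) [DecidablePred P] :
    Nat.card {q : G // q ∈ Q ∧ P (F.chi q)} =
      2 * Fintype.card {v : Fin 5 → Bool // AltFive.Even5 v ∧ P v} := by
  classical
  choose g hgQ hg using fun v : {v : Fin 5 → Bool // AltFive.Even5 v ∧ P v} => h.exists_chi F v.2.1
  rw [mul_comm, ← Nat.card_eq_fintype_card, show (2 : ℕ) = Nat.card Bool by simp, ← Nat.card_prod]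
  refine (Nat.card_eq_of_bijective (fun x => (⟨if x.2 then g x.1 * z else g x.1, ?_⟩ :
    {q : G // q ∈ Q ∧ P (F.chi q)})) ⟨?_, ?_⟩).symm
  · split
    · exact ⟨mul_mem (hgQ _) h.zmem, by rw [h.chi_mul_z F (hgQ _), hg]; exact x.1.2.2⟩
    · exact ⟨hgQ _, by rw [hg]; exact x.1.2.2⟩
  · rintro ⟨v, b⟩ ⟨w, c⟩ e
    replace e := congrArg Subtype.val e
    have e1 : v = w := by
      have e2 := congrArg F.chi e
      cases b <;> cases c <;>
        simpa [h.chi_mul_z F (hgQ _), hg, Subtype.ext_iff] using e2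
    subst e1
    cases b <;> cases c
    · rfl
    · exact absurd ((mul_eq_left (a := g v)).1 (by simpa using e.symm)) h.z_ne
    · exact absurd ((mul_eq_left (a := g v)).1 (by simpa using e)) h.z_ne
    · rfl
  · rintro ⟨q, hq, hP⟩
    rcases h.eq_or_of_chi F (hgQ ⟨F.chi q, h.chi_even F hq, hP⟩) hq (hg _) with e | e
    · exact ⟨(⟨F.chi q, h.chi_even F hq, hP⟩, false), Subtype.ext (by simp [← e])⟩
    · exact ⟨(⟨F.chi q, h.chi_even F hq, hP⟩, true), Subtype.ext (by simp [← e])⟩

end count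

/-- An element fixes a coset modulo `z` when it fixes the coordinates. -/
theorem fix_mod_iff (c : ↥(centralizer ({z} : Set G))) {q : G} (hq : q ∈ Q) :
    ((c : G) * q * (c : G)⁻¹ = q ∨ (c : G) * q * (c : G)⁻¹ = q * z) ↔
      AltFive.Fix (F.π c) (F.chi q) := by
  have hcq := h.nrm c c.2 q hq
  constructor
  · intro e i
    rw [← F.chi_conj h c hq i]
    rcases e with e | e <;> rw [e]
    rw [h.chi_mul_z F hq]
  · intro e
    refine h.eq_or_of_chi F hq hcq (funext fun k => ?_)
    obtain ⟨i, rfl⟩ : ∃ i, AltFive.act (F.π c) i = k :=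
      (F.π c : Equiv.Perm (Fin 5)).surjective k
    rw [F.chi_conj h c hq i]
    exact e i

end PreHyp

end CfsgLib.Invol.JTwo
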