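import Cfsg.Agent.Lib.Invol.JTwo.Odd

/-!
# The Sylow 5-subgroups
-/

set_option autoImplicit false

namespace CfsgLib.Invol.JTwo

open Subgroup

universe v

local notation "A" => alternatingGroup (Fin 5)

namespace AltFive

theorem five_conj : ∀ g : {g : A // g * g * g * g * g = 1 ∧ g ≠ 1}, ∀ x : A,
    x * g.1 * x⁻¹ ≠ g.1 * g.1 ∧ x * g.1 * x⁻¹ ≠ g.1 * g.1 * g.1 := by
  decide +kernel

theorem five_inv : ∀ g : {g : A // g * g * g * g * g = 1 ∧ g ≠ 1}, ∃ x : A, x * g.1 * x⁻¹ = g.1⁻¹ := by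
  decide +kernel

theorem five_normalizer : ∀ g : {g : A // g * g * g * g * g = 1 ∧ g ≠ 1},
    Fintype.card {x : A // x * g.1 * x⁻¹ = g.1 ∨ x * g.1 * x⁻¹ = g.1⁻¹} = 10 := by
  decide +kernel

end AltFive

variable {G : Type v} [Group G] [Finite G] {z : G} {Q : Subgroup G}

theorem pow_cases_five {x y : G} (hx : orderOf x = 5) (hy : y ∈ zpowers x) :
    y = 1 ∨ y = x ∨ y = x * x ∨ y = x * x * x ∨ y = x⁻¹ := by
  obtain ⟨n, rfl⟩ := (isOfFinOrder_of_finite x).mem_powers_iff_mem_zpowers.2 hy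
  have hx5 : x ^ 5 = 1 := by rw [← hx, pow_orderOf_eq_one]
  dsimp only
  rw [← pow_mod_orderOf, hx]
  have := Nat.mod_lt n (show 5 > 0 by norm_num)
  interval_cases h : n % 5
  · exact Or.inl (pow_zero x)
  · exact Or.inr (Or.inl (pow_one x))
  · exact Or.inr (Or.inr (Or.inl (pow_two x)))
  · exact Or.inr (Or.inr (Or.inr (Or.inl (by rw [pow_succ, pow_two]))))
  · refine Or.inr (Or.inr (Or.inr (Or.inr (eq_inv_of_mul_eq_one_left ?_))))
    rw [← pow_succ]; exact hx5

theorem centralizer_of_zpowers_eq {x y : G} (h : zpowers x = zpowers y) :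
    centralizer ({x} : Set G) = centralizer ({y} : Set G) := by
  have key : ∀ {x y : G}, zpowers x = zpowers y → ∀ c, c ∈ centralizer ({x} : Set G) →
      c ∈ centralizer ({y} : Set G) := by
    intro x y h c hc
    obtain ⟨k, hk⟩ := mem_zpowers_iff.1 (h.ge (mem_zpowers y))
    exact mem_centralizer_singleton_iff.2
      (hk ▸ ((show Commute c x from mem_centralizer_singleton_iff.1 hc).zpow_right k).eq)
  ext c
  exact ⟨key h c, key h.symm c⟩

/-- A three-element acting on a subgroup. -/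
theorem fixed_mod_three {d : G} (hd : orderOf d = 3) {S : Subgroup G} (hS : ∀ x ∈ S, d * x * d⁻¹ ∈ S) :
    Nat.card (S ⊓ centralizer ({d} : Set G) : Subgroup G) % 3 = Nat.card S % 3 := by
  haveI : Fact (Nat.Prime 3) := ⟨Nat.prime_three⟩
  have hdN : d ∈ normalizer (S : Set G) := mem_normalizer_of_le hS
  letI : MulAction (zpowers d) S :=
    { smul := fun g a => ⟨(g : G) * a * (g : G)⁻¹,
        (mem_normalizer_iff.1 (zpowers_le.2 hdN g.2) (a : G)).1 a.2⟩
      one_smul := fun a => Subtype.ext (by show (1 : G) * a * (1 : G)⁻¹ = a; group)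
      mul_smul := fun g g' a => Subtype.ext (by
        show (g : G) * g' * a * ((g : G) * g')⁻¹ = (g : G) * ((g' : G) * a * (g' : G)⁻¹) * (g : G)⁻¹
        group) }
  have hmod := (IsPGroup.of_card (p := 3) (n := 1) (G := zpowers d)
    (by rw [Nat.card_zpowers, hd, pow_one])).card_modEq_card_fixedPoints S
  refine Eq.trans (congrArg (· % 3) (Nat.card_congr ?_)) hmod.symm
  exact
    { toFun := fun a => ⟨⟨a.1, a.2.1⟩, fun g => Subtype.ext (by
        show (g : G) * a.1 * (g : G)⁻¹ = a.1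
        obtain ⟨i, hi⟩ := mem_zpowers_iff.1 g.2
        rw [← hi, (show Commute d a.1 from (mem_centralizer_singleton_iff.1 a.2.2).symm).zpow_left i,
          mul_inv_cancel_right])⟩
      invFun := fun a => ⟨a.1.1, a.1.2, mem_centralizer_singleton_iff.2 (by
        have e : d * (a.1 : G) * d⁻¹ = a.1 := congrArg Subtype.val (a.2 ⟨d, mem_zpowers d⟩)
        exact (mul_inv_eq_iff_eq_mul.1 e).symm)⟩
      left_inv := fun a => rfl
      right_inv := fun a => rfl }

/-- The element of order five in the alternating factor. -/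
structure Gee (z g : G) : Prop where
  ord : orderOf g = 5
  card : Nat.card (centralizer ({g} : Set G)) = 300
  noz : ∀ u ∈ centralizer ({g} : Set G), ¬ IsConj z u
  quot : ∃ φ : ↥(centralizer ({g} : Set G)) →* A, Function.Surjective φ ∧ ∀ c, φ c = 1 ↔ (c : G) ∈ zpowers g
  nosq : ∀ n : G, n * g * n⁻¹ ≠ g * g ∧ n * g * n⁻¹ ≠ g * g * g
  inv : ∃ τ : G, τ * g * τ⁻¹ = g⁻¹
  three : ∀ d ∈ centralizer ({g} : Set G), orderOf d = 3 → ∃ u, IsConj z u ∧ u * d = d * u

namespace PreHyp

variable (h : PreHyp z Q)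
include h

/-- Elements of order five in the centralizer of `z`. -/
theorem card_five {g : G} (hgC : g ∈ centralizer ({z} : Set G)) (hg : orderOf g = 5) :
    Nat.card (centralizer ({g} : Set G) ⊓ centralizer ({z} : Set G) : Subgroup G) = 10 := by
  classical
  haveI : Fact (Nat.Prime 5) := ⟨Nat.prime_five⟩
  obtain ⟨f, hfC, hf, hfix⟩ := h.five_elt
  obtain ⟨F⟩ := h.exists_frame
  set C := centralizer ({z} : Set G) with hCdef
  have hS5 : ∀ x : C, orderOf x = 5 → ∃ S : Sylow 5 C, (S : Subgroup C) = zpowers x := by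
    intro x hx
    obtain ⟨S, hS⟩ := (IsPGroup.of_card (p := 5) (n := 1) (G := zpowers x)
      (by rw [Nat.card_zpowers, hx, pow_one])).exists_le_sylow
    refine ⟨S, (eq_of_le_of_card_ge hS ?_).symm⟩
    obtain ⟨k, hk⟩ := IsPGroup.iff_card.1 S.isPGroup'
    have hd := card_subgroup_dvd_card (S : Subgroup C)
    rw [hk, hCdef, h.card_C] at hd
    have hk1 : k ≤ 1 := by
      by_contra hk1
      exact absurd ((pow_dvd_pow 5 (show 2 ≤ k by omega)).trans hd) (by norm_num)
    rw [hk, Nat.card_zpowers, hx]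
    exact (Nat.pow_le_pow_right (by norm_num) hk1).trans (by norm_num)
  obtain ⟨S, hS⟩ := hS5 ⟨g, hgC⟩ (by rw [orderOf_mk]; exact hg)
  obtain ⟨S', hS'⟩ := hS5 ⟨f, hfC⟩ (by rw [orderOf_mk]; exact hf)
  obtain ⟨c, hc⟩ := MulAction.exists_smul_eq C S S'
  have hzp : zpowers f = zpowers ((c : G) * g * (c : G)⁻¹) := by
    have hm : c * ⟨g, hgC⟩ * c⁻¹ ∈ (S' : Subgroup C) := by
      rw [← hc, Sylow.coe_subgroup_smul, hS]; exact ⟨_, mem_zpowers _, rfl⟩
    rw [hS', mem_zpowers_iff] at hm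
    obtain ⟨k, hk⟩ := hm
    refine (eq_of_le_of_card_ge (zpowers_le.2 (mem_zpowers_iff.2 ⟨k, congrArg Subtype.val hk⟩)) ?_).symm
    rw [Nat.card_zpowers, Nat.card_zpowers, hf,
      show ((c * ⟨g, hgC⟩ * c⁻¹ : ↥C) : G) = (c : G) * g * (c : G)⁻¹ from rfl,
      show orderOf ((c : G) * g * (c : G)⁻¹) = orderOf g from
        orderOf_injective (MulAut.conj (c : G)).toMonoidHom (MulAut.conj (c : G)).injective g, hg]
  have hcj : centralizer ({f} : Set G) ⊓ C = cj (c : G) (centralizer ({g} : Set G) ⊓ C) := by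
    ext x
    rw [mem_cj, mem_inf, mem_inf, centralizer_of_zpowers_eq hzp, mem_centralizer_conj]
    refine and_congr_right fun _ => ⟨fun hx => mul_mem (mul_mem (inv_mem c.2) hx) c.2, fun hx => ?_⟩
    have := mul_mem (mul_mem c.2 hx) (inv_mem c.2)
    simpa [mul_assoc] using this
  rw [← card_map_of_injective (K := centralizer ({g} : Set G) ⊓ C) (f := (MulAut.conj (c : G)).toMonoidHom)
    (MulAut.conj (c : G)).injective]
  show Nat.card (cj (c : G) (centralizer ({g} : Set G) ⊓ C)) = 10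
  rw [← hcj]
  set X := centralizer ({f} : Set G) ⊓ C
  rw [h.card_sub F (inf_le_right : X ≤ C)]
  have h2 : Nat.card (X ⊓ Q : Subgroup G) = 2 := by
    rw [show X ⊓ Q = zpowers z from ?_, Nat.card_zpowers, h.inv]
    refine le_antisymm (fun q hq => ?_) (zpowers_le.2 ⟨⟨mem_centralizer_singleton_iff.2
      (mem_centralizer_singleton_iff.1 hfC).symm, h.z_mem_C⟩, h.zmem⟩)
    rcases hfix q hq.2 (mem_centralizer_singleton_iff.1 hq.1.1).symm with e | e <;> rw [e]
    · exact one_mem _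
    · exact mem_zpowers z
  have hπ : F.π ⟨f, hfC⟩ ≠ 1 := fun e => by
    have := orderOf_dvd_natCard Q ((F.ker _).1 e)
    rw [hf, h.card] at this
    norm_num at this
  have hπ5 : orderOf (F.π ⟨f, hfC⟩) = 5 := by
    refine orderOf_eq_prime ?_ hπ
    rw [← map_pow, show (⟨f, hfC⟩ : C) ^ 5 = 1 from Subtype.ext (by
      rw [coe_pow, coe_one, ← hf, pow_orderOf_eq_one]), map_one]
  have h5 : (X.subgroupOf C).map F.π = zpowers (F.π ⟨f, hfC⟩) := by
    refine le_antisymm ?_ (zpowers_le.2 ⟨⟨f, hfC⟩, mem_subgroupOf.2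
      ⟨mem_centralizer_singleton_iff.2 rfl, hfC⟩, rfl⟩)
    rintro _ ⟨x, hx, rfl⟩
    have hxf : x * ⟨f, hfC⟩ = ⟨f, hfC⟩ * x :=
      Subtype.ext (mem_centralizer_singleton_iff.1 (mem_subgroupOf.1 hx).1)
    obtain ⟨j, hj⟩ := AltFive.centralizer_pow ⟨F.π ⟨f, hfC⟩, Or.inr (by
      rw [← pow_orderOf_eq_one (F.π ⟨f, hfC⟩), hπ5, pow_succ, pow_succ, pow_succ, pow_two]), hπ⟩ (F.π x)
      (by rw [← map_mul, ← map_mul, hxf])
    rw [hj]; exact npow_mem_zpowers _ _
  rw [h2, h5, Nat.card_zpowers, hπ5]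

end PreHyp

namespace Hyp

variable (h : Hyp z Q)
include h

theorem exists_gee : ∃ g, Gee z g := by
  classical
  haveI : Fact (Nat.Prime 5) := ⟨Nat.prime_five⟩
  haveI : Fact (Nat.Prime 3) := ⟨Nat.prime_three⟩
  obtain ⟨t, ht⟩ := h.exists_out
  obtain ⟨a, p⟩ := h.exists_pt ht
  obtain ⟨ρ, V, B, s⟩ := p.exists_split
  obtain ⟨eB⟩ := s.iso
  obtain ⟨σ, hσ, hσB, hσV, hσt, -, -⟩ := p.exists_sigma s
  obtain ⟨⟨g, hgB⟩, hg⟩ := exists_prime_orderOf_dvd_card' (G := B) 5
    (by rw [Nat.card_congr eB.toEquiv, AltFive.card_A]; norm_num)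
  rw [orderOf_mk] at hg
  have hgA : eB ⟨g, hgB⟩ * eB ⟨g, hgB⟩ * eB ⟨g, hgB⟩ * eB ⟨g, hgB⟩ * eB ⟨g, hgB⟩ = 1 ∧ eB ⟨g, hgB⟩ ≠ 1 := by
    have ho : orderOf (eB ⟨g, hgB⟩) = 5 := by rw [MulEquiv.orderOf_eq, orderOf_mk, hg]
    refine ⟨?_, fun e => by rw [e, orderOf_one] at ho; omega⟩
    rw [← pow_orderOf_eq_one (eB ⟨g, hgB⟩), ho, pow_succ, pow_succ, pow_succ, pow_two]
  -- the order of the centralizer
  obtain ⟨P, hP⟩ := (IsPGroup.of_card (p := 5) (n := 1) (G := zpowers g)
    (by rw [Nat.card_zpowers, hg, pow_one])).exists_le_sylow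
  have hP25 : Nat.card (P : Subgroup G) = 25 := by
    rw [P.card_eq_multiplicity, h.card_eq, show (604800 : ℕ) = 5 ^ 2 * 24192 by norm_num,
      Nat.factorization_mul (by norm_num) (by norm_num), Finsupp.add_apply,
      Nat.Prime.factorization_pow Nat.prime_five, Nat.factorization_eq_zero_of_not_dvd (by norm_num :
      ¬ 5 ∣ 24192)]
    simp
  haveI : IsMulCommutative (P : Subgroup G) := IsPGroup.isMulCommutative_of_card_eq_prime_sq (p := 5)
    (by rw [hP25]; norm_num)
  have hPK : (P : Subgroup G) ≤ centralizer ({g} : Set G) := fun x hx => mem_centralizer_singleton_iff.2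
    (congrArg Subtype.val (mul_comm' (⟨x, hx⟩ : (P : Subgroup G)) ⟨g, hP (mem_zpowers g)⟩))
  obtain ⟨φ, hφ, hker⟩ := (p.centralizer_cases s hgB (Or.inr hg)).resolve_left fun e => by
    have := card_dvd_of_le hPK
    rw [hP25, e, hg] at this
    norm_num at this
  have hcard : Nat.card (centralizer ({g} : Set G)) = 300 := by
    have h1 := φ.ker.card_mul_index
    rw [index_ker, MonoidHom.range_eq_top.2 hφ, card_top, AltFive.card_A,
      show φ.ker = cyc g by ext c; rw [MonoidHom.mem_ker, hker, mem_cyc], card_cyc, hg] at h1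
    exact h1.symm
  refine ⟨g, hg, hcard, fun u hu hzu => ?_, ⟨φ, hφ, hker⟩, ?_, ?_, fun d hd hd3 => ?_⟩
  · obtain ⟨hu2, hu1⟩ := conj_involution hzu h.inv
    have hto := (p.sylow_centralizer_B s hgB (Or.inr hg)).2 u hu
      (orderOf_eq_prime (by rw [pow_two]; exact hu2) hu1)
    exact (h.classes ht).1 (hzu.trans hto.symm)
  · intro n
    have key : ∀ n : G, n * g * n⁻¹ ≠ g * g := by
      intro n hn
      -- reduce to an element normalizing the four-group
      set K := centralizer ({g} : Set G) with hK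
      haveI : Fact (Nat.Prime 2) := ⟨Nat.prime_two⟩
      have hVK : V ≤ K := fun v hv => mem_centralizer_singleton_iff.2 (s.comm v hv g hgB)
      have hnK : ∀ x ∈ K, n * x * n⁻¹ ∈ K := by
        intro x hx
        have hz : zpowers g = zpowers (n * g * n⁻¹) := by
          refine (eq_of_le_of_card_ge (zpowers_le.2 ?_) ?_).symm
          · rw [hn]; exact mul_mem (mem_zpowers g) (mem_zpowers g)
          · rw [Nat.card_zpowers, Nat.card_zpowers, show orderOf (n * g * n⁻¹) = orderOf g from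
              orderOf_injective (MulAut.conj n).toMonoidHom (MulAut.conj n).injective g]
        rw [hK, centralizer_of_zpowers_eq hz, mem_centralizer_conj]
        simpa [mul_assoc] using hx
      have hsylow : ∀ {U : Subgroup G}, U ≤ K → Nat.card U = 4 →
          ∃ S : Sylow 2 K, (S : Subgroup K) = U.subgroupOf K := by
        intro U hUK hU
        obtain ⟨S, hS⟩ := (IsPGroup.of_card (p := 2) (n := 2) (G := U.subgroupOf K)
          (by rw [Nat.card_congr (subgroupOfEquivOfLe hUK).toEquiv, hU]; rfl)).exists_le_sylow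
        refine ⟨S, (eq_of_le_of_card_ge hS ?_).symm⟩
        rw [Nat.card_congr (subgroupOfEquivOfLe hUK).toEquiv, hU]
        obtain ⟨k, hk⟩ := IsPGroup.iff_card.1 S.isPGroup'
        have hd := card_subgroup_dvd_card (S : Subgroup K)
        rw [hk, hcard] at hd
        have hk2 : k ≤ 2 := by
          by_contra hk2
          exact absurd ((pow_dvd_pow 2 (show 3 ≤ k by omega)).trans hd) (by norm_num)
        rw [hk]
        exact (Nat.pow_le_pow_right (by norm_num) hk2).trans (by norm_num)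
      have hU : cj n V ≤ K := by
        rintro _ ⟨v, hv, rfl⟩
        exact hnK v (hVK hv)
      obtain ⟨S, hS⟩ := hsylow hU (by rw [cj, card_map_of_injective (MulAut.conj n).injective, s.cardV])
      obtain ⟨S', hS'⟩ := hsylow hVK s.cardV
      obtain ⟨k, hk⟩ := MulAction.exists_smul_eq K S S'
      set m := (k : G) * n with hm
      have hmV : ∀ v ∈ V, m * v * m⁻¹ ∈ V := by
        intro v hv
        have hmem : k * ⟨n * v * n⁻¹, hnK v (hVK hv)⟩ * k⁻¹ ∈ (S' : Subgroup K) := by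
          rw [← hk, Sylow.coe_subgroup_smul]
          exact ⟨_, hS.ge (mem_subgroupOf.2 ⟨v, hv, rfl⟩), rfl⟩
        rw [hS', mem_subgroupOf] at hmem
        rw [show m * v * m⁻¹ = (k : G) * (n * v * n⁻¹) * (k : G)⁻¹ by rw [hm]; group]
        exact hmem
      have hmg : m * g * m⁻¹ = g * g := by
        have hkg : Commute (k : G) g := mem_centralizer_singleton_iff.1 k.2
        rw [show m * g * m⁻¹ = (k : G) * (n * g * n⁻¹) * (k : G)⁻¹ by rw [hm]; group, hn,
          (hkg.mul_right hkg).eq, mul_inv_cancel_right]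
      have hmN : m ∈ normalizer (V : Set G) := mem_normalizer_of_le hmV
      -- move the action into the alternating factor
      obtain ⟨l, hlB, hl⟩ : ∃ l ∈ B, l * g * l⁻¹ = g * g := by
        have hmem := mem_normalizer_iff.1 hmN
        by_cases hc : m * t * m⁻¹ = t
        · obtain ⟨v, hv, b, hb, e⟩ := s.fac m (mem_centralizer_singleton_iff.2 (mul_inv_eq_iff_eq_mul.1 hc))
          refine ⟨b, hb, ?_⟩
          have hbg : b * g * b⁻¹ ∈ B := mul_mem (mul_mem hb hgB) (inv_mem hb)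
          rw [← hmg, e, show v * b * g * (v * b)⁻¹ = v * (b * g * b⁻¹) * v⁻¹ by group, s.comm v hv _ hbg,
            mul_inv_cancel_right]
        · have h3 : ∃ j : ℕ, σ ^ j * (m * t * m⁻¹) * (σ ^ j)⁻¹ = t := by
            have hσN : σ ∈ normalizer (V : Set G) := mem_normalizer_of_le hσV
            have hσ3 : σ * σ * σ = 1 := by rw [← pow_orderOf_eq_one σ, hσ, pow_succ, pow_two]
            have hcardD := p.card_of_moving s (show zpowers σ ≤ normalizer (V : Set G) from zpowers_le.2 hσN)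
              (mem_zpowers σ) hσ3 hσt
            have horb := card_orbit_mul (zpowers σ) t
            rw [hcardD] at horb
            have horb3 : Nat.card {y : G // ∃ c ∈ zpowers σ, c * t * c⁻¹ = y} = 3 :=
              Nat.eq_of_mul_eq_mul_right Nat.card_pos horb
            let f : {y : G // ∃ c ∈ zpowers σ, c * t * c⁻¹ = y} → {v : V // v ≠ 1} := fun y => ⟨⟨y.1, by
              obtain ⟨c, hc', e⟩ := y.2
              exact e ▸ (mem_normalizer_iff.1 (zpowers_le.2 hσN hc') t).1 s.memV⟩, fun e => by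
              obtain ⟨c, -, e'⟩ := y.2
              exact p.out.ne_one (conj_eq_one_iff.1 (e'.trans (congrArg Subtype.val e)))⟩
            have hf : Function.Bijective f := by
              refine (Nat.bijective_iff_injective_and_card f).2 ⟨fun x y e => Subtype.ext
                (congrArg (fun v : {v : V // v ≠ 1} => ((v : V) : G)) e), ?_⟩
              letI := Fintype.ofFinite V
              rw [horb3, Nat.card_eq_fintype_card, Fintype.card_subtype_compl, Fintype.card_subtype_eq,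
                ← Nat.card_eq_fintype_card, s.cardV]
            obtain ⟨y, hy⟩ := hf.2 ⟨⟨_, hmV t s.memV⟩, fun e =>
              p.out.ne_one (conj_eq_one_iff.1 (congrArg Subtype.val e))⟩
            obtain ⟨c, hc', e⟩ := y.2
            obtain ⟨j, hj⟩ := (isOfFinOrder_of_finite σ).mem_powers_iff_mem_zpowers.2 (inv_mem hc')
            refine ⟨j, ?_⟩
            have e' : y.1 = m * t * m⁻¹ := congrArg (fun v : {v : V // v ≠ 1} => ((v : V) : G)) hy
            rw [show σ ^ j = c⁻¹ from hj, ← e', ← e]; group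
          obtain ⟨j, hj⟩ := h3
          obtain ⟨v, hv, b, hb, e⟩ := s.fac (σ ^ j * m) (mem_centralizer_singleton_iff.2
            (mul_inv_eq_iff_eq_mul.1 (show σ ^ j * m * t * (σ ^ j * m)⁻¹ = t by
              rw [show σ ^ j * m * t * (σ ^ j * m)⁻¹ = σ ^ j * (m * t * m⁻¹) * (σ ^ j)⁻¹ by group, hj])))
          refine ⟨b, hb, ?_⟩
          have hbg : b * g * b⁻¹ ∈ B := mul_mem (mul_mem hb hgB) (inv_mem hb)
          have hσg : Commute (σ ^ j) (g * g) :=
            ((show Commute σ g from hσB g hgB).mul_right (hσB g hgB)).pow_left j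
          have e2 : σ ^ j * m * g * (σ ^ j * m)⁻¹ = g * g := by
            rw [show σ ^ j * m * g * (σ ^ j * m)⁻¹ = σ ^ j * (m * g * m⁻¹) * (σ ^ j)⁻¹ by group, hmg, hσg.eq,
              mul_inv_cancel_right]
          rw [← e2, e, show v * b * g * (v * b)⁻¹ = v * (b * g * b⁻¹) * v⁻¹ by group, s.comm v hv _ hbg,
            mul_inv_cancel_right]
      refine (AltFive.five_conj ⟨eB ⟨g, hgB⟩, hgA⟩ (eB ⟨l, hlB⟩)).1 ?_
      show eB ⟨l, hlB⟩ * eB ⟨g, hgB⟩ * (eB ⟨l, hlB⟩)⁻¹ = eB ⟨g, hgB⟩ * eB ⟨g, hgB⟩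
      rw [← map_inv, ← map_mul, ← map_mul, ← map_mul]
      exact congrArg eB (Subtype.ext hl)
    refine ⟨key n, fun e => key n⁻¹ ?_⟩
    have h5 : g * g * g * g * g = 1 := by
      rw [← pow_orderOf_eq_one g, hg, pow_succ, pow_succ, pow_succ, pow_two]
    calc n⁻¹ * g * n⁻¹⁻¹ = n⁻¹ * (g * g * g * g * g * g) * n := by rw [h5]; group
      _ = n⁻¹ * (g * g * g * (g * g * g)) * n := by group
      _ = n⁻¹ * (n * g * n⁻¹ * (n * g * n⁻¹)) * n := by rw [e]
      _ = g * g := by group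
  · obtain ⟨x, hx⟩ := AltFive.five_inv ⟨eB ⟨g, hgB⟩, hgA⟩
    obtain ⟨k, rfl⟩ := eB.surjective x
    refine ⟨k, ?_⟩
    have hx' : eB k * eB ⟨g, hgB⟩ * (eB k)⁻¹ = (eB ⟨g, hgB⟩)⁻¹ := hx
    rw [← map_inv, ← map_inv, ← map_mul, ← map_mul] at hx'
    exact congrArg Subtype.val (eB.injective hx')
  · set K := centralizer ({g} : Set G) with hK
    have hσK : σ ∈ K := mem_centralizer_singleton_iff.2 (hσB g hgB)
    have hS3 : ∀ x : K, orderOf x = 3 → ∃ S : Sylow 3 K, (S : Subgroup K) = zpowers x := by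
      intro x hx
      obtain ⟨S, hS⟩ := (IsPGroup.of_card (p := 3) (n := 1) (G := zpowers x)
        (by rw [Nat.card_zpowers, hx, pow_one])).exists_le_sylow
      refine ⟨S, (eq_of_le_of_card_ge hS ?_).symm⟩
      obtain ⟨k, hk⟩ := IsPGroup.iff_card.1 S.isPGroup'
      have hd := card_subgroup_dvd_card (S : Subgroup K)
      rw [hk, hcard] at hd
      have hk1 : k ≤ 1 := by
        by_contra hk1
        exact absurd ((pow_dvd_pow 3 (show 2 ≤ k by omega)).trans hd) (by norm_num)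
      rw [hk, Nat.card_zpowers, hx]
      exact (Nat.pow_le_pow_right (by norm_num) hk1).trans (by norm_num)
    obtain ⟨S, hS⟩ := hS3 ⟨d, hd⟩ (by rw [orderOf_mk]; exact hd3)
    obtain ⟨S', hS'⟩ := hS3 ⟨σ, hσK⟩ (by rw [orderOf_mk]; exact hσ)
    obtain ⟨c, hc⟩ := MulAction.exists_smul_eq K S S'
    have hm : c * ⟨d, hd⟩ * c⁻¹ ∈ (S' : Subgroup K) := by
      rw [← hc, Sylow.coe_subgroup_smul, hS]; exact ⟨_, mem_zpowers _, rfl⟩
    rw [hS', mem_zpowers_iff] at hm
    obtain ⟨k, hk⟩ := hm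
    have hk' : σ ^ k = (c : G) * d * (c : G)⁻¹ := congrArg Subtype.val hk
    refine ⟨(c : G)⁻¹ * z * c, isConj_iff.2 ⟨(c : G)⁻¹, by group⟩, ?_⟩
    have hzσ : Commute z (σ ^ k) := (show Commute z σ from (hσB z s.triple.1).symm).zpow_right k
    rw [hk'] at hzσ
    calc (c : G)⁻¹ * z * c * d = (c : G)⁻¹ * (z * ((c : G) * d * (c : G)⁻¹)) * c := by group
      _ = (c : G)⁻¹ * ((c : G) * d * (c : G)⁻¹ * z) * c := by rw [hzσ.eq]
      _ = _ := by group

theorem five_main {g : G} (hG : Gee z g) {P : Sylow 5 G} (hgP : g ∈ (P : Subgroup G)) :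
    centralizer ((P : Subgroup G) : Set G) = P ∧ Nat.card P = 25 ∧
    Nat.card (normalizer ((P : Subgroup G) : Set G)) = 300 ∧
    ∃ l ∈ (P : Subgroup G), orderOf l = 5 ∧ (∃ u, IsConj z u ∧ u * l = l * u) ∧
      ¬ 7 ∣ Nat.card (centralizer ({l} : Set G)) ∧ ¬ 3 ∣ Nat.card (centralizer ({l} : Set G)) ∧
      ∀ x ∈ (P : Subgroup G), orderOf x = 5 →
        ∃ c : G, zpowers (c * x * c⁻¹) = zpowers g ∨ zpowers (c * x * c⁻¹) = zpowers l := by
  classical
  letI := Fintype.ofFinite G
  haveI : Fact (Nat.Prime 5) := ⟨Nat.prime_five⟩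
  haveI : Fact (Nat.Prime 3) := ⟨Nat.prime_three⟩
  obtain ⟨φ, hφ, hker⟩ := hG.quot
  have hP25 : Nat.card (P : Subgroup G) = 25 := by
    rw [P.card_eq_multiplicity, h.card_eq, show (604800 : ℕ) = 5 ^ 2 * 24192 by norm_num,
      Nat.factorization_mul (by norm_num) (by norm_num), Finsupp.add_apply,
      Nat.Prime.factorization_pow Nat.prime_five, Nat.factorization_eq_zero_of_not_dvd (by norm_num :
      ¬ 5 ∣ 24192)]
    simp
  haveI : IsMulCommutative (P : Subgroup G) := IsPGroup.isMulCommutative_of_card_eq_prime_sq (p := 5)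
    (by rw [hP25]; norm_num)
  have hPc : ∀ {x y : G}, x ∈ (P : Subgroup G) → y ∈ (P : Subgroup G) → x * y = y * x := fun hx hy =>
    congrArg Subtype.val (mul_comm' (⟨_, hx⟩ : (P : Subgroup G)) ⟨_, hy⟩)
  have hPK : (P : Subgroup G) ≤ centralizer ({g} : Set G) := fun x hx =>
    mem_centralizer_singleton_iff.2 (hPc hx hgP)
  obtain ⟨y, hyP, hy⟩ : ∃ y ∈ (P : Subgroup G), y ∉ zpowers g := by
    by_contra hno
    push Not at hno
    have := card_le_of_le (show (P : Subgroup G) ≤ zpowers g from hno)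
    rw [hP25, Nat.card_zpowers, hG.ord] at this
    norm_num at this
  have hφ5 : ∀ {w : G} (hw : w ∈ (P : Subgroup G)), φ ⟨w, hPK hw⟩ ^ 5 = 1 := by
    intro w hw
    have ho : orderOf (φ ⟨w, hPK hw⟩) ∣ 25 :=
      (orderOf_map_dvd φ _).trans (by rw [orderOf_mk]; exact hP25 ▸ orderOf_dvd_natCard _ hw)
    have h60 : orderOf (φ ⟨w, hPK hw⟩) ∣ 60 := AltFive.card_A ▸ orderOf_dvd_natCard _
    exact orderOf_dvd_iff_pow_eq_one.1 ((Nat.dvd_gcd ho h60).trans (by norm_num))
  -- the image of `P`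
  have hy1 : φ ⟨y, hPK hyP⟩ ≠ 1 := fun e => hy ((hker _).1 e)
  set γ := φ ⟨y, hPK hyP⟩ with hγ
  have hγA : (γ * γ * γ = 1 ∨ γ * γ * γ * γ * γ = 1) ∧ γ ≠ 1 := by
    refine ⟨Or.inr ?_, hy1⟩
    rw [← hφ5 hyP, pow_succ, pow_succ, pow_succ, pow_two]
  have hγ5 : γ * γ * γ * γ * γ = 1 ∧ γ ≠ 1 := by
    refine ⟨?_, hy1⟩
    rw [← hφ5 hyP, pow_succ, pow_succ, pow_succ, pow_two]
  have hγo : orderOf γ = 5 := orderOf_eq_prime (hφ5 hyP) hy1
  have himg : ∀ (k : ↥(centralizer ({g} : Set G))), φ k * γ = γ * φ k → (k : G) ∈ (P : Subgroup G) := by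
    intro k hk
    obtain ⟨j, hj⟩ := AltFive.centralizer_pow ⟨γ, hγA⟩ (φ k) hk
    have h1 : (k * (⟨y, hPK hyP⟩ ^ (j : ℕ))⁻¹ : ↥(centralizer ({g} : Set G))).1 ∈ zpowers g := by
      rw [← hker, map_mul, map_inv, map_pow, hj, mul_inv_cancel]
    rw [coe_mul, coe_inv, coe_pow] at h1
    have := mul_mem (zpowers_le.2 hgP h1) (pow_mem hyP (j : ℕ))
    simpa using this
  have h5 : ∀ {x : G}, x ∈ (P : Subgroup G) → x ≠ 1 → orderOf x = 5 := by
    intro x hx hx1
    have hd := orderOf_dvd_natCard (P : Subgroup G) hx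
    rw [hP25] at hd
    have h25 : x ^ 25 = 1 := orderOf_dvd_iff_pow_eq_one.1 hd
    refine orderOf_eq_prime ?_ hx1
    by_cases hxg : x ∈ zpowers g
    · obtain ⟨i, rfl⟩ := mem_zpowers_iff.1 hxg
      rw [← zpow_natCast, ← zpow_mul, mul_comm, zpow_mul, zpow_natCast, ← hG.ord, pow_orderOf_eq_one, one_zpow]
    have hξ1 : φ ⟨x, hPK hx⟩ ≠ 1 := fun e => hxg ((hker _).1 e)
    obtain ⟨k', hk'⟩ := AltFive.five_inv ⟨φ ⟨x, hPK hx⟩, by
      rw [← hφ5 hx, pow_succ, pow_succ, pow_succ, pow_two], hξ1⟩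
    obtain ⟨k, rfl⟩ := hφ k'
    have hk : φ k * φ ⟨x, hPK hx⟩ * (φ k)⁻¹ = (φ ⟨x, hPK hx⟩)⁻¹ := hk'
    have hr : (k : G) * x * (k : G)⁻¹ * x ∈ zpowers g := by
      have : φ (k * ⟨x, hPK hx⟩ * k⁻¹ * ⟨x, hPK hx⟩) = 1 := by
        rw [map_mul, map_mul, map_mul, map_inv, hk, inv_mul_cancel]
      exact (hker _).1 this
    obtain ⟨i, hi⟩ := mem_zpowers_iff.1 hr
    have hx5 : x ^ 5 ∈ zpowers g := (hker (⟨x, hPK hx⟩ ^ 5)).1 (by rw [map_pow]; exact hφ5 hx)
    have hkg : Commute (k : G) g := mem_centralizer_singleton_iff.1 k.2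
    have hgx : Commute (g ^ i) x⁻¹ :=
      ((show Commute g x from hPc hgP hx).zpow_left i).inv_right
    have e : (k : G) * x * (k : G)⁻¹ = g ^ i * x⁻¹ := by rw [hi, mul_inv_cancel_right]
    have e5 : ((k : G) * x * (k : G)⁻¹) ^ 5 = (x ^ 5)⁻¹ := by
      have hg5 : (g ^ i) ^ 5 = 1 := by
        rw [← zpow_natCast, ← zpow_mul, mul_comm, zpow_mul, zpow_natCast, ← hG.ord, pow_orderOf_eq_one,
          one_zpow]
      rw [e, hgx.mul_pow, hg5, one_mul, inv_pow]
    obtain ⟨m, hm⟩ := mem_zpowers_iff.1 hx5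
    rw [conj_pow, ← hm, (hkg.zpow_right m).eq, mul_inv_cancel_right, hm] at e5
    have h10 : x ^ 10 = 1 := by
      calc x ^ 10 = x ^ 5 * x ^ 5 := by rw [← pow_add]
        _ = x ^ 5 * (x ^ 5)⁻¹ := by rw [← e5]
        _ = 1 := mul_inv_cancel _
    calc x ^ 5 = x ^ (25 + 0) * ((x ^ 10) ^ 2)⁻¹ := by rw [Nat.add_zero, ← pow_mul]; group
      _ = 1 := by rw [Nat.add_zero, h25, h10]; group
  have hCP : centralizer ((P : Subgroup G) : Set G) = P := by
    refine le_antisymm (fun x hx => ?_) fun x hx => mem_centralizer_iff.2 fun w hw => hPc hw hx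
    have hxg : x ∈ centralizer ({g} : Set G) :=
      mem_centralizer_singleton_iff.2 (mem_centralizer_iff.1 hx g hgP).symm
    exact himg ⟨x, hxg⟩ (by
      rw [hγ, ← map_mul, ← map_mul]
      exact congrArg φ (Subtype.ext (mem_centralizer_iff.1 hx y hyP).symm))
  set N := normalizer ((P : Subgroup G) : Set G) with hNdef
  -- the part of the normalizer centralizing `g`
  have hnorm : ∀ k : ↥(centralizer ({g} : Set G)),
      (k : G) ∈ N ↔ (φ k * γ * (φ k)⁻¹ = γ ∨ φ k * γ * (φ k)⁻¹ = γ⁻¹) := by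
    intro k
    have hpow : ∀ {w : G} (hw : w ∈ (P : Subgroup G)), ∃ j : Fin 5, φ ⟨w, hPK hw⟩ = γ ^ (j : ℕ) :=
      fun {w} hw => AltFive.centralizer_pow ⟨γ, hγA⟩ _ (by
        show φ ⟨w, hPK hw⟩ * φ ⟨y, hPK hyP⟩ = φ ⟨y, hPK hyP⟩ * φ ⟨w, hPK hw⟩
        rw [← map_mul, ← map_mul]; exact congrArg φ (Subtype.ext (hPc hw hyP)))
    constructor
    · intro hk
      have hmem : (k : G) * y * (k : G)⁻¹ ∈ (P : Subgroup G) := (mem_normalizer_iff.1 hk y).1 hyP
      obtain ⟨j, hj⟩ := hpow hmem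
      have hj' : φ k * γ * (φ k)⁻¹ = γ ^ (j : ℕ) := by
        rw [hγ, ← map_inv, ← map_mul, ← map_mul]; exact hj
      rcases pow_cases_five hγo (npow_mem_zpowers γ (j : ℕ)) with e | e | e | e | e <;> rw [e] at hj'
      · exact absurd (conj_eq_one_iff.1 hj') hy1
      · exact Or.inl hj'
      · exact absurd hj' (AltFive.five_conj ⟨γ, hγ5⟩ (φ k)).1
      · exact absurd hj' (AltFive.five_conj ⟨γ, hγ5⟩ (φ k)).2
      · exact Or.inr hj'
    · intro hk
      refine mem_normalizer_of_le fun w hw => ?_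
      obtain ⟨j, hj⟩ := hpow hw
      refine himg (k * ⟨w, hPK hw⟩ * k⁻¹) ?_
      rw [map_mul, map_mul, map_inv, hj, ← conj_pow]
      rcases hk with e | e <;> rw [e]
      · exact (Commute.pow_self γ (j : ℕ)).eq
      · exact ((Commute.refl γ).inv_left.pow_left (j : ℕ)).eq
  have h50 : Nat.card (N ⊓ centralizer ({g} : Set G) : Subgroup G) = 50 := by
    have hc : Nat.card {x : A // x * γ * x⁻¹ = γ ∨ x * γ * x⁻¹ = γ⁻¹} = 10 := by
      rw [Nat.card_eq_fintype_card]; exact AltFive.five_normalizer ⟨γ, hγ5⟩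
    have hk5 : Nat.card φ.ker = 5 := by
      rw [show φ.ker = cyc g by ext c; rw [MonoidHom.mem_ker, hker, mem_cyc], card_cyc, hG.ord]
    set X : Subgroup ↥(centralizer ({g} : Set G)) := N.subgroupOf (centralizer ({g} : Set G)) with hX
    have hXmap : (X.map φ : Subgroup A) = X.map φ := rfl
    have hXc : Nat.card (X.map φ) = 10 := by
      rw [← hc]
      refine Nat.card_congr (Equiv.subtypeEquivRight fun a => ?_)
      constructor
      · rintro ⟨k, hk, rfl⟩
        exact (hnorm k).1 (mem_subgroupOf.1 hk)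
      · intro ha
        obtain ⟨k, rfl⟩ := hφ a
        exact ⟨k, mem_subgroupOf.2 ((hnorm k).2 ha), rfl⟩
    have hle : φ.ker ≤ X := fun k hk => mem_subgroupOf.2
      (le_normalizer (zpowers_le.2 hgP ((hker k).1 hk)))
    have h1 : Nat.card X = Nat.card φ.ker * Nat.card (X.map φ) := by
      let ψ := φ.comp X.subtype
      have h := ψ.ker.card_mul_index
      rw [index_ker, show ψ.range = X.map φ by rw [MonoidHom.range_comp, range_subtype]] at h
      rw [← h]
      congr 1
      exact Nat.card_congr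
        { toFun := fun a => ⟨a.1.1, a.2⟩
          invFun := fun b => ⟨⟨b.1, hle b.2⟩, b.2⟩
          left_inv := fun a => rfl
          right_inv := fun b => rfl }
    rw [← Nat.card_congr (subgroupOfEquivOfLe (inf_le_right : N ⊓ centralizer ({g} : Set G) ≤ _)).toEquiv,
      inf_subgroupOf_right, ← hX, h1, hk5, hXc]
  -- the inversion
  obtain ⟨τ, hτN, hτ⟩ : ∃ τ ∈ N, τ * g * τ⁻¹ = g⁻¹ := by
    obtain ⟨τ, hτ⟩ := hG.inv
    have hsub : ∀ w ∈ (P : Subgroup G), τ * w * τ⁻¹ ∈ centralizer ({g} : Set G) := by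
      intro w hw
      have hw' : τ * w * τ⁻¹ * g⁻¹ = g⁻¹ * (τ * w * τ⁻¹) := by
        rw [← hτ, show τ * w * τ⁻¹ * (τ * g * τ⁻¹) = τ * (w * g) * τ⁻¹ by group, hPc hw hgP]; group
      refine mem_centralizer_singleton_iff.2 ?_
      have := (show Commute (τ * w * τ⁻¹) g⁻¹ from hw').inv_right
      rwa [inv_inv] at this
    have hp1 : IsPGroup 5 (((P : Subgroup G).map (MulAut.conj τ).toMonoidHom).subgroupOf
        (centralizer ({g} : Set G))) := (P.isPGroup'.map (MulAut.conj τ).toMonoidHom).comap_subtype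
    have hp2 : IsPGroup 5 ((P : Subgroup G).subgroupOf (centralizer ({g} : Set G))) :=
      P.isPGroup'.comap_subtype
    obtain ⟨S, hS⟩ := hp1.exists_le_sylow
    obtain ⟨S', hS'⟩ := hp2.exists_le_sylow
    obtain ⟨k, hk⟩ := MulAction.exists_smul_eq ↥(centralizer ({g} : Set G)) S S'
    have hS'P : ∀ w ∈ (S' : Subgroup ↥(centralizer ({g} : Set G))), (w : G) ∈ (P : Subgroup G) := by
      intro w hw
      have hp : IsPGroup 5 ((S' : Subgroup ↥(centralizer ({g} : Set G))).map
          (centralizer ({g} : Set G)).subtype) := S'.isPGroup'.map _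
      have hle : (P : Subgroup G) ≤ (S' : Subgroup ↥(centralizer ({g} : Set G))).map
          (centralizer ({g} : Set G)).subtype := fun x hx => ⟨⟨x, hPK hx⟩, hS' (mem_subgroupOf.2 hx), rfl⟩
      exact (P.is_maximal' hp hle).le ⟨w, hw, rfl⟩
    refine ⟨(k : G) * τ, mem_normalizer_of_le fun w hw => ?_, ?_⟩
    · have hmem : k * ⟨τ * w * τ⁻¹, hsub w hw⟩ * k⁻¹ ∈
          (S' : Subgroup ↥(centralizer ({g} : Set G))) := by
        rw [← hk, Sylow.coe_subgroup_smul]
        exact ⟨_, hS (mem_subgroupOf.2 ⟨w, hw, rfl⟩), rfl⟩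
      have := hS'P _ hmem
      rw [show (k : G) * τ * w * ((k : G) * τ)⁻¹ = (k : G) * (τ * w * τ⁻¹) * (k : G)⁻¹ by group]
      exact this
    · have hkg : Commute (k : G) g⁻¹ := (show Commute (k : G) g from mem_centralizer_singleton_iff.1 k.2).inv_right
      rw [show (k : G) * τ * g * ((k : G) * τ)⁻¹ = (k : G) * (τ * g * τ⁻¹) * (k : G)⁻¹ by group, hτ, hkg.eq,
        mul_inv_cancel_right]
  -- the lines
  let U : Finset G := Finset.univ.filter fun x => x ∈ (P : Subgroup G) ∧ x ≠ 1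
  have memU : ∀ {x}, x ∈ U ↔ x ∈ (P : Subgroup G) ∧ x ≠ 1 := fun {x} => by simp [U]
  have hzP : ∀ {x w : G}, x ∈ U → w ∈ zpowers x → w ∈ (P : Subgroup G) := fun hx hw =>
    zpowers_le.2 (memU.1 hx).1 hw
  have hline : ∀ {x w : G}, x ∈ U → w ∈ zpowers x → w ≠ 1 → zpowers w = zpowers x := fun hx hw hw1 =>
    eq_of_le_of_card_ge (zpowers_le.2 hw)
      (by rw [Nat.card_zpowers, Nat.card_zpowers, h5 (memU.1 hx).1 (memU.1 hx).2, h5 (hzP hx hw) hw1])
  have hlines : (U.image zpowers).card = 6 := by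
    have hU : U.card = 24 := by
      rw [show U = (Finset.univ.filter fun x => x ∈ (P : Subgroup G)).erase 1 by
        ext x; simp [U, and_comm], Finset.card_erase_of_mem (by simp), ← Fintype.card_subtype,
        ← Nat.card_eq_fintype_card]
      have : Nat.card {x // x ∈ (P : Subgroup G)} = 25 := hP25
      omega
    have hfib : ∀ L ∈ U.image zpowers, (U.filter fun w => zpowers w = L).card = 4 := by
      intro L hL
      obtain ⟨x, hx, rfl⟩ := Finset.mem_image.1 hL
      have : (U.filter fun w => zpowers w = zpowers x) =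
          (Finset.univ.filter fun w => w ∈ zpowers x).erase 1 := by
        ext w
        simp only [Finset.mem_filter, Finset.mem_erase, Finset.mem_univ, true_and, memU]
        exact ⟨fun e => ⟨e.1.2, e.2 ▸ mem_zpowers w⟩, fun e => ⟨⟨hzP hx e.2, e.1⟩, hline hx e.2 e.1⟩⟩
      rw [this, Finset.card_erase_of_mem (by simp), ← Fintype.card_subtype, ← Nat.card_eq_fintype_card]
      show Nat.card (zpowers x) - 1 = 4
      rw [Nat.card_zpowers, h5 (memU.1 hx).1 (memU.1 hx).2]
    have := Finset.card_eq_sum_card_image zpowers U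
    rw [hU, Finset.sum_congr rfl hfib, Finset.sum_const, smul_eq_mul] at this
    omega
  have hg1 : g ≠ 1 := fun e => by have := hG.ord; rw [e, orderOf_one] at this; omega
  -- the order of the normalizer
  have horb := card_orbit_mul N g
  rw [h50] at horb
  set m := Nat.card {w : G // ∃ c ∈ N, c * g * c⁻¹ = w} with hm
  have hm2 : 2 ≤ m := by
    let f : Fin 2 → {w : G // ∃ c ∈ N, c * g * c⁻¹ = w} := ![⟨g, 1, one_mem _, by simp⟩, ⟨g⁻¹, τ, hτN, hτ⟩]
    have hf : Function.Injective f := by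
      have hne : g ≠ g⁻¹ := fun e => by
        have hd : orderOf g ∣ 2 := orderOf_dvd_of_pow_eq_one (by rw [pow_two]; nth_rw 1 [e]; exact inv_mul_cancel g)
        rw [hG.ord] at hd
        norm_num at hd
      intro i j e
      have e' : (f i).1 = (f j).1 := congrArg Subtype.val e
      fin_cases i <;> fin_cases j
      · rfl
      · exact absurd e' hne
      · exact absurd e'.symm hne
      · rfl
    have := Nat.card_le_card_of_injective f hf
    rwa [Nat.card_fin, ← hm] at this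
  have horbP : ∀ {w : G}, (∃ c ∈ N, c * g * c⁻¹ = w) → w ∈ U := by
    rintro w ⟨c, hc, rfl⟩
    exact memU.2 ⟨(mem_normalizer_iff.1 hc g).1 hgP, fun e => hg1 (conj_eq_one_iff.1 e)⟩
  have hm12 : m ≤ 12 := by
    rw [hm, Nat.card_eq_fintype_card, Fintype.card_subtype]
    refine le_trans (Finset.card_le_mul_card_image (f := zpowers) _ 2 fun L hL => ?_)
      (le_trans (Nat.mul_le_mul_left 2 (Finset.card_le_card (Finset.image_subset_image
        fun w hw => horbP (Finset.mem_filter.1 hw).2))) (by rw [hlines]))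
    obtain ⟨w, hw, rfl⟩ := Finset.mem_image.1 hL
    obtain ⟨c, hc, hcw⟩ := (Finset.mem_filter.1 hw).2
    refine le_trans (Finset.card_le_card (t := {w, w⁻¹}) fun w' hw' => ?_) Finset.card_le_two
    obtain ⟨hw'1, hw'2⟩ := Finset.mem_filter.1 hw'
    obtain ⟨c', hc', hcw'⟩ := (Finset.mem_filter.1 hw'1).2
    have hwo : orderOf w = 5 := by
      rw [← hcw]; exact (orderOf_injective (MulAut.conj c).toMonoidHom (MulAut.conj c).injective g).trans hG.ord
    simp only [Finset.mem_insert, Finset.mem_singleton]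
    rcases pow_cases_five hwo (hw'2 ▸ mem_zpowers w') with e | e | e | e | e
    · exact absurd e (memU.1 (horbP ⟨c', hc', hcw'⟩)).2
    · exact Or.inl e
    · refine absurd ?_ (hG.nosq (c⁻¹ * c')).1
      calc c⁻¹ * c' * g * (c⁻¹ * c')⁻¹ = c⁻¹ * (c' * g * c'⁻¹) * c := by group
        _ = c⁻¹ * (c * g * c⁻¹ * (c * g * c⁻¹)) * c := by rw [hcw', hcw, e]
        _ = g * g := by group
    · refine absurd ?_ (hG.nosq (c⁻¹ * c')).2
      calc c⁻¹ * c' * g * (c⁻¹ * c')⁻¹ = c⁻¹ * (c' * g * c'⁻¹) * c := by group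
        _ = c⁻¹ * (c * g * c⁻¹ * (c * g * c⁻¹) * (c * g * c⁻¹)) * c := by rw [hcw', hcw, e]
        _ = g * g * g := by group
    · exact Or.inr e
  have hN : Nat.card N = 300 := by
    have h1 := card_sylow_modEq_one 5 G
    rw [P.card_eq_index_normalizer] at h1
    have h2 : Nat.card N * N.index = 604800 := by rw [N.card_mul_index, h.card_eq]
    have h1' : N.index % 5 = 1 := h1
    rw [← horb] at h2 ⊢
    interval_cases m <;> omega
  obtain ⟨d, hd⟩ := exists_prime_orderOf_dvd_card' (G := N) 3 (by rw [hN]; norm_num)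
  rw [← orderOf_coe] at hd
  have hfree : ∀ w ∈ (P : Subgroup G), (d : G) * w = w * d → w = 1 := by
    intro w hw hdw
    by_contra hw1
    have hmod := fixed_mod_three hd fun x hx => (mem_normalizer_iff.1 d.2 x).1 hx
    rw [hP25] at hmod
    have hdvd : Nat.card ((P : Subgroup G) ⊓ centralizer ({(d : G)} : Set G) : Subgroup G) ∣ 25 :=
      hP25 ▸ card_dvd_of_le inf_le_left
    obtain ⟨k, hk, e⟩ := (Nat.dvd_prime_pow Nat.prime_five (m := 2)).1 (show _ ∣ 5 ^ 2 from hdvd)
    interval_cases k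
    · have hbot := (card_eq_one.1 (e.trans (pow_zero 5)))
      exact hw1 (mem_bot.1 (hbot.le ⟨hw, mem_centralizer_singleton_iff.2 hdw.symm⟩))
    · rw [e] at hmod; norm_num at hmod
    · have hall : (P : Subgroup G) ⊓ centralizer ({(d : G)} : Set G) = P :=
        eq_of_le_of_card_ge inf_le_left (by rw [hP25, e]; norm_num)
      have hdP : (d : G) ∈ centralizer ((P : Subgroup G) : Set G) := mem_centralizer_iff.2 fun x hx =>
        mem_centralizer_singleton_iff.1 (hall.ge hx).2
      rw [hCP] at hdP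
      have := orderOf_dvd_natCard (P : Subgroup G) hdP
      rw [hd, hP25] at this
      norm_num at this
  let c : G → G := fun w => (d : G) * w * (d : G)⁻¹
  have hc3 : ∀ w, c (c (c w)) = w := fun w => by
    have hd3 : (d : G) * d * d = 1 := by rw [← pow_orderOf_eq_one (d : G), hd, pow_succ, pow_two]
    calc c (c (c w)) = (d : G) * d * d * w * ((d : G) * d * d)⁻¹ := by simp only [c]; group
      _ = w := by rw [hd3]; group
  have hcU : ∀ {w}, w ∈ U → c w ∈ U := fun {w} hw =>
    memU.2 ⟨(mem_normalizer_iff.1 d.2 w).1 (memU.1 hw).1, fun e => (memU.1 hw).2 (conj_eq_one_iff.1 e)⟩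
  have hcz : ∀ {v w}, zpowers v = zpowers w → zpowers (c v) = zpowers (c w) := fun {v w} e => by
    have := congrArg (Subgroup.map (MulAut.conj (d : G)).toMonoidHom) e
    rwa [MonoidHom.map_zpowers, MonoidHom.map_zpowers] at this
  have hmove : ∀ {w}, w ∈ U → zpowers (c w) ≠ zpowers w := by
    intro w hw e
    have hS : ∀ x ∈ zpowers w, (d : G) * x * (d : G)⁻¹ ∈ zpowers w := by
      intro x hx
      obtain ⟨i, rfl⟩ := mem_zpowers_iff.1 hx
      rw [← conj_zpow]
      exact zpow_mem (e ▸ mem_zpowers _) i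
    have hmod := fixed_mod_three hd hS
    rw [Nat.card_zpowers, h5 (memU.1 hw).1 (memU.1 hw).2] at hmod
    have hbot : zpowers w ⊓ centralizer ({(d : G)} : Set G) = ⊥ := (eq_bot_iff_forall _).2 fun x hx =>
      hfree x (hzP hw hx.1) (mem_centralizer_singleton_iff.1 hx.2).symm
    rw [hbot, card_bot] at hmod
    norm_num at hmod
  obtain ⟨f, hfC, hf, -⟩ := h.five_elt
  obtain ⟨R, hR⟩ := (IsPGroup.of_card (p := 5) (n := 1) (G := zpowers f)
    (by rw [Nat.card_zpowers, hf, pow_one])).exists_le_sylow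
  obtain ⟨e, he⟩ := MulAction.exists_smul_eq G R P
  have hlP : e * f * e⁻¹ ∈ (P : Subgroup G) := by
    rw [← he, Sylow.coe_subgroup_smul]; exact ⟨f, hR (mem_zpowers f), rfl⟩
  set l := e * f * e⁻¹ with hl
  have hlo : orderOf l = 5 := (orderOf_injective (MulAut.conj e).toMonoidHom (MulAut.conj e).injective f).trans hf
  have hlU : l ∈ U := memU.2 ⟨hlP, fun e' => by rw [e', orderOf_one] at hlo; omega⟩
  set u := e * z * e⁻¹ with hu
  have h' : Hyp u (cj e Q) := h.conj e
  have hlu : l ∈ centralizer ({u} : Set G) := mem_centralizer_conj.2 (by simpa [hl, mul_assoc] using hfC)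
  have hzu : IsConj z u := isConj_iff.2 ⟨e, rfl⟩
  have hsep : ∀ n : G, zpowers (n * g * n⁻¹) ≠ zpowers l := by
    intro n e'
    refine hG.noz (n⁻¹ * u * n) ?_ (hzu.trans (isConj_iff.2 ⟨n⁻¹, by group⟩))
    have hn : u ∈ centralizer ({n * g * n⁻¹} : Set G) := by
      rw [centralizer_of_zpowers_eq e']
      exact mem_centralizer_singleton_iff.2 (mem_centralizer_singleton_iff.1 hlu).symm
    exact mem_centralizer_conj.1 hn
  have h3l : ¬ 3 ∣ Nat.card (centralizer ({l} : Set G)) ∧ ¬ 7 ∣ Nat.card (centralizer ({l} : Set G)) := by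
    have hucl : u ∈ centralizer ({l} : Set G) :=
      mem_centralizer_singleton_iff.2 (mem_centralizer_singleton_iff.1 hlu).symm
    let uK : ↥(centralizer ({l} : Set G)) := ⟨u, hucl⟩
    have huu : uK * uK = 1 := Subtype.ext h'.zz
    have hodd : Odd (orderOf l) := by rw [hlo]; decide
    set π := QuotientGroup.mk' (cyc l)
    have hc2 : Nat.card (centralizer ({π uK} : Set (↥(centralizer ({l} : Set G)) ⧸ cyc l))) = 2 := by
      have := card_centralizer_quot hodd huu
      rw [h'.card_five hlu hlo, hlo] at this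
      exact Nat.eq_of_mul_eq_mul_right (by norm_num : 0 < 5) (this.trans (by norm_num))
    have hord : orderOf (π uK) = 2 := by
      refine orderOf_eq_prime (by rw [pow_two, ← map_mul, huu, map_one]) fun e' => ?_
      rw [QuotientGroup.mk'_apply, QuotientGroup.eq_one_iff, mem_cyc] at e'
      have := orderOf_dvd_natCard (zpowers l) e'
      rw [Nat.card_zpowers, hlo, show orderOf ((uK : G)) = 2 from h'.inv] at this
      norm_num at this
    have hKN : centralizer ({l} : Set G) ≤ N := by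
      intro x hx
      refine mem_normalizer_of_le fun w hw => ?_
      have hwK : w ∈ centralizer ({l} : Set G) := mem_centralizer_singleton_iff.2 (hPc hw hlP)
      have hw5 : Odd (orderOf (π ⟨w, hwK⟩)) := by
        refine Odd.of_dvd_nat (show Odd 25 by decide) ((orderOf_map_dvd π _).trans ?_)
        rw [orderOf_mk, ← hP25]
        exact orderOf_dvd_natCard _ hw
      have key : ∀ w' : ↥(centralizer ({l} : Set G)), (w' : G) ∈ (P : Subgroup G) →
          π (⟨x, hx⟩ * ⟨w, hwK⟩ * ⟨x, hx⟩⁻¹) = π w' → x * w * x⁻¹ ∈ (P : Subgroup G) := by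
        intro w' hw' e'
        have e'' : w'⁻¹ * (⟨x, hx⟩ * ⟨w, hwK⟩ * ⟨x, hx⟩⁻¹) ∈ cyc l := by
          rw [← QuotientGroup.eq_one_iff, ← QuotientGroup.mk'_apply, map_mul, e', map_inv, inv_mul_cancel]
        rw [mem_cyc] at e''
        have := mul_mem hw' (zpowers_le.2 hlP e'')
        simpa using this
      rcases conj_of_centralizer_two hord hc2 hw5 (π ⟨x, hx⟩) with e' | e'
      · exact key ⟨w, hwK⟩ hw (by rw [map_mul, map_mul, map_inv]; exact e')
      · exact key (⟨w, hwK⟩⁻¹) (inv_mem hw) (by rw [map_mul, map_mul, map_inv, map_inv]; exact e')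
    have hdvd : Nat.card (centralizer ({l} : Set G)) ∣ 300 := hN ▸ card_dvd_of_le hKN
    refine ⟨fun h3 => ?_, fun h7 => absurd (h7.trans hdvd) (by norm_num)⟩
    obtain ⟨d', hd'⟩ := exists_prime_orderOf_dvd_card' (G := ↥(centralizer ({l} : Set G))) 3 h3
    rw [← orderOf_coe] at hd'
    have hmod := fixed_mod_three hd' fun x hx => (mem_normalizer_iff.1 (hKN d'.2) x).1 hx
    rw [hP25] at hmod
    have hdvd : Nat.card ((P : Subgroup G) ⊓ centralizer ({(d' : G)} : Set G) : Subgroup G) ∣ 25 :=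
      hP25 ▸ card_dvd_of_le inf_le_left
    obtain ⟨k, hk, e'⟩ := (Nat.dvd_prime_pow Nat.prime_five (m := 2)).1 (show _ ∣ 5 ^ 2 from hdvd)
    interval_cases k
    · have hbot := card_eq_one.1 (e'.trans (pow_zero 5))
      exact (memU.1 hlU).2 (mem_bot.1 (hbot.le ⟨hlP, mem_centralizer_singleton_iff.2
        (mem_centralizer_singleton_iff.1 d'.2).symm⟩))
    · rw [e'] at hmod; norm_num at hmod
    · have hall : (P : Subgroup G) ⊓ centralizer ({(d' : G)} : Set G) = P :=
        eq_of_le_of_card_ge inf_le_left (by rw [hP25, e']; norm_num)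
      have hdP : (d' : G) ∈ centralizer ((P : Subgroup G) : Set G) := mem_centralizer_iff.2 fun x hx =>
        mem_centralizer_singleton_iff.1 (hall.ge hx).2
      rw [hCP] at hdP
      have := orderOf_dvd_natCard (P : Subgroup G) hdP
      rw [hd', hP25] at this
      norm_num at this
  refine ⟨hCP, hP25, hN, l, hlP, hlo, ⟨u, hzu, (mem_centralizer_singleton_iff.1 hlu).symm⟩, h3l.2, h3l.1,
    fun x hx hxo => ?_⟩
  -- the six lines
  have hgU : g ∈ U := memU.2 ⟨hgP, hg1⟩
  have hxU : x ∈ U := memU.2 ⟨hx, fun e' => by rw [e', orderOf_one] at hxo; omega⟩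
  have hdis : ∀ {v w}, zpowers v = zpowers w → (∃ n, zpowers v = zpowers (n * g * n⁻¹)) →
      ¬ ∃ n, zpowers w = zpowers (n * l * n⁻¹) := by
    rintro v w e' ⟨n, hn⟩ ⟨n', hn'⟩
    have := congrArg (Subgroup.map (MulAut.conj n'⁻¹).toMonoidHom) ((hn.symm.trans e').trans hn')
    rw [MonoidHom.map_zpowers, MonoidHom.map_zpowers] at this
    simp only [MulEquiv.coe_toMonoidHom, MulAut.conj_apply] at this
    refine hsep (n'⁻¹ * n) ?_
    convert this using 2 <;> group
  have h3card : ∀ {v}, v ∈ U →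
      ({zpowers v, zpowers (c v), zpowers (c (c v))} : Finset (Subgroup G)).card = 3 := by
    intro v hv
    have n01 := hmove hv
    have n12 := hmove (hcU hv)
    have n20 := hmove (hcU (hcU hv))
    rw [hc3] at n20
    rw [Finset.card_insert_of_notMem, Finset.card_pair n12.symm]
    simp only [Finset.mem_insert, Finset.mem_singleton, not_or]
    exact ⟨n01.symm, n20⟩
  have hof : ∀ {v}, ∀ L ∈ ({zpowers v, zpowers (c v), zpowers (c (c v))} : Finset (Subgroup G)),
      ∃ n, L = zpowers (n * v * n⁻¹) := by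
    intro v L hL
    simp only [Finset.mem_insert, Finset.mem_singleton] at hL
    rcases hL with rfl | rfl | rfl
    · exact ⟨1, by simp⟩
    · exact ⟨d, rfl⟩
    · exact ⟨(d : G) * d, congrArg zpowers (by simp only [c]; group)⟩
  have hdisj : Disjoint ({zpowers g, zpowers (c g), zpowers (c (c g))} : Finset (Subgroup G))
      {zpowers l, zpowers (c l), zpowers (c (c l))} := by
    refine Finset.disjoint_left.2 fun L h1 h2 => ?_
    obtain ⟨n, hn⟩ := hof L h1
    obtain ⟨n', hn'⟩ := hof L h2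
    exact hdis (v := n * g * n⁻¹) (w := n * g * n⁻¹) rfl ⟨n, rfl⟩ ⟨n', hn.symm.trans hn'⟩
  have hsub : ∀ {v}, v ∈ U →
      ({zpowers v, zpowers (c v), zpowers (c (c v))} : Finset (Subgroup G)) ⊆ U.image zpowers := by
    intro v hv L hL
    simp only [Finset.mem_insert, Finset.mem_singleton] at hL
    rcases hL with rfl | rfl | rfl
    exacts [Finset.mem_image_of_mem _ hv, Finset.mem_image_of_mem _ (hcU hv),
      Finset.mem_image_of_mem _ (hcU (hcU hv))]
  have hall := Finset.eq_of_subset_of_card_le (Finset.union_subset (hsub hgU) (hsub hlU))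
    (by rw [Finset.card_union_of_disjoint hdisj, h3card hgU, h3card hlU, hlines])
  have hxm := Finset.mem_image_of_mem zpowers hxU
  rw [← hall, Finset.mem_union] at hxm
  rcases hxm with h1 | h1 <;> obtain ⟨n, hn⟩ := hof _ h1
  all_goals
    have e' := congrArg (Subgroup.map (MulAut.conj n⁻¹).toMonoidHom) hn
    rw [MonoidHom.map_zpowers, MonoidHom.map_zpowers] at e'
    simp only [MulEquiv.coe_toMonoidHom, MulAut.conj_apply] at e'
    refine ⟨n⁻¹, ?_⟩
  · left
    rw [e']
    exact congrArg zpowers (by group)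
  · right
    rw [e']
    exact congrArg zpowers (by group)

/-- The order of the normalizer and the centralizer of every Sylow 5-subgroup. -/
theorem sylow_five (P : Sylow 5 G) :
    centralizer ((P : Subgroup G) : Set G) = P ∧ Nat.card P = 25 ∧
    Nat.card (normalizer ((P : Subgroup G) : Set G)) = 300 := by
  haveI : Fact (Nat.Prime 5) := ⟨Nat.prime_five⟩
  obtain ⟨g, hG⟩ := h.exists_gee
  obtain ⟨R, hR⟩ := (IsPGroup.of_card (p := 5) (n := 1) (G := zpowers g)
    (by rw [Nat.card_zpowers, hG.ord, pow_one])).exists_le_sylow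
  obtain ⟨h1, h2, h3, -⟩ := h.five_main hG (hR (mem_zpowers g))
  obtain ⟨c, hc⟩ := MulAction.exists_smul_eq G R P
  have hP : ∀ w : G, w ∈ (P : Subgroup G) ↔ c⁻¹ * w * c ∈ (R : Subgroup G) := by
    intro w
    rw [← hc, Sylow.coe_subgroup_smul]
    exact ⟨fun ⟨r, hr, e⟩ => by
      rw [← e]
      show c⁻¹ * (c * r * c⁻¹) * c ∈ (R : Subgroup G)
      rw [show c⁻¹ * (c * r * c⁻¹) * c = r by group]
      exact hr, fun hw => ⟨_, hw, by show c * (c⁻¹ * w * c) * c⁻¹ = w; group⟩⟩
  have hcard : Nat.card P = Nat.card R := by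
    rw [← hc, Sylow.coe_subgroup_smul]
    exact Nat.card_congr (equivSMul (MulAut.conj c) (R : Subgroup G)).toEquiv.symm
  refine ⟨?_, hcard.trans h2, ?_⟩
  · ext x
    rw [mem_centralizer_iff, hP, ← h1, mem_centralizer_iff]
    constructor
    · intro hx r hr
      have := hx (c * r * c⁻¹) ((hP _).2 (by rw [show c⁻¹ * (c * r * c⁻¹) * c = r by group]; exact hr))
      calc r * (c⁻¹ * x * c) = c⁻¹ * (c * r * c⁻¹ * x) * c := by group
        _ = c⁻¹ * (x * (c * r * c⁻¹)) * c := by rw [this]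
        _ = _ := by group
    · intro hx w hw
      have := hx _ ((hP w).1 hw)
      calc w * x = c * (c⁻¹ * w * c * (c⁻¹ * x * c)) * c⁻¹ := by group
        _ = c * (c⁻¹ * x * c * (c⁻¹ * w * c)) * c⁻¹ := by rw [this]
        _ = x * w := by group
  · have e1 := (normalizer ((P : Subgroup G) : Set G)).card_mul_index
    have e2 := (normalizer ((R : Subgroup G) : Set G)).card_mul_index
    rw [show (normalizer ((P : Subgroup G) : Set G)).index = Nat.card (Sylow 5 G) from
      P.card_eq_index_normalizer.symm, h.card_eq] at e1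
    rw [show (normalizer ((R : Subgroup G) : Set G)).index = Nat.card (Sylow 5 G) from
      R.card_eq_index_normalizer.symm, h3, h.card_eq] at e2
    exact Nat.eq_of_mul_eq_mul_right (Nat.card_pos : 0 < Nat.card (Sylow 5 G)) (e1.trans e2.symm)

/-- The centralizers of elements of order five. -/
theorem five_cases {x : G} (hx : orderOf x = 5) :
    ¬ 7 ∣ Nat.card (centralizer ({x} : Set G)) ∧
      ∀ d ∈ centralizer ({x} : Set G), orderOf d = 3 → ∃ u, IsConj z u ∧ u * d = d * u := by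
  haveI : Fact (Nat.Prime 5) := ⟨Nat.prime_five⟩
  obtain ⟨g, hG⟩ := h.exists_gee
  obtain ⟨R, hR⟩ := (IsPGroup.of_card (p := 5) (n := 1) (G := zpowers g)
    (by rw [Nat.card_zpowers, hG.ord, pow_one])).exists_le_sylow
  obtain ⟨-, -, -, l, -, -, -, h7, h3, hall⟩ := h.five_main hG (hR (mem_zpowers g))
  obtain ⟨S, hS⟩ := (IsPGroup.of_card (p := 5) (n := 1) (G := zpowers x)
    (by rw [Nat.card_zpowers, hx, pow_one])).exists_le_sylow
  obtain ⟨e, he⟩ := MulAction.exists_smul_eq G S R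
  have hxR : e * x * e⁻¹ ∈ (R : Subgroup G) := by
    rw [← he, Sylow.coe_subgroup_smul]; exact ⟨x, hS (mem_zpowers x), rfl⟩
  obtain ⟨c, hc⟩ := hall _ hxR ((orderOf_injective (MulAut.conj e).toMonoidHom (MulAut.conj e).injective x).trans hx)
  rw [show c * (e * x * e⁻¹) * c⁻¹ = c * e * x * (c * e)⁻¹ by group] at hc
  rcases hc with e' | e'
  · have hC := centralizer_of_zpowers_eq e'
    refine ⟨fun h7' => ?_, fun d hd hdo => ?_⟩
    · rw [← card_centralizer_conj (c * e), hC, hG.card] at h7'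
      norm_num at h7'
    · have hd' : c * e * d * (c * e)⁻¹ ∈ centralizer ({g} : Set G) := by
        rw [← hC, mem_centralizer_conj]; simpa [mul_assoc] using hd
      obtain ⟨u, hu, hud⟩ := hG.three _ hd'
        ((orderOf_injective (MulAut.conj (c * e)).toMonoidHom (MulAut.conj (c * e)).injective d).trans hdo)
      refine ⟨(c * e)⁻¹ * u * (c * e), hu.trans (isConj_iff.2 ⟨(c * e)⁻¹, by group⟩), ?_⟩
      calc (c * e)⁻¹ * u * (c * e) * d = (c * e)⁻¹ * (u * (c * e * d * (c * e)⁻¹)) * (c * e) := by group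
        _ = (c * e)⁻¹ * (c * e * d * (c * e)⁻¹ * u) * (c * e) := by rw [hud]
        _ = _ := by group
  · have hC := centralizer_of_zpowers_eq e'
    refine ⟨fun h7' => ?_, fun d hd hdo => ?_⟩
    · rw [← card_centralizer_conj (c * e), hC] at h7'; exact h7 h7'
    · refine absurd ?_ h3
      rw [← hC, card_centralizer_conj, ← hdo]
      exact orderOf_dvd_natCard _ hd

end Hyp

end CfsgLib.Invol.JTwo
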