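import Cfsg.Agent.Lib.Invol.JTwo.Twist
import Cfsg.Agent.Lib.Invol.OrderTwelve
import Cfsg.Agent.Lib.Coprime.Core

/-!
# The four-group of the second involution and its normalizer
-/

set_option autoImplicit false

namespace CfsgLib.Invol.JTwo

open Subgroup

universe v

variable {G : Type v} [Group G] {z : G} {Q : Subgroup G}

local notation "A" => alternatingGroup (Fin 5)

namespace AltFive

theorem two_invol : ∀ g : A, ∃ a b : {a : A // a * a = 1}, g = a.1 * b.1 := by decide +kernel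

theorem sign_of_cube (s : Equiv.Perm (Fin 5)) (hs : s * s * s = 1) : s ∈ alternatingGroup (Fin 5) := by
  rw [Equiv.Perm.mem_alternatingGroup]
  have h := congrArg Equiv.Perm.sign hs
  rw [map_mul, map_mul, map_one] at h
  rcases Int.units_eq_one_or (Equiv.Perm.sign s) with e | e
  · exact e
  · rw [e] at h; exact absurd h (by decide)

end AltFive

theorem zc_conj (g : G) {u x : G} (hx : x ∈ zc u) : g * x * g⁻¹ ∈ zc (g * u * g⁻¹) := by
  obtain ⟨h1, h2⟩ := mem_zc.1 hx
  refine mem_zc.2 ⟨?_, fun y hy => ?_⟩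
  · calc g * x * g⁻¹ * (g * u * g⁻¹) = g * (x * u) * g⁻¹ := by group
      _ = g * (u * x) * g⁻¹ := by rw [h1]
      _ = _ := by group
  · have hy' := mem_centralizer_singleton_iff.1 (mem_centralizer_conj.1 (mem_centralizer_singleton_iff.2 hy))
    have e := h2 _ hy'
    calc y * (g * x * g⁻¹) = g * (g⁻¹ * y * g * x) * g⁻¹ := by group
      _ = g * (x * (g⁻¹ * y * g)) * g⁻¹ := by rw [e]
      _ = _ := by group

variable [Finite G]

theorem mem_normalizer_of_le {V : Subgroup G} {g : G} (hg : ∀ v ∈ V, g * v * g⁻¹ ∈ V) :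
    g ∈ normalizer (V : Set G) := by
  have e : cj g V = V := eq_of_le_of_card_ge (by rintro _ ⟨v, hv, rfl⟩; exact hg v hv)
    (by rw [cj, card_map_of_injective (MulAut.conj g).injective])
  refine mem_normalizer_iff.2 fun w => ⟨hg w, fun hw => ?_⟩
  rw [← e, mem_cj] at hw
  simpa [mul_assoc] using hw

namespace Split

variable {t a ρ : G} {V B : Subgroup G} (s : Split z t a ρ V B)
include s

theorem center_B {b : G} (hb : b ∈ B) (hc : ∀ c ∈ B, b * c = c * b) : b = 1 := by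
  obtain ⟨e⟩ := s.iso
  have : (⟨b, hb⟩ : B) = 1 := e.injective (by
    rw [map_one]
    refine AltFive.center_trivial _ fun k => ?_
    obtain ⟨c, rfl⟩ := e.surjective k
    rw [← map_mul, ← map_mul]
    exact congrArg e (Subtype.ext (hc c c.2)))
  exact congrArg Subtype.val this

end Split

namespace Pt

variable {t a ρ : G} {V B : Subgroup G} (p : Pt z Q t a) (s : Split z t a ρ V B)
include p s

theorem centralizer_le_normalizer : centralizer ({t} : Set G) ≤ normalizer (V : Set G) :=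
  fun x hx => mem_normalizer_of_le fun v hv => by rw [s.central hv hx, mul_inv_cancel_right]; exact hv

theorem conj_centralizer {n : G} (hn : n ∈ normalizer (V : Set G)) :
    centralizer ({n * t * n⁻¹} : Set G) = centralizer ({t} : Set G) :=
  p.centralizer_eq s ((mem_normalizer_iff.1 hn t).1 s.memV) fun e => p.out.ne_one (conj_eq_one_iff.1 e)

theorem conj_B {n : G} (hn : n ∈ normalizer (V : Set G)) {b : G} (hb : b ∈ B) : n * b * n⁻¹ ∈ B := by
  obtain ⟨e⟩ := s.iso
  obtain ⟨⟨a', ha'⟩, ⟨b', hb'⟩, hab⟩ := AltFive.two_invol (e ⟨b, hb⟩)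
  have key : ∀ x : A, x * x = 1 → n * ((e.symm x : B) : G) * n⁻¹ ∈ B := by
    intro x hx
    by_cases hx1 : x = 1
    · simp [hx1]
    have hc : ((e.symm x : B) : G) * (e.symm x : B) = 1 := by
      rw [← coe_mul, ← map_mul, hx, map_one, coe_one]
    have hc1 : ((e.symm x : B) : G) ≠ 1 := fun h => hx1 (e.symm.injective (by
      rw [map_one]; exact Subtype.ext h))
    obtain ⟨hz, hzt⟩ := (s.zB _).2 ⟨(e.symm x).2, hc, hc1⟩
    refine ((s.zB _).1 ⟨hz.trans (isConj_iff.2 ⟨n, rfl⟩), mem_centralizer_singleton_iff.1 ?_⟩).1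
    rw [← p.conj_centralizer s hn, mem_centralizer_conj]
    simpa [mul_assoc] using mem_centralizer_singleton_iff.2 hzt
  have hb2 : b = ((e.symm a' : B) : G) * (e.symm b' : B) := by
    rw [← coe_mul, ← map_mul, ← hab, e.symm_apply_apply]
  rw [hb2, show n * (((e.symm a' : B) : G) * (e.symm b' : B)) * n⁻¹ =
    n * ((e.symm a' : B) : G) * n⁻¹ * (n * ((e.symm b' : B) : G) * n⁻¹) by group]
  exact mul_mem (key a' ha') (key b' hb')

theorem card_of_moving {D : Subgroup G} (hD : D ≤ normalizer (V : Set G)) {σ : G} (hσD : σ ∈ D)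
    (hσ3 : σ * σ * σ = 1) (hσt : σ * t * σ⁻¹ ≠ t) :
    Nat.card D = 3 * Nat.card (D ⊓ centralizer ({t} : Set G) : Subgroup G) := by
  classical
  rw [← card_orbit_mul D t]
  congr 1
  have h1 : Nat.card {y : G // ∃ c ∈ D, c * t * c⁻¹ = y} ≤ 3 := by
    have hle : Nat.card {y : G // ∃ c ∈ D, c * t * c⁻¹ = y} + 1 ≤ Nat.card V := by
      let f : Option {y : G // ∃ c ∈ D, c * t * c⁻¹ = y} → V := fun o => o.elim 1 fun y => ⟨y.1, by
        obtain ⟨c, hc, e⟩ := y.2
        exact e ▸ (mem_normalizer_iff.1 (hD hc) t).1 s.memV⟩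
      have hf : Function.Injective f := by
        have hne : ∀ y : {y : G // ∃ c ∈ D, c * t * c⁻¹ = y}, y.1 ≠ 1 := fun y e => by
          obtain ⟨c, -, e'⟩ := y.2
          exact p.out.ne_one (conj_eq_one_iff.1 (e'.trans e))
        rintro (_ | x) (_ | y) e
        · rfl
        · exact absurd (congrArg Subtype.val e).symm (hne y)
        · exact absurd (congrArg Subtype.val e) (hne x)
        · exact congrArg some (Subtype.ext (Subtype.mk.inj e))
      have := Nat.card_le_card_of_injective f hf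
      rwa [Finite.card_option] at this
    rw [s.cardV] at hle
    omega
  let f : Fin 3 → {y : G // ∃ c ∈ D, c * t * c⁻¹ = y} := fun j => ⟨σ ^ (j : ℕ) * t * (σ ^ (j : ℕ))⁻¹,
    _, pow_mem hσD _, rfl⟩
  have hσ2 : σ * σ * t * (σ * σ)⁻¹ ≠ t := fun e => hσt (by
    calc σ * t * σ⁻¹ = σ * (σ * σ * t * (σ * σ)⁻¹) * σ⁻¹ := by rw [e]
      _ = σ * σ * σ * t * (σ * σ * σ)⁻¹ := by group
      _ = t := by rw [hσ3]; group)
  have hf : Function.Injective f := by
    intro i j e
    have e' : σ ^ (i : ℕ) * t * (σ ^ (i : ℕ))⁻¹ = σ ^ (j : ℕ) * t * (σ ^ (j : ℕ))⁻¹ := congrArg Subtype.val e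
    have c1 : ∀ {u v : G}, σ * u * σ⁻¹ = σ * v * σ⁻¹ → u = v := fun e => mul_left_cancel (mul_right_cancel e)
    fin_cases i <;> fin_cases j <;> simp only [pow_zero, pow_one, pow_two, one_mul, inv_one, mul_one] at e' <;>
      first
      | rfl
      | exact absurd e'.symm hσt
      | exact absurd e' hσt
      | exact absurd e'.symm hσ2
      | exact absurd e' hσ2
      | exact absurd (c1 (e'.trans (by group))) hσt.symm
      | exact absurd (c1 (e'.symm.trans (by group))) hσt.symm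
  have h2 := Nat.card_le_card_of_injective f hf
  rw [Nat.card_fin] at h2
  omega

theorem exists_sigma : ∃ σ : G, orderOf σ = 3 ∧ (∀ b ∈ B, σ * b = b * σ) ∧
    (∀ v ∈ V, σ * v * σ⁻¹ ∈ V) ∧ σ * t * σ⁻¹ ≠ t ∧
    Nat.card (normalizer (V : Set G) ⊓ centralizer (B : Set G) : Subgroup G) = 12 ∧
    normalizer (V : Set G) ⊓ centralizer (B : Set G) ⊓ centralizer ({t} : Set G) = V := by
  obtain ⟨σ, hσ, hσt, hσC⟩ := p.hyp.exists_twist p.out
  have hσ3 : σ * σ * σ = 1 := by rw [← pow_orderOf_eq_one σ, hσ, pow_succ, pow_two]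
  have hσV : ∀ v ∈ V, σ * v * σ⁻¹ ∈ V := by
    intro v hv
    rw [← s.zc_eq] at hv ⊢
    rw [← zc_congr hσC]
    exact zc_conj σ hv
  have hσN : σ ∈ normalizer (V : Set G) := mem_normalizer_of_le hσV
  obtain ⟨eB⟩ := s.iso
  let α : MulAut B :=
    { toFun := fun x => ⟨σ * x * σ⁻¹, p.conj_B s hσN x.2⟩
      invFun := fun x => ⟨σ⁻¹ * x * σ, by simpa using p.conj_B s (inv_mem hσN) x.2⟩
      left_inv := fun x => Subtype.ext (by simp [mul_assoc])
      right_inv := fun x => Subtype.ext (by simp [mul_assoc])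
      map_mul' := fun x y => Subtype.ext (by simp [mul_assoc]) }
  have hbij := CfsgLib.Perm.Groups.AltAut.conjNormal_bijective (Ω := Fin 5)
    (by rw [Fintype.card_fin]; norm_num) (by rw [Fintype.card_fin]; norm_num)
  obtain ⟨π, hπ⟩ := hbij.2 ((MulAut.congr eB) α)
  have hα3 : α * α * α = 1 := MulEquiv.ext fun x => Subtype.ext (by
    show σ * (σ * (σ * (x : G) * σ⁻¹) * σ⁻¹) * σ⁻¹ = x
    calc σ * (σ * (σ * (x : G) * σ⁻¹) * σ⁻¹) * σ⁻¹ = σ * σ * σ * x * (σ * σ * σ)⁻¹ := by group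
      _ = x := by rw [hσ3]; group)
  have hπ3 : π * π * π = 1 := hbij.1 (by rw [map_mul, map_mul, hπ, ← map_mul, ← map_mul, hα3, map_one, map_one])
  obtain ⟨k, hk⟩ := eB.surjective ⟨π, AltFive.sign_of_cube π hπ3⟩
  have hkey : ∀ b : B, σ * (b : G) * σ⁻¹ = (k : G) * b * (k : G)⁻¹ := by
    intro b
    have e : α b = k * b * k⁻¹ := eB.injective (by
      have e1 := congrArg (fun φ : MulAut A => φ (eB b)) hπ
      rw [map_mul, map_mul, map_inv, hk]
      refine Subtype.ext ?_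
      simp only [MulAut.congr, MulEquiv.coe_mk, Equiv.coe_fn_mk, MulEquiv.trans_apply,
        MulEquiv.symm_apply_apply] at e1
      rw [← e1]
      exact MulAut.conjNormal_apply _ _)
    exact congrArg Subtype.val e
  set D : Subgroup G := normalizer (V : Set G) ⊓ centralizer (B : Set G) with hDdef
  have hkC : (k : G) ∈ centralizer ({t} : Set G) := s.leB k.2
  have hσ'D : (k : G)⁻¹ * σ ∈ D := by
    refine mem_inf.2 ⟨mul_mem (inv_mem (p.centralizer_le_normalizer s hkC)) hσN,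
      mem_centralizer_iff.2 fun b hb => ?_⟩
    have e := hkey ⟨b, hb⟩
    calc b * ((k : G)⁻¹ * σ) = (k : G)⁻¹ * ((k : G) * b * (k : G)⁻¹) * σ := by group
      _ = (k : G)⁻¹ * (σ * b * σ⁻¹) * σ := by rw [← e]
      _ = (k : G)⁻¹ * σ * b := by group
  have hVD : V ≤ D := le_inf le_normalizer fun v hv =>
    mem_centralizer_iff.2 fun b hb => (s.comm v hv b hb).symm
  have hinf : D ⊓ centralizer ({t} : Set G) = V := by
    refine le_antisymm ?_ (le_inf hVD s.leV)
    rintro x ⟨⟨-, hxB⟩, hxt⟩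
    obtain ⟨v, hv, b, hb, rfl⟩ := s.fac x hxt
    rw [s.center_B hb fun c hc => ?_, mul_one]
    · exact hv
    have e : c * (v * b) = v * b * c := mem_centralizer_iff.1 hxB c hc
    refine mul_left_cancel (a := v) ?_
    calc v * (b * c) = c * (v * b) := by rw [e, mul_assoc]
      _ = v * (c * b) := by rw [← mul_assoc, ← s.comm v hv c hc, mul_assoc]
  have hσ'3 : (k : G)⁻¹ * σ * ((k : G)⁻¹ * σ) * ((k : G)⁻¹ * σ) ∈ centralizer ({t} : Set G) := by
    have h3 : σ * (k : G)⁻¹ * σ⁻¹ ∈ centralizer ({t} : Set G) :=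
      s.leB (p.conj_B s hσN (inv_mem k.2))
    have h4 : σ * (σ * (k : G)⁻¹ * σ⁻¹) * σ⁻¹ ∈ centralizer ({t} : Set G) :=
      s.leB (p.conj_B s hσN (p.conj_B s hσN (inv_mem k.2)))
    rw [show (k : G)⁻¹ * σ * ((k : G)⁻¹ * σ) * ((k : G)⁻¹ * σ) =
      (k : G)⁻¹ * (σ * (k : G)⁻¹ * σ⁻¹) * (σ * (σ * (k : G)⁻¹ * σ⁻¹) * σ⁻¹) * (σ * σ * σ) by group,
      hσ3, mul_one]
    exact mul_mem (mul_mem (inv_mem hkC) h3) h4
  have hσ't : (k : G)⁻¹ * σ * t * ((k : G)⁻¹ * σ)⁻¹ ≠ t := by
    have e : (k : G)⁻¹ * σ * t * ((k : G)⁻¹ * σ)⁻¹ = σ * t * σ⁻¹ := by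
      rw [show (k : G)⁻¹ * σ * t * ((k : G)⁻¹ * σ)⁻¹ = (k : G)⁻¹ * (σ * t * σ⁻¹) * k by group, mul_assoc,
        ← s.central (hσV t s.memV) hkC, ← mul_assoc, inv_mul_cancel, one_mul]
    rwa [e]
  have hDN : D ≤ normalizer (V : Set G) := inf_le_left
  haveI : Fact (Nat.Prime 3) := ⟨Nat.prime_three⟩
  -- pass to an element of order three
  obtain ⟨d, hd⟩ : ∃ d : D, orderOf d = 3 := by
    refine exists_prime_orderOf_dvd_card' 3 ?_
    by_contra h3
    have hd1 : orderOf ((k : G)⁻¹ * σ) ∣ Nat.card D := orderOf_dvd_natCard D hσ'D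
    have h3' : (((k : G)⁻¹ * σ) ^ 3) ∈ V := by
      rw [← hinf, pow_succ, pow_two]
      exact ⟨mul_mem (mul_mem hσ'D hσ'D) hσ'D, hσ'3⟩
    have h6 : orderOf ((k : G)⁻¹ * σ) ∣ 6 := orderOf_dvd_of_pow_eq_one (by
      rw [show 6 = 3 * 2 from rfl, pow_mul]; exact s.sq _ h3')
    have h2 : orderOf ((k : G)⁻¹ * σ) ∣ 2 := by
      refine (Nat.Coprime.dvd_of_dvd_mul_left ?_ (show orderOf ((k : G)⁻¹ * σ) ∣ 3 * 2 from h6))
      exact ((Nat.Prime.coprime_iff_not_dvd Nat.prime_three).2 fun e => h3 (e.trans hd1)).symm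
    have hsq : ((k : G)⁻¹ * σ) ^ 2 = 1 := orderOf_dvd_iff_pow_eq_one.1 h2
    refine hσ't ?_
    have hmem : ((k : G)⁻¹ * σ) ∈ centralizer ({t} : Set G) := by
      have := (hinf.ge h3').2
      rwa [pow_succ, hsq, one_mul] at this
    rw [mem_centralizer_singleton_iff.1 hmem, mul_inv_cancel_right]
  rw [← orderOf_coe] at hd
  have hdt : (d : G) * t * (d : G)⁻¹ ≠ t := by
    intro e
    have hdV : (d : G) ∈ V := hinf.le ⟨d.2, mem_centralizer_singleton_iff.2 (mul_inv_eq_iff_eq_mul.1 e)⟩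
    have := orderOf_dvd_natCard V hdV
    rw [hd, s.cardV] at this
    norm_num at this
  refine ⟨d, hd, fun b hb => (mem_centralizer_iff.1 d.2.2 b hb).symm,
    fun v hv => (mem_normalizer_iff.1 d.2.1 v).1 hv, hdt, ?_, hinf⟩
  rw [p.card_of_moving s hDN d.2 (by rw [← pow_orderOf_eq_one (d : G), hd, pow_succ, pow_two]) hdt, hinf,
    s.cardV]

theorem card_normalizer : Nat.card (normalizer (V : Set G)) = 720 := by
  obtain ⟨σ, hσ, -, hσV, hσt, -, -⟩ := p.exists_sigma s
  rw [p.card_of_moving s le_rfl (mem_normalizer_of_le hσV)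
    (by rw [← pow_orderOf_eq_one σ, hσ, pow_succ, pow_two]) hσt,
    inf_eq_right.2 (p.centralizer_le_normalizer s), p.card_centralizer]

theorem centralizer_iso : Nonempty (↥(centralizer ({t} : Set G)) ≃*
    (Multiplicative (ZMod 2) × Multiplicative (ZMod 2)) × A) := by
  classical
  obtain ⟨eB⟩ := s.iso
  have hcomm : ∀ (v : V) (b : B), Commute ((v : G)) b := fun v b => s.comm v v.2 b b.2
  let φ : ↥V × ↥B →* ↥(centralizer ({t} : Set G)) :=
    MonoidHom.mk' (fun q => ⟨q.1.1 * q.2.1, mul_mem (s.leV q.1.2) (s.leB q.2.2)⟩) fun q r => Subtype.ext (by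
      show (q.1.1 * r.1.1) * (q.2.1 * r.2.1) = q.1.1 * q.2.1 * (r.1.1 * r.2.1)
      calc (q.1.1 * r.1.1) * (q.2.1 * r.2.1) = q.1.1 * (r.1.1 * q.2.1) * r.2.1 := by group
        _ = q.1.1 * (q.2.1 * r.1.1) * r.2.1 := by rw [(hcomm r.1 q.2).eq]
        _ = _ := by group)
  have hφ : Function.Bijective φ := by
    refine (Nat.bijective_iff_injective_and_card φ).2 ⟨?_, ?_⟩
    · rw [← MonoidHom.ker_eq_bot_iff, eq_bot_iff]
      rintro ⟨v, b⟩ e
      have e' : (v : G) * b = 1 := congrArg Subtype.val e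
      have hv : (v : G) = 1 := mem_bot.1 (s.inf.le ⟨v.2, by
        rw [eq_inv_of_mul_eq_one_left e']; exact B.inv_mem b.2⟩)
      rw [hv, one_mul] at e'
      exact Prod.ext (Subtype.ext hv) (Subtype.ext e')
    · rw [Nat.card_prod, s.cardV, p.card_centralizer, Nat.card_congr eB.toEquiv, AltFive.card_A]
  haveI hV : IsKleinFour ↥V := ⟨s.cardV, by
    have h1 : Monoid.exponent ↥V ∣ 2 :=
      Monoid.exponent_dvd_of_forall_pow_eq_one fun v => Subtype.ext (s.sq v v.2)
    rcases (Nat.dvd_prime Nat.prime_two).1 h1 with e | e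
    · haveI := Monoid.exp_eq_one_iff.1 e
      exact absurd (Nat.card_of_subsingleton (1 : V)) (by rw [s.cardV]; norm_num)
    · exact e⟩
  haveI : IsKleinFour (Multiplicative (ZMod 2) × Multiplicative (ZMod 2)) := ⟨by simp [Nat.card_prod], by
    rw [Monoid.exponent_prod]; simp [IsAddKleinFour]⟩
  obtain ⟨eV⟩ := IsKleinFour.nonempty_mulEquiv (G₁ := ↥V) (G₂ := Multiplicative (ZMod 2) × Multiplicative (ZMod 2))
  exact ⟨(MulEquiv.ofBijective φ hφ).symm.trans (eV.prodCongr eB)⟩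

theorem normalizer_iso : Nonempty (↥(normalizer (V : Set G)) ≃* alternatingGroup (Fin 4) × A) := by
  classical
  obtain ⟨eB⟩ := s.iso
  obtain ⟨σ, hσ, hσB, hσV, hσt, h12, hinf⟩ := p.exists_sigma s
  set D : Subgroup G := normalizer (V : Set G) ⊓ centralizer (B : Set G) with hDdef
  have hBN : B ≤ normalizer (V : Set G) := s.leB.trans (p.centralizer_le_normalizer s)
  let φ : ↥D × ↥B →* ↥(normalizer (V : Set G)) :=
    MonoidHom.mk' (fun q => ⟨q.1.1 * q.2.1, mul_mem q.1.2.1 (hBN q.2.2)⟩) fun q r => Subtype.ext (by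
      show (q.1.1 * r.1.1) * (q.2.1 * r.2.1) = q.1.1 * q.2.1 * (r.1.1 * r.2.1)
      calc (q.1.1 * r.1.1) * (q.2.1 * r.2.1) = q.1.1 * (r.1.1 * q.2.1) * r.2.1 := by group
        _ = q.1.1 * (q.2.1 * r.1.1) * r.2.1 := by rw [mem_centralizer_iff.1 r.1.2.2 _ q.2.2]
        _ = _ := by group)
  have hφ : Function.Bijective φ := by
    refine (Nat.bijective_iff_injective_and_card φ).2 ⟨?_, ?_⟩
    · rw [← MonoidHom.ker_eq_bot_iff, eq_bot_iff]
      rintro ⟨d, b⟩ e
      have e' : (d : G) * b = 1 := congrArg Subtype.val e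
      have hb : (b : G) = 1 := s.center_B b.2 fun c hc => by
        rw [eq_inv_of_mul_eq_one_right e']
        exact (show Commute c (d : G) from mem_centralizer_iff.1 d.2.2 c hc).inv_right.symm.eq
      rw [hb, mul_one] at e'
      exact Prod.ext (Subtype.ext e') (Subtype.ext hb)
    · rw [Nat.card_prod, h12, p.card_normalizer s, Nat.card_congr eB.toEquiv, AltFive.card_A]
  obtain ⟨eD⟩ := CfsgLib.Invol.mulEquiv_alternating_four h12 fun w hw hwc => by
    have hσD : σ ∈ D := mem_inf.2 ⟨mem_normalizer_of_le hσV,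
      mem_centralizer_iff.2 fun b hb => (hσB b hb).symm⟩
    have hw2 : (w : G) * w = 1 := by
      rw [← coe_mul, ← pow_two, ← hw, pow_orderOf_eq_one, coe_one]
    have hw1 : (w : G) ≠ 1 := fun e => by
      rw [show w = 1 from Subtype.ext e, orderOf_one] at hw
      norm_num at hw
    have hcw : (w : G) * σ = σ * w := congrArg Subtype.val (mem_center_iff.1 hwc ⟨σ, hσD⟩).symm
    by_cases hwt : (w : G) ∈ centralizer ({t} : Set G)
    · have hwV : (w : G) ∈ V := hinf.le ⟨w.2, hwt⟩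
      refine hσt ?_
      have hσC : σ ∈ centralizer ({(w : G)} : Set G) := mem_centralizer_singleton_iff.2 hcw.symm
      rw [p.centralizer_eq s hwV hw1] at hσC
      rw [mem_centralizer_singleton_iff.1 hσC, mul_inv_cancel_right]
    · have hcV : ∀ v ∈ V, (w : G) * v = v * w := fun v hv => by
        have hvD : v ∈ D := (hinf.ge hv).1
        exact congrArg Subtype.val (mem_center_iff.1 hwc ⟨v, hvD⟩).symm
      exact hwt (mem_centralizer_singleton_iff.2 (hcV t s.memV))
  exact ⟨(MulEquiv.ofBijective φ hφ).symm.trans (eD.prodCongr eB)⟩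

theorem pCore_eq : (Cfsg.pCore 2 ↥(centralizer ({t} : Set G))).map
    (centralizer ({t} : Set G)).subtype = V := by
  set H := centralizer ({t} : Set G)
  haveI : (V.subgroupOf H).Normal := ⟨fun v hv x => by
    rw [mem_subgroupOf] at hv ⊢
    show (x : G) * v * (x : G)⁻¹ ∈ V
    rw [s.central hv x.2, mul_inv_cancel_right]
    exact hv⟩
  have hVp : IsPGroup 2 (V.subgroupOf H) := fun x => ⟨1, Subtype.ext (Subtype.ext (by
    simpa using s.sq _ (mem_subgroupOf.1 x.2)))⟩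
  refine le_antisymm ?_ fun v hv => ⟨⟨v, s.leV hv⟩, CfsgLib.Coprime.le_pCore hVp (mem_subgroupOf.2 hv), rfl⟩
  rintro _ ⟨x, hx, rfl⟩
  show (x : G) ∈ V
  obtain ⟨v, hv, b, hb, e⟩ := s.fac x x.2
  set M : Subgroup B := (Cfsg.pCore 2 ↥H).comap (inclusion s.leB) with hM
  haveI : (Cfsg.pCore 2 ↥H).Normal := Cfsg.pCore_normal 2 _
  haveI : M.Normal := inferInstance
  have hMp : IsPGroup 2 M := (CfsgLib.Coprime.pCore_isPGroup (G := ↥H) 2).comap_of_injective _
    (inclusion_injective s.leB)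
  have hbM : (⟨b, hb⟩ : B) ∈ M := by
    have e' : inclusion s.leB ⟨b, hb⟩ = (⟨v, s.leV hv⟩ : H)⁻¹ * x :=
      Subtype.ext (eq_inv_mul_iff_mul_eq.2 e.symm)
    show inclusion s.leB ⟨b, hb⟩ ∈ Cfsg.pCore 2 ↥H
    rw [e']
    exact mul_mem (inv_mem (CfsgLib.Coprime.le_pCore hVp (mem_subgroupOf.2 hv))) hx
  obtain ⟨eB⟩ := s.iso
  haveI : IsSimpleGroup A := alternatingGroup.isSimpleGroup_five
  haveI : (M.map eB.toMonoidHom).Normal := Normal.map inferInstance _ eB.surjective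
  rcases IsSimpleGroup.eq_bot_or_eq_top_of_normal (M.map eB.toMonoidHom) inferInstance with hb' | hb'
  · have hb1 := hb'.le (mem_map_of_mem eB.toMonoidHom hbM)
    rw [mem_bot, MulEquiv.coe_toMonoidHom, map_eq_one_iff _ eB.injective] at hb1
    rw [e, show b = 1 from congrArg Subtype.val hb1, mul_one]
    exact hv
  · exfalso
    obtain ⟨n, hn⟩ := IsPGroup.iff_card.1 (hMp.map eB.toMonoidHom)
    rw [hb', card_top, AltFive.card_A] at hn
    rcases n with _ | _ | _ | _ | _ | _ | n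
    all_goals omega

end Pt

end CfsgLib.Invol.JTwo
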