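import Cfsg.Agent.Lib.Invol.JTwo.SecondBase
import Cfsg.Agent.Lib.Fusion.Transfer
import Cfsg.Agent.Lib.Fusion.Residual
import Cfsg.Agent.Lib.Perm.Groups.AltAut

/-!
# The centralizer of the second class of involutions and the order
-/

set_option autoImplicit false

namespace CfsgLib.Invol.JTwo

open Subgroup
open scoped commutatorElement

universe v

variable {G : Type v} [Group G] [Finite G] {z : G} {Q : Subgroup G}

local notation "A" => alternatingGroup (Fin 5)

namespace AltFive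

set_option synthInstance.maxSize 2048 in
set_option synthInstance.maxHeartbeats 200000 in
open Equiv in
theorem perm_eq_one (s : Perm (Fin 5)) (g k : A) (hg : g * g = 1) (hg1 : g ≠ 1) (hk : k * k * k = 1)
    (hk1 : k ≠ 1) (hne : k * g ≠ g * k) (hfour : g * (k * g * k⁻¹) = k * g * k⁻¹ * g)
    (h1 : s * (g : Perm (Fin 5)) = (g : Perm (Fin 5)) * s) (h2 : s * (k : Perm (Fin 5)) = (k : Perm (Fin 5)) * s) :
    s = 1 := by
  have key : ∀ g : {g : A // g * g = 1 ∧ g ≠ 1}, ∀ k : {k : A // k * k * k = 1 ∧ k ≠ 1},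
      k.1 * g.1 ≠ g.1 * k.1 → g.1 * (k.1 * g.1 * k.1⁻¹) = k.1 * g.1 * k.1⁻¹ * g.1 →
      ∀ s : Perm (Fin 5), s * (g.1 : Perm (Fin 5)) = (g.1 : Perm (Fin 5)) * s →
        s * (k.1 : Perm (Fin 5)) = (k.1 : Perm (Fin 5)) * s → s = 1 := by
    decide +kernel
  exact key ⟨g, hg, hg1⟩ ⟨k, hk, hk1⟩ hne hfour s h1 h2

end AltFive

/-- The decomposition of the centralizer of the second involution. -/
structure Split (z : G) (t a ρ : G) (V B : Subgroup G) : Prop where
  leV : V ≤ centralizer ({t} : Set G)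
  leB : B ≤ centralizer ({t} : Set G)
  comm : ∀ v ∈ V, ∀ b ∈ B, v * b = b * v
  inf : V ⊓ B = ⊥
  fac : ∀ x ∈ centralizer ({t} : Set G), ∃ v ∈ V, ∃ b ∈ B, x = v * b
  sq : ∀ v ∈ V, v ^ 2 = 1
  memV : t ∈ V
  cardV : Nat.card V = 4
  iso : Nonempty (B ≃* A)
  zB : ∀ x : G, IsConj z x ∧ x * t = t * x ↔ x ∈ B ∧ x * x = 1 ∧ x ≠ 1
  tB : ∀ x ∈ centralizer ({t} : Set G), orderOf x = 2 → x ∉ B → IsConj x t
  triple : z ∈ B ∧ a ∈ B
  rho : ρ ∈ B ∧ orderOf ρ = 3 ∧ ρ * z * ρ⁻¹ ≠ z
  leW : V ≤ sixteen z t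

namespace Pt

variable {t a : G} (p : Pt z Q t a)
include p

theorem conj_triple_of_normalizes {n : G} (hnW : ∀ w ∈ sixteen z t, n * w * n⁻¹ ∈ sixteen z t)
    {u : G} (hu : u = z ∨ u = a ∨ u = a * z) :
    n * u * n⁻¹ = z ∨ n * u * n⁻¹ = a ∨ n * u * n⁻¹ = a * z :=
  p.z_type_iff.1 ⟨hnW u (p.triple_mem_sixteen hu), (p.conj_triple hu).trans (isConj_iff.2 ⟨n, rfl⟩)⟩

/-- An element normalizing the sixteen without centralizing them moves every member of the triple. -/
theorem moves {n : G} (hn : n ∈ centralizer ({t} : Set G)) (hn' : n ∉ sixteen z t) {u : G}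
    (hu : u = z ∨ u = a ∨ u = a * z) : n * u * n⁻¹ ≠ u := fun e => hn' <| by
  rw [← p.centralizer_triple hu]
  exact ⟨hn, mem_centralizer_singleton_iff.2 (mul_inv_eq_iff_eq_mul.1 e)⟩

theorem comm_mem {n : G} (hn : n ∈ centralizer ({t} : Set G))
    (hnW : ∀ w ∈ sixteen z t, n * w * n⁻¹ ∈ sixteen z t)
    (hn3 : n ^ 3 ∈ sixteen z t) {w : G} (hw : w ∈ sixteen z t) :
    n * w * n⁻¹ * w⁻¹ ∈ Q ⊓ centralizer ({t} : Set G) := by
  classical
  set W := sixteen z t with hW
  set E : Subgroup G := Q ⊓ centralizer ({t} : Set G) with hE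
  have hEW : ∀ e ∈ E, e ∈ W := fun e he => ⟨p.hyp.le he.1, he.2⟩
  have hEinv : ∀ e ∈ E, n * e * n⁻¹ ∈ E := by
    intro e he
    rcases (p.fours e).1 ⟨he.1, mem_centralizer_singleton_iff.1 he.2⟩ with rfl | hu
    · rw [mul_one, mul_inv_cancel]; exact one_mem _
    · obtain ⟨h1, -, -, h4⟩ := p.four_cases' (p.conj_triple_of_normalizes hnW hu)
      exact ⟨h1, mem_centralizer_singleton_iff.2 h4⟩
  let f : G → G := fun x => n * x * n⁻¹
  have hfmul : ∀ x y, f (x * y) = f x * f y := fun x y => by simp only [f]; group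
  have hft : f t = t := by simp only [f]; rw [mem_centralizer_singleton_iff.1 hn, mul_inv_cancel_right]
  have hWc : ∀ {x y}, x ∈ W → y ∈ W → x * y = y * x := fun hx hy => p.comm _ hx _ hy
  have hf3 : ∀ x ∈ W, f (f (f x)) = x := fun x hx => by
    simp only [f]
    calc n * (n * (n * x * n⁻¹) * n⁻¹) * n⁻¹ = n ^ 3 * x * (n ^ 3)⁻¹ := by rw [pow_three]; group
      _ = x := by rw [hWc hn3 hx, mul_inv_cancel_right]
  have hfW : ∀ x ∈ W, f x ∈ W := fun x hx => hnW x hx
  have hcong : ∀ x y, x * y⁻¹ ∈ E → f x * (f y)⁻¹ ∈ E := fun x y he => by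
    have := hEinv _ he
    convert this using 1
    simp only [f]; group
  have htW : t ∈ W := p.t_mem_sixteen
  show f w * w⁻¹ ∈ E
  by_cases hw0 : w ∈ E
  · exact mul_mem (hEinv w hw0) (inv_mem hw0)
  by_cases hwt : w * t⁻¹ ∈ E
  · have h1 := hcong w t hwt
    rw [hft] at h1
    have h2 := mul_mem h1 (inv_mem hwt)
    rw [show f w * t⁻¹ * (w * t⁻¹)⁻¹ = f w * w⁻¹ by group] at h2
    exact h2
  by_contra hne
  -- then the image lies in the coset of `w * t`
  obtain ⟨F⟩ := p.hyp.exists_frame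
  obtain ⟨i, hi, -⟩ := AltFive.invol_fixed _ (p.hyp.pi_invol F p.out).1 (p.hyp.pi_invol F p.out).2
  obtain ⟨hg, hg1⟩ := p.hyp.pi_invol F p.out
  have hπ : ∀ {x : G} (hx : x ∈ W), F.π ⟨x, hx.1⟩ * F.π ⟨x, hx.1⟩ = 1 ∧
      AltFive.act (F.π ⟨x, hx.1⟩) i = i := fun {x} hx => by
    obtain ⟨hc, h2, hp⟩ := (p.hyp.mem_big F).1 (p.hyp.outer_le_big F p.out hi hx)
    exact ⟨h2, p.hyp.act_of_commute F hp⟩
  have hEπ : ∀ {x y : G} (hx : x ∈ W) (hy : y ∈ W), F.π ⟨x, hx.1⟩ = F.π ⟨y, hy.1⟩ → x * y⁻¹ ∈ E := by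
    intro x y hx hy e
    refine mem_inf.2 ⟨(F.ker ((⟨x, hx.1⟩ : ↥(centralizer ({z} : Set G))) * (⟨y, hy.1⟩ : ↥(centralizer ({z} : Set G)))⁻¹)).1
      (by rw [map_mul, map_inv, e, mul_inv_cancel]), (W.mul_mem hx (W.inv_mem hy)).2⟩
  have hwπ1 : F.π ⟨w, hw.1⟩ ≠ 1 := fun e => hw0 ⟨(F.ker _).1 e, hw.2⟩
  have hwπg : F.π ⟨w, hw.1⟩ ≠ F.π ⟨t, htW.1⟩ := fun e => hwt (hEπ hw htW e)
  have hwtW : w * t ∈ W := mul_mem hw htW
  have hall : ∀ x ∈ W, x ∈ E ∨ x * t⁻¹ ∈ E ∨ x * w⁻¹ ∈ E ∨ x * (w * t)⁻¹ ∈ E := fun x hx => by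
    rcases AltFive.four_cases (F.π ⟨t, htW.1⟩) (F.π ⟨w, hw.1⟩) (F.π ⟨x, hx.1⟩) hg (hπ hw).1 (hπ hx).1 i hi
      (hπ hw).2 (hπ hx).2 hg1 hwπ1 hwπg with e | e | e | e
    · exact Or.inl ⟨(F.ker _).1 e, hx.2⟩
    · exact Or.inr (Or.inl (hEπ hx htW e))
    · exact Or.inr (Or.inr (Or.inl (hEπ hx hw e)))
    · exact Or.inr (Or.inr (Or.inr (hEπ hx hwtW (e.trans (map_mul F.π ⟨w, hw.1⟩ ⟨t, htW.1⟩).symm))))
  have hf2 : ∀ {x y : G}, x ∈ W → f (f x) * (f (f y))⁻¹ ∈ E → y ∈ W → x * y⁻¹ ∈ E := by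
    intro x y hx he hy
    have := hcong _ _ he
    rwa [hf3 x hx, hf3 y hy] at this
  rcases hall (f w) (hfW w hw) with e | e | e | e
  · have h1 := hEinv _ (hEinv _ e)
    change f (f (f w)) ∈ E at h1
    rw [hf3 w hw] at h1
    exact hw0 h1
  · have h1 := hcong _ _ (hcong _ _ e)
    rw [hft, hft, hf3 w hw] at h1
    exact hwt h1
  · exact hne e
  · have h1 := hcong _ _ e
    rw [hfmul w t, hft] at h1
    have h2 := hcong _ _ h1
    rw [hfmul (f w) t, hft, hf3 w hw] at h2
    -- `w ≡ f (f w) t` and `f (f w) ≡ f w t`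
    set u := f w
    set v := f (f w)
    have hu : u ∈ W := hfW w hw
    have hv : v ∈ W := hfW _ hu
    have e' : u * (w * t)⁻¹ * (v * (u * t)⁻¹) * (w * (v * t)⁻¹) = t := by
      letI : CommGroup W := { (inferInstance : Group W) with
        mul_comm := fun x y => Subtype.ext (p.comm _ x.2 _ y.2) }
      have htt : (⟨t, htW⟩ : W)⁻¹ = ⟨t, htW⟩ := inv_eq_of_mul_eq_one_right (Subtype.ext p.out.2.2)
      have key : ∀ u v w t : W, t * t = 1 → t⁻¹ = t →
          u * (w * t)⁻¹ * (v * (u * t)⁻¹) * (w * (v * t)⁻¹) = t := by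
        intro u v w t h2 hi
        calc u * (w * t)⁻¹ * (v * (u * t)⁻¹) * (w * (v * t)⁻¹)
            = (u * u⁻¹) * (v * v⁻¹) * (w * w⁻¹) * (t⁻¹ * t⁻¹ * t⁻¹) := by
              simp only [_root_.mul_inv_rev]; simp only [mul_comm, mul_left_comm, mul_assoc]
          _ = t := by rw [hi, h2]; simp
      exact congrArg Subtype.val (key ⟨u, hu⟩ ⟨v, hv⟩ ⟨w, hw⟩ ⟨t, htW⟩ (Subtype.ext p.out.2.2) htt)
    exact p.out.2.1 (e' ▸ mul_mem (mul_mem e h1) h2 : t ∈ E).1

/-- The structure of the centralizer of the second involution. -/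
theorem exists_split : ∃ ρ V B, Split z t a ρ V B := by
  classical
  haveI : Fact (Nat.Prime 2) := ⟨Nat.prime_two⟩
  haveI : Fact (Nat.Prime 3) := ⟨Nat.prime_three⟩
  set H := centralizer ({t} : Set G) with hHdef
  set W := sixteen z t with hWdef
  have hWH : W ≤ H := inf_le_right
  have hWp : IsPGroup 2 (W.subgroupOf H) :=
    IsPGroup.of_card (n := 4) (by rw [Nat.card_congr (subgroupOfEquivOfLe hWH).toEquiv, p.card_sixteen]; rfl)
  obtain ⟨S, hS⟩ := hWp.exists_le_sylow
  have hSW : (S : Subgroup H) = W.subgroupOf H := by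
    refine (eq_of_le_of_card_ge hS ?_).symm
    rw [Nat.card_congr (subgroupOfEquivOfLe hWH).toEquiv, p.card_sixteen]
    obtain ⟨n, hn⟩ := IsPGroup.iff_card.1 S.isPGroup'
    rw [hn]
    by_contra hlt
    have h5 : 5 ≤ n := by
      by_contra h5
      have := Nat.pow_le_pow_right (show 2 > 0 by norm_num) (show n ≤ 4 by omega)
      omega
    exact p.not_thirtytwo_dvd ((pow_dvd_pow 2 h5).trans (hn ▸ card_subgroup_dvd_card _))
  have hSab : IsMulCommutative (S : Subgroup H) := ⟨⟨fun x y => Subtype.ext (Subtype.ext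
    (p.comm _ (mem_subgroupOf.1 (hSW.le x.2)) _ (mem_subgroupOf.1 (hSW.le y.2))))⟩⟩
  have hconjW : ∀ u : G, u ∈ H → u * u = 1 → u ≠ 1 → ∃ c ∈ H, c * u * c⁻¹ ∈ W := by
    intro u hu huu hu1
    obtain ⟨S', hS'⟩ := (IsPGroup.of_card (p := 2) (n := 1) (G := zpowers (⟨u, hu⟩ : H))
      (by rw [Nat.card_zpowers, orderOf_mk, orderOf_eq_prime (p := 2) ((pow_two u).trans huu) hu1, pow_one])).exists_le_sylow
    obtain ⟨c, hc⟩ := MulAction.exists_smul_eq H S' S
    refine ⟨c, c.2, ?_⟩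
    have : c * ⟨u, hu⟩ * c⁻¹ ∈ (S : Subgroup H) := by
      rw [← hc, Sylow.coe_subgroup_smul]; exact ⟨_, hS' (mem_zpowers _), rfl⟩
    exact mem_subgroupOf.1 (hSW.le this)
  -- the normalizer
  set N : Subgroup G := H ⊓ normalizer (W : Set G) with hNdef
  have hNW : ∀ n ∈ N, ∀ w ∈ W, n * w * n⁻¹ ∈ W := fun n hn w hw => (mem_normalizer_iff.1 hn.2 w).1 hw
  have hWN : W ≤ N := le_inf hWH le_normalizer
  have hN := p.card_le_of_permutes hWN inf_le_left fun n hn u hu => p.conj_triple_of_normalizes (hNW n hn) hu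
  have hmapN : ∀ x : H, x ∈ normalizer ((S : Subgroup H) : Set H) → (x : G) ∈ N := by
    intro x hx
    refine ⟨x.2, mem_normalizer_iff.2 fun w => ?_⟩
    have key : ∀ y ∈ normalizer ((S : Subgroup H) : Set H), ∀ w ∈ W, (y : G) * w * (y : G)⁻¹ ∈ W := fun y hy w hw => by
      have := (mem_normalizer_iff.1 hy ⟨w, hWH hw⟩).1 (hSW.ge (mem_subgroupOf.2 hw))
      exact mem_subgroupOf.1 (hSW.le this)
    exact ⟨key x hx w, fun hw => by
      have := key x⁻¹ (inv_mem hx) _ hw
      simpa [mul_assoc] using this⟩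
  -- the element of order three
  obtain ⟨ρ, hρN, hρ3, hρz⟩ : ∃ ρ ∈ N, orderOf ρ = 3 ∧ ρ * z * ρ⁻¹ ≠ z := by
    rcases hN with hN16 | hN48
    · exfalso
      have hle : normalizer ((S : Subgroup H) : Set H) ≤ centralizer ((S : Subgroup H) : Set H) := by
        intro x hx
        have hxW : (x : G) ∈ W := by
          rw [eq_of_le_of_card_ge hWN (by rw [hN16, p.card_sixteen])]; exact hmapN x hx
        exact mem_centralizer_iff.2 fun y hy => Subtype.ext
          (p.comm _ (mem_subgroupOf.1 (hSW.le hy)) _ hxW)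
      set M := (MonoidHom.transferSylow S hle).ker
      have hcompl : IsComplement' M (S : Subgroup H) := MonoidHom.ker_transferSylow_isComplement' S hle
      haveI : M.Normal := inferInstance
      have hfix : ∀ u, (u = z ∨ u = a ∨ u = a * z) → ∀ m : H, m ∈ M → (m : G) * u = u * m → m = 1 := by
        intro u hu m hm e
        have hmW : (m : G) ∈ W := by
          rw [hWdef, ← p.centralizer_triple hu]; exact ⟨m.2, mem_centralizer_singleton_iff.2 e⟩
        exact mem_bot.1 (hcompl.disjoint.le_bot ⟨hm, hSW.ge (mem_subgroupOf.2 hmW)⟩)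
      have hinv : ∀ u, (u = z ∨ u = a ∨ u = a * z) → ∀ m : H, m ∈ M → u * m * u = (m : G)⁻¹ := by
        intro u hu m hm
        obtain ⟨-, huu, -, hut⟩ := p.four_cases' hu
        let w : H := ⟨u, mem_centralizer_singleton_iff.2 hut⟩
        have hwi : w⁻¹ = w := inv_eq_of_mul_eq_one_right (Subtype.ext huu)
        let φ : M → M := fun x => ⟨(x : H)⁻¹ * (w * x * w⁻¹),
          mul_mem (inv_mem x.2) (Normal.conj_mem inferInstance _ x.2 w)⟩
        have hφ : Function.Injective φ := by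
          intro x y e
          have e' : (x : H)⁻¹ * (w * x * w⁻¹) = (y : H)⁻¹ * (w * y * w⁻¹) := congrArg Subtype.val e
          have e2 : (y : H) * (x : H)⁻¹ * w = w * ((y : H) * (x : H)⁻¹) := by
            calc (y : H) * (x : H)⁻¹ * w = (y : H) * ((x : H)⁻¹ * (w * x * w⁻¹)) * w * (x : H)⁻¹ := by group
              _ = (y : H) * ((y : H)⁻¹ * (w * y * w⁻¹)) * w * (x : H)⁻¹ := by rw [e']
              _ = _ := by group
          have := hfix u hu _ (mul_mem y.2 (inv_mem x.2)) (congrArg Subtype.val e2)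
          exact Subtype.ext (mul_inv_eq_one.1 this).symm
        obtain ⟨x, hx⟩ := (Finite.injective_iff_surjective.1 hφ) ⟨m, hm⟩
        have hxm : (x : H)⁻¹ * (w * x * w⁻¹) = m := congrArg Subtype.val hx
        have hww : w * w = 1 := Subtype.ext huu
        have : w * m * w = m⁻¹ := by
          rw [← hxm, hwi]
          refine (inv_eq_of_mul_eq_one_right ?_).symm
          calc (x : H)⁻¹ * (w * x * w) * (w * ((x : H)⁻¹ * (w * x * w)) * w)
              = (x : H)⁻¹ * w * x * (w * w) * (x : H)⁻¹ * w * x * (w * w) := by group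
            _ = (x : H)⁻¹ * w * x * (x : H)⁻¹ * w * x := by rw [hww, mul_one, mul_one]
            _ = (x : H)⁻¹ * (w * w) * x := by group
            _ = 1 := by rw [hww, mul_one, inv_mul_cancel]
        exact congrArg Subtype.val this
      have hM : M = ⊥ := (eq_bot_iff_forall _).2 fun m hm => by
        have hza : a * z = z * a := p.hyp.z_comm p.memQ
        have e1 := hinv z (Or.inl rfl) m hm
        have e2 := hinv a (Or.inr (Or.inl rfl)) m hm
        refine hfix (a * z) (Or.inr (Or.inr rfl)) m hm ?_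
        have : a * z * (m : G) * (a * z) = m := by
          calc a * z * (m : G) * (a * z) = a * z * m * (z * a) := by rw [hza]
            _ = a * (z * m * z) * a := by group
            _ = (a * m * a)⁻¹ := by
              rw [e1, _root_.mul_inv_rev, _root_.mul_inv_rev, inv_eq_of_mul_eq_one_right p.sq, mul_assoc]
            _ = m := by rw [e2, inv_inv]
        calc (m : G) * (a * z) = a * z * m * (a * z) * (a * z) := by rw [this]
          _ = a * z * m * ((a * z) * (a * z)) := by group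
          _ = a * z * m := by rw [p.hyp.mul_z_inv p.memQ p.sq, mul_one]
      have hHW : Nat.card H = 16 := by
        rw [← hcompl.card_mul, hM, card_bot, one_mul, hSW, Nat.card_congr (subgroupOfEquivOfLe hWH).toEquiv,
          p.card_sixteen]
      obtain ⟨u, hu, hut, hne⟩ := p.not_small
      refine hne (p.z_type_iff.1 ⟨?_, hu⟩)
      exact (eq_of_le_of_card_ge hWH (by rw [hHW, p.card_sixteen])).ge (mem_centralizer_singleton_iff.2 hut)
    · obtain ⟨x, hx⟩ := exists_prime_orderOf_dvd_card' (G := N) 3 (by rw [hN48]; norm_num)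
      rw [← orderOf_coe] at hx
      refine ⟨x, x.2, hx, p.moves x.2.1 (fun hxW => ?_) (Or.inl rfl)⟩
      have h := orderOf_dvd_natCard W hxW
      rw [hx, p.card_sixteen] at h
      norm_num at h
  have hρH : ρ ∈ H := hρN.1
  have hρW : ρ ∉ W := fun e => hρz (by rw [p.comm ρ e z (p.triple_mem_sixteen (Or.inl rfl)), mul_inv_cancel_right])
  -- the residual
  set K : Subgroup H := Cfsg.pResidual 2 H
  haveI hKn : K.Normal := CfsgLib.Fusion.pResidual_normal
  set E : Subgroup G := Q ⊓ centralizer ({t} : Set G) with hEdef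
  have hE4 : Nat.card E = 4 := p.hyp.card_inf_outer p.out
  have hEW : ∀ e ∈ E, e ∈ W := fun e he => ⟨p.hyp.le he.1, he.2⟩
  have hinfK : (S : Subgroup H) ⊓ K = E.subgroupOf H := by
    rw [CfsgLib.Fusion.inf_pResidual_abelian_sylow S hSab]
    refine le_antisymm (commutator_le.2 fun x hx y hy => ?_) ?_
    · have hxW : (x : G) ∈ W := mem_subgroupOf.1 (hSW.le hx)
      have hyN : (y : G) ∈ N := hmapN y hy
      have hy3 : (y : G) ^ 3 ∈ W := by
        have hc : Nat.card N = 16 ∨ Nat.card N = 48 := hN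
        haveI : (W.subgroupOf N).Normal := ⟨fun w hw n => mem_subgroupOf.2 (hNW n n.2 _ (mem_subgroupOf.1 hw))⟩
        have hi : (W.subgroupOf N).index ∣ 3 := by
          have h := (W.subgroupOf N).card_mul_index
          rw [Nat.card_congr (subgroupOfEquivOfLe hWN).toEquiv, p.card_sixteen] at h
          rcases hc with e | e <;> rw [e] at h
          · exact ⟨3, by omega⟩
          · exact ⟨1, by omega⟩
        obtain ⟨k, hk⟩ := hi
        have : (⟨(y : G), hyN⟩ : N) ^ 3 ∈ W.subgroupOf N := by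
          rw [hk, pow_mul]; exact pow_mem (Subgroup.pow_index_mem _ _) k
        exact mem_subgroupOf.1 this
      have h := p.comm_mem hyN.1 (hNW _ hyN) hy3 (inv_mem hxW)
      rw [mem_subgroupOf]
      show (x : G) * y * (x : G)⁻¹ * (y : G)⁻¹ ∈ E
      have e : (x : G) * y * (x : G)⁻¹ * (y : G)⁻¹ = (y : G) * (x : G)⁻¹ * (y : G)⁻¹ * ((x : G)⁻¹)⁻¹ := by
        calc (x : G) * y * (x : G)⁻¹ * (y : G)⁻¹ = (x : G) * ((y : G) * (x : G)⁻¹ * (y : G)⁻¹) := by group
          _ = (y : G) * (x : G)⁻¹ * (y : G)⁻¹ * x := p.comm _ hxW _ (hNW _ hyN _ (inv_mem hxW))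
          _ = _ := by group
      rw [e]; exact h
    · set C' := ⁅(S : Subgroup H), normalizer ((S : Subgroup H) : Set H)⁆
      let r : H := ⟨ρ, hρH⟩
      have hrN : r ∈ normalizer ((S : Subgroup H) : Set H) := by
        rw [mem_normalizer_iff]
        intro w
        rw [hSW, mem_subgroupOf, mem_subgroupOf]
        exact mem_normalizer_iff.1 hρN.2 (w : G)
      have hcom : ∀ u, (u = z ∨ u = a ∨ u = a * z) → ∃ e : H, e ∈ C' ∧ (e : G) = u * (ρ * u * ρ⁻¹) := by
        intro u hu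
        let w : H := ⟨u, mem_centralizer_singleton_iff.2 (p.four_cases' hu).2.2.2⟩
        refine ⟨⁅w, r⁆, commutator_mem_commutator (hSW.ge (mem_subgroupOf.2 (p.triple_mem_sixteen hu))) hrN, ?_⟩
        show u * ρ * u⁻¹ * ρ⁻¹ = u * (ρ * u * ρ⁻¹)
        rw [inv_eq_of_mul_eq_one_right (p.four_cases' hu).2.1]; group
      obtain ⟨e1, he1, he1'⟩ := hcom z (Or.inl rfl)
      have hz1 := p.conj_triple_of_normalizes (hNW ρ hρN) (Or.inl rfl)
      obtain ⟨e2, he2, he2'⟩ := hcom _ hz1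
      obtain ⟨ht1, -, hne12⟩ := p.triple_closed (Or.inl rfl) hz1 hρz.symm
      obtain ⟨ht2, hne21, -⟩ := p.triple_closed hz1 (p.conj_triple_of_normalizes (hNW ρ hρN) hz1)
        (p.moves hρH hρW hz1).symm
      have hdiff : (e1 : G) ≠ e2 := by
        rw [he1', he2']
        intro e
        have e2' : ρ * (z * (ρ * z * ρ⁻¹)) * ρ⁻¹ = ρ * z * ρ⁻¹ * (ρ * (ρ * z * ρ⁻¹) * ρ⁻¹) := by group
        rw [← e] at e2'
        exact p.moves hρH hρW ht1 e2'
      intro x hx
      rw [mem_subgroupOf] at hx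
      rcases (p.fours x).1 ⟨hx.1, mem_centralizer_singleton_iff.1 hx.2⟩ with e | hxT
      · exact (show x = 1 from Subtype.ext e) ▸ one_mem _
      by_cases ex1 : (x : G) = e1
      · exact (show x = e1 from Subtype.ext ex1) ▸ he1
      by_cases ex2 : (x : G) = e2
      · exact (show x = e2 from Subtype.ext ex2) ▸ he2
      · have e12 : e1 * e2 ∈ C' := mul_mem he1 he2
        rw [← he1'] at ht1
        rw [← he2'] at ht2
        obtain ⟨h3, h31, h32⟩ := p.triple_closed ht1 ht2 hdiff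
        have hset : ({(e1 : G), (e2 : G), (e1 : G) * e2} : Set G) = {z, a, a * z} := by
          refine Set.eq_of_subset_of_ncard_le ?_ ?_ (Set.toFinite _)
          · intro q hq
            simp only [Set.mem_insert_iff, Set.mem_singleton_iff] at hq ⊢
            rcases hq with rfl | rfl | rfl
            exacts [ht1, ht2, h3]
          · rw [p.ncard_triple, Set.ncard_insert_of_notMem, Set.ncard_pair h32.symm]
            simp only [Set.mem_insert_iff, Set.mem_singleton_iff, not_or]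
            exact ⟨hdiff, h31.symm⟩
        have hx3 : (x : G) ∈ ({(e1 : G), (e2 : G), (e1 : G) * e2} : Set G) := by
          rw [hset]; simpa using hxT
        simp only [Set.mem_insert_iff, Set.mem_singleton_iff] at hx3
        have this : (x : G) = ((e1 * e2 : H) : G) := by
          rw [coe_mul]; exact (hx3.resolve_left ex1).resolve_left ex2
        exact (show x = e1 * e2 from Subtype.ext this) ▸ e12
  set B : Subgroup G := K.map H.subtype with hBdef
  have hBH : B ≤ H := map_subtype_le _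
  have hKB : B.subgroupOf H = K := comap_map_eq_self_of_injective H.subtype_injective K
  have hBn : ∀ c ∈ H, ∀ b ∈ B, c * b * c⁻¹ ∈ B := by
    rintro c hc b ⟨b', hb', rfl⟩
    exact ⟨_, hKn.conj_mem b' hb' ⟨c, hc⟩, rfl⟩
  have hBW : ∀ b : G, (b ∈ B ∧ b ∈ W) ↔ b ∈ E := by
    intro b
    constructor
    · rintro ⟨⟨b', hb', rfl⟩, hbW⟩
      exact mem_subgroupOf.1 (hinfK.le ⟨hSW.ge (mem_subgroupOf.2 hbW), hb'⟩)
    · intro hb
      exact ⟨⟨⟨b, hWH (hEW b hb)⟩, (hinfK.ge (mem_subgroupOf.2 hb)).2, rfl⟩, hEW b hb⟩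
  have htriple : ∀ {u : G}, (u = z ∨ u = a ∨ u = a * z) → u ∈ B := fun hu =>
    ((hBW _).2 ⟨(p.four_cases' hu).1, mem_centralizer_singleton_iff.2 (p.four_cases' hu).2.2.2⟩).1
  have hρB : ρ ∈ B := ⟨⟨ρ, hρH⟩, CfsgLib.Fusion.mem_pResidual (by rw [orderOf_mk, hρ3]; norm_num), rfl⟩
  have hcardH : Nat.card H = Nat.card B * 4 := by
    rw [← K.card_mul_index, Nat.card_congr (K.equivMapOfInjective _ H.subtype_injective).toEquiv]
    congr 1
    have h1 : K.relIndex (S : Subgroup H) = K.index := by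
      have := relIndex_sup_right (S : Subgroup H) K
      rw [sup_comm, CfsgLib.Fusion.pResidual_sup_sylow, relIndex_top_right] at this
      exact this.symm
    have h2 := (K.subgroupOf (S : Subgroup H)).card_mul_index
    rw [show (K.subgroupOf (S : Subgroup H)).index = K.relIndex (S : Subgroup H) from rfl, h1,
      show Nat.card (K.subgroupOf (S : Subgroup H)) = 4 by
        rw [← inf_subgroupOf_left, Nat.card_congr (subgroupOfEquivOfLe inf_le_left).toEquiv, hinfK,
          Nat.card_congr (subgroupOfEquivOfLe (fun e he => hWH (hEW e he))).toEquiv, hE4],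
      hSW, Nat.card_congr (subgroupOfEquivOfLe hWH).toEquiv, p.card_sixteen] at h2
    omega
  have htypeB : ∀ x, IsConj z x → x * t = t * x → x ∈ B := by
    intro x hx hxt
    obtain ⟨hxx, hx1⟩ := conj_involution hx p.hyp.inv
    obtain ⟨c, hc, hcW⟩ := hconjW x (mem_centralizer_singleton_iff.2 hxt) hxx hx1
    have h := p.z_type_iff.1 ⟨hcW, hx.trans (isConj_iff.2 ⟨c, rfl⟩)⟩
    have := hBn c⁻¹ (inv_mem hc) _ (htriple h)
    simpa [mul_assoc] using this
  -- the residual is `A₅`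
  let zB : B := ⟨z, htriple (Or.inl rfl)⟩
  have hCz : centralizer ({zB} : Set B) = E.subgroupOf B := by
    ext b
    rw [mem_centralizer_singleton_iff, mem_subgroupOf, ← hBW]
    constructor
    · intro e
      exact ⟨b.2, by rw [hWdef, ← p.centralizer_triple (Or.inl rfl)]; exact ⟨hBH b.2,
        mem_centralizer_singleton_iff.2 (congrArg Subtype.val e)⟩⟩
    · intro hb
      exact Subtype.ext (p.comm _ hb.2 z (p.triple_mem_sixteen (Or.inl rfl)))
  have hEB : E ≤ B := fun e he => ((hBW e).2 he).1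
  let ρB : B := ⟨ρ, hρB⟩
  obtain ⟨eB⟩ : Nonempty (B ≃* A) := by
    refine iso_alternating_five (x := zB) (by rw [orderOf_mk]; exact p.hyp.inv) ?_ ?_ ?_ ?_
    · rw [hCz, Nat.card_congr (subgroupOfEquivOfLe hEB).toEquiv, hE4]
    · intro c hc
      rw [hCz, mem_subgroupOf] at hc
      exact Subtype.ext (by rw [coe_pow, pow_two]; exact p.elem _ (hEW _ hc))
    · rintro ⟨P, M, hMn, hMc⟩
      -- a conjugator differs from a conjugate in the complement
      have hEp : IsPGroup 2 (E.subgroupOf B) := IsPGroup.of_card (n := 2) (by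
        rw [Nat.card_congr (subgroupOfEquivOfLe hEB).toEquiv, hE4]; rfl)
      obtain ⟨P', hP'⟩ := hEp.exists_le_sylow
      obtain ⟨g, hg⟩ := MulAction.exists_smul_eq B P' P
      have hq : ∀ e : B, e ∈ E.subgroupOf B → e ∈ M → e = 1 := by
        intro e he heM
        have h1 : g * e * g⁻¹ ∈ (P : Subgroup B) := by
          rw [← hg, Sylow.coe_subgroup_smul]; exact ⟨e, hP' he, rfl⟩
        exact conj_eq_one_iff.1 (mem_bot.1 (hMc.disjoint.le_bot ⟨hMn.conj_mem e heM g, h1⟩))
      have hρM : ρB ∈ M := by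
        have hi : M.index = Nat.card (P : Subgroup B) := by
          have := hMc.card_mul; have := M.card_mul_index; have : 0 < Nat.card M := Nat.card_pos
          exact Nat.eq_of_mul_eq_mul_left this (by omega)
        obtain ⟨k, hk⟩ := IsPGroup.iff_card.1 P.isPGroup'
        haveI := hMn
        have h1 : orderOf (QuotientGroup.mk' M ρB) ∣ 2 ^ k := by
          rw [← hk, ← hi, index_eq_card]; exact orderOf_dvd_natCard _
        have h2 : orderOf (QuotientGroup.mk' M ρB) ∣ 3 := by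
          rw [← hρ3, show orderOf ρ = orderOf ρB from (orderOf_mk ρ hρB).symm]
          exact orderOf_map_dvd _ _
        have := Nat.eq_one_of_dvd_coprimes (Nat.Coprime.pow_left k (by norm_num)) h1 h2
        rw [orderOf_eq_one_iff] at this
        exact (QuotientGroup.eq_one_iff _).1 this
      have hmem : zB * ρB * zB⁻¹ * ρB⁻¹ ∈ M := mul_mem (hMn.conj_mem _ hρM zB) (inv_mem hρM)
      have hinE : zB * ρB * zB⁻¹ * ρB⁻¹ ∈ E.subgroupOf B := by
        rw [mem_subgroupOf]
        show z * ρ * z⁻¹ * ρ⁻¹ ∈ E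
        rw [inv_eq_of_mul_eq_one_right p.hyp.zz, show z * ρ * z * ρ⁻¹ = z * (ρ * z * ρ⁻¹) by group]
        obtain ⟨h1, -, -, h4⟩ := p.four_cases'
          (p.triple_closed (Or.inl rfl) (p.conj_triple_of_normalizes (hNW ρ hρN) (Or.inl rfl)) hρz.symm).1
        exact ⟨h1, mem_centralizer_singleton_iff.2 h4⟩
      have e := congrArg Subtype.val (hq _ hinE hmem)
      refine hρz ?_
      calc ρ * z * ρ⁻¹ = z⁻¹ * (z * ρ * z⁻¹ * ρ⁻¹) * (ρ * (z * z) * ρ⁻¹) := by group
        _ = z := by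
          rw [show z * ρ * z⁻¹ * ρ⁻¹ = 1 from e, p.hyp.zz, inv_eq_of_mul_eq_one_right p.hyp.zz]; group
    · intro M hMn hMe
      have hMp : IsPGroup 2 M := fun g => ⟨1, Subtype.ext (by simpa using hMe.2 g g.2)⟩
      refine ⟨fun h2 => ?_, fun h4 => ?_⟩
      · -- a central involution
        have hMc : M ≤ center B := by
          intro m hm
          rw [mem_center_iff]
          intro g
          by_cases hm1 : m = 1
          · simp [hm1]
          haveI : IsCyclic M := isCyclic_of_prime_card h2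
          obtain ⟨x, hx, hux⟩ := (Nat.card_eq_two_iff' (1 : M)).1 h2
          have h3 : (⟨m, hm⟩ : M) = x := hux _ fun e => hm1 (congrArg Subtype.val e)
          have h4' : (⟨g * m * g⁻¹, hMn.conj_mem m hm g⟩ : M) = x :=
            hux _ fun e => hm1 (conj_eq_one_iff.1 (congrArg Subtype.val e))
          exact mul_inv_eq_iff_eq_mul.1 (congrArg Subtype.val (h4'.trans h3.symm))
        obtain ⟨m, hm, hm1⟩ := (bot_or_exists_ne_one M).resolve_left fun e => by rw [e, card_bot] at h2; norm_num at h2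
        have hmz : m ∈ centralizer ({zB} : Set B) :=
          mem_centralizer_singleton_iff.2 (mem_center_iff.1 (hMc hm) zB).symm
        rw [hCz, mem_subgroupOf] at hmz
        rcases (p.fours _).1 ⟨hmz.1, mem_centralizer_singleton_iff.1 hmz.2⟩ with e | hu
        · exact hm1 (Subtype.ext e)
        · exact p.moves hρH hρW hu (by
            rw [show ρ * (m : G) = (m : G) * ρ from congrArg Subtype.val (mem_center_iff.1 (hMc hm) ρB),
              mul_inv_cancel_right])
      · have hEB' : M = E.subgroupOf B := by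
          refine (eq_of_le_of_card_ge ?_ (by rw [Nat.card_congr (subgroupOfEquivOfLe hEB).toEquiv, hE4, h4])).symm
          -- `E` is a Sylow 2-subgroup of the residual, so contains the normal subgroup
          have hsup : IsPGroup 2 (E.subgroupOf B ⊔ M : Subgroup B) :=
            IsPGroup.to_sup_of_normal_right (IsPGroup.of_card (n := 2) (by
              rw [Nat.card_congr (subgroupOfEquivOfLe hEB).toEquiv, hE4]; rfl)) hMp
          obtain ⟨k, hk⟩ := IsPGroup.iff_card.1 hsup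
          have hdvd : 2 ^ k * 4 ∣ Nat.card H := hcardH ▸ mul_dvd_mul_right (hk ▸ card_subgroup_dvd_card _) 4
          have hk2 : k ≤ 2 := by
            by_contra hk2
            exact p.not_thirtytwo_dvd ((show 32 ∣ 2 ^ k * 4 from
              ⟨2 ^ (k - 3), by rw [show k = (k - 3) + 3 by omega, pow_add]; simp; ring⟩).trans hdvd)
          have heq : (E.subgroupOf B ⊔ M : Subgroup B) = M := by
            refine (eq_of_le_of_card_ge le_sup_right ?_).symm
            rw [hk, h4]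
            exact (Nat.pow_le_pow_right (by norm_num) hk2).trans le_rfl
          exact le_sup_left.trans heq.le
        obtain ⟨u, hu, hut, hne⟩ := p.not_small
        obtain ⟨huu, hu1⟩ := conj_involution hu p.hyp.inv
        have huB := htypeB u hu hut
        obtain ⟨c, hc, hcW⟩ := hconjW u (mem_centralizer_singleton_iff.2 hut) huu hu1
        haveI := hMn
        have hsup : IsPGroup 2 (zpowers (⟨u, huB⟩ : B) ⊔ M : Subgroup B) :=
          IsPGroup.to_sup_of_normal_right (IsPGroup.of_card (n := 1) (by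
            rw [Nat.card_zpowers, orderOf_mk, orderOf_eq_prime (p := 2) ((pow_two u).trans huu) hu1, pow_one])) hMp
        obtain ⟨k, hk⟩ := IsPGroup.iff_card.1 hsup
        have hdvd : 2 ^ k * 4 ∣ Nat.card H := hcardH ▸ mul_dvd_mul_right (hk ▸ card_subgroup_dvd_card _) 4
        have hk2 : k ≤ 2 := by
          by_contra hk2
          exact p.not_thirtytwo_dvd ((show 32 ∣ 2 ^ k * 4 from
            ⟨2 ^ (k - 3), by rw [show k = (k - 3) + 3 by omega, pow_add]; simp; ring⟩).trans hdvd)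
        have heq : (zpowers (⟨u, huB⟩ : B) ⊔ M : Subgroup B) = M := by
          refine (eq_of_le_of_card_ge le_sup_right ?_).symm
          rw [hk, h4]
          exact (Nat.pow_le_pow_right (by norm_num) hk2).trans le_rfl
        have huM : (⟨u, huB⟩ : B) ∈ M := heq.le (mem_sup_left (mem_zpowers _))
        rw [hEB', mem_subgroupOf] at huM
        exact hne (p.z_type_iff.1 ⟨hEW u huM, hu⟩)
  -- the complement
  set V : Subgroup G := W ⊓ centralizer ({ρ} : Set G) with hVdef
  have hVW : V ≤ W := inf_le_left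
  have hVH : V ≤ H := hVW.trans hWH
  have hcA := AltFive.card_A
  have hcardB : Nat.card B = 60 := by rw [Nat.card_congr eB.toEquiv, hcA]
  have hVB : ∀ v ∈ V, ∀ b ∈ B, v * b = b * v := by
    intro v hv b hb
    let α : MulAut B :=
      { toFun := fun x => ⟨v * x * v⁻¹, hBn v (hVH hv) x x.2⟩
        invFun := fun x => ⟨v⁻¹ * x * v, by simpa using hBn v⁻¹ (inv_mem (hVH hv)) x x.2⟩
        left_inv := fun x => Subtype.ext (by simp [mul_assoc])
        right_inv := fun x => Subtype.ext (by simp [mul_assoc])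
        map_mul' := fun x y => Subtype.ext (by simp [mul_assoc]) }
    obtain ⟨s, hs⟩ := (CfsgLib.Perm.Groups.AltAut.conjNormal_bijective (Ω := Fin 5)
      (by rw [Fintype.card_fin]; norm_num) (by rw [Fintype.card_fin]; norm_num)).2 ((MulAut.congr eB) α)
    have hsx : ∀ x : B, α x = x → s * ((eB x : A) : Equiv.Perm (Fin 5)) = ((eB x : A) : Equiv.Perm (Fin 5)) * s := by
      intro x hx
      have e : ((MulAut.conjNormal s) (eB x) : A) = eB x := by
        rw [hs]; simp [MulAut.congr, hx]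
      have e' := congrArg Subtype.val e
      rw [MulAut.conjNormal_apply] at e'
      exact mul_inv_eq_iff_eq_mul.1 e'
    have hz' : α zB = zB := Subtype.ext (by
      show v * z * v⁻¹ = z
      rw [p.comm v hv.1 z (p.triple_mem_sixteen (Or.inl rfl)), mul_inv_cancel_right])
    have hr' : α ρB = ρB := Subtype.ext (by
      show v * ρ * v⁻¹ = ρ
      rw [mem_centralizer_singleton_iff.1 hv.2, mul_inv_cancel_right])
    have hs1 : s = 1 := by
      refine AltFive.perm_eq_one s (eB zB) (eB ρB) ?_ ?_ ?_ ?_ ?_ ?_ (hsx _ hz') (hsx _ hr')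
      · rw [← map_mul]; exact (map_eq_one_iff _ eB.injective).2 (Subtype.ext p.hyp.zz)
      · exact fun e => p.hyp.z_ne (congrArg Subtype.val ((map_eq_one_iff _ eB.injective).1 e))
      · rw [← map_mul, ← map_mul]
        refine (map_eq_one_iff _ eB.injective).2 (Subtype.ext ?_)
        show ρ * ρ * ρ = 1
        rw [← pow_orderOf_eq_one ρ, hρ3, pow_succ, pow_two]
      · intro e
        have := congrArg Subtype.val ((map_eq_one_iff _ eB.injective).1 e)
        exact hρW ((show ρ = 1 from this) ▸ W.one_mem)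
      · intro e
        rw [← map_mul, ← map_mul] at e
        exact hρz (mul_inv_eq_iff_eq_mul.2 (congrArg Subtype.val (eB.injective e)))
      · rw [← map_mul, ← map_inv, ← map_mul, ← map_mul, ← map_mul]
        refine congrArg eB (Subtype.ext ?_)
        show z * (ρ * z * ρ⁻¹) = ρ * z * ρ⁻¹ * z
        exact p.comm _ (p.triple_mem_sixteen (Or.inl rfl)) _ (hNW ρ hρN _ (p.triple_mem_sixteen (Or.inl rfl)))
    rw [hs1, map_one] at hs
    have hα : α ⟨b, hb⟩ = ⟨b, hb⟩ := eB.injective (by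
      have := congrArg (fun φ : MulAut A => φ (eB ⟨b, hb⟩)) hs
      simpa [MulAut.congr] using this.symm)
    exact mul_inv_eq_iff_eq_mul.1 (congrArg Subtype.val hα)
  have hVE : V ⊓ B = ⊥ := (eq_bot_iff_forall _).2 fun v hv => by
    by_contra hv1
    have hvE : v ∈ E := (hBW v).1 ⟨hv.2, hVW hv.1⟩
    rcases (p.fours v).1 ⟨hvE.1, mem_centralizer_singleton_iff.1 hvE.2⟩ with e | hu
    · exact hv1 e
    · exact p.moves hρH hρW hu (by rw [← mem_centralizer_singleton_iff.1 hv.1.2, mul_inv_cancel_right])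
  have hρ3W : ρ ^ 3 ∈ W := by rw [← hρ3, pow_orderOf_eq_one]; exact one_mem _
  let D : W →* E := MonoidHom.mk' (fun w => ⟨ρ * w * ρ⁻¹ * (w : G)⁻¹,
      p.comm_mem hρH (hNW ρ hρN) hρ3W w.2⟩) fun v w => Subtype.ext (by
    show ρ * ((v : G) * w) * ρ⁻¹ * ((v : G) * w)⁻¹ = ρ * v * ρ⁻¹ * (v : G)⁻¹ * (ρ * w * ρ⁻¹ * (w : G)⁻¹)
    calc ρ * ((v : G) * w) * ρ⁻¹ * ((v : G) * w)⁻¹ = ρ * v * ρ⁻¹ * ((ρ * w * ρ⁻¹ * (w : G)⁻¹) * (v : G)⁻¹) := by group
      _ = ρ * v * ρ⁻¹ * ((v : G)⁻¹ * (ρ * w * ρ⁻¹ * (w : G)⁻¹)) := by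
        rw [p.comm _ (hEW _ (p.comm_mem hρH (hNW ρ hρN) hρ3W w.2)) _ (inv_mem v.2)]
      _ = _ := by group)
  have hker : Nat.card D.ker = Nat.card V := Nat.card_congr
    { toFun := fun w => ⟨(w.1 : G), w.1.2, mem_centralizer_singleton_iff.2
        (mul_inv_eq_iff_eq_mul.1 (mul_inv_eq_one.1 (congrArg Subtype.val w.2))).symm⟩
      invFun := fun v => ⟨⟨v.1, v.2.1⟩, Subtype.ext (by
        show ρ * v.1 * ρ⁻¹ * (v.1)⁻¹ = 1
        rw [← mem_centralizer_singleton_iff.1 v.2.2]; group)⟩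
      left_inv := fun w => rfl
      right_inv := fun v => rfl }
  have hV4 : 4 ≤ Nat.card V := by
    have h := D.ker.card_mul_index
    rw [index_ker, hker, p.card_sixteen] at h
    have := card_le_card_group D.range
    rw [hE4] at this
    have : Nat.card V * Nat.card D.range ≤ Nat.card V * 4 := Nat.mul_le_mul_left _ this
    omega
  let m : ↥V × ↥B → ↥H := fun q => ⟨q.1.1 * q.2.1, mul_mem (hVH q.1.2) (hBH q.2.2)⟩
  have hm : Function.Injective m := by
    rintro ⟨v, b⟩ ⟨v', b'⟩ e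
    have e' : (v : G) * b = v' * b' := congrArg Subtype.val e
    have h1 : (v' : G)⁻¹ * v ∈ V ⊓ B := mem_inf.2 ⟨V.mul_mem (V.inv_mem v'.2) v.2, by
      rw [show (v' : G)⁻¹ * v = b' * (b : G)⁻¹ by rw [eq_mul_inv_iff_mul_eq, mul_assoc, e', inv_mul_cancel_left]]
      exact B.mul_mem b'.2 (B.inv_mem b.2)⟩
    rw [hVE, mem_bot, inv_mul_eq_one] at h1
    rw [← h1] at e'
    exact Prod.ext (Subtype.ext h1.symm) (Subtype.ext (mul_left_cancel e'))
  have hle := Nat.card_le_card_of_injective m hm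
  rw [Nat.card_prod, hcardH, hcardB] at hle
  have hV : Nat.card V = 4 := by omega
  have hmb := (Nat.bijective_iff_injective_and_card m).2 ⟨hm, by rw [Nat.card_prod, hV, hcardH, hcardB]⟩
  refine ⟨ρ, V, B, hVH, hBH, hVB, hVE, fun x hx => ?_, fun v hv => by rw [pow_two]; exact p.elem v (hVW hv),
    ⟨p.t_mem_sixteen, mem_centralizer_singleton_iff.2 (mem_centralizer_singleton_iff.1 hρH).symm⟩, hV, ⟨eB⟩,
    fun x => ?_, fun x hx hxo hxB => ?_, ⟨htriple (Or.inl rfl), htriple (Or.inr (Or.inl rfl))⟩,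
    ⟨hρB, hρ3, hρz⟩, hVW⟩
  · obtain ⟨⟨v, b⟩, e⟩ := hmb.2 ⟨x, hx⟩
    exact ⟨v, v.2, b, b.2, (congrArg Subtype.val e).symm⟩
  · constructor
    · rintro ⟨hx, hxt⟩
      exact ⟨htypeB x hx hxt, conj_involution hx p.hyp.inv⟩
    · rintro ⟨hxB, hxx, hx1⟩
      refine ⟨?_, mem_centralizer_singleton_iff.1 (hBH hxB)⟩
      obtain ⟨k, hk⟩ := AltFive.invol_conj (eB zB) (eB ⟨x, hxB⟩)
        (by rw [← map_mul]; exact (map_eq_one_iff _ eB.injective).2 (Subtype.ext p.hyp.zz))
        (fun e => p.hyp.z_ne (congrArg Subtype.val ((map_eq_one_iff _ eB.injective).1 e)))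
        (by rw [← map_mul]; exact (map_eq_one_iff _ eB.injective).2 (Subtype.ext hxx))
        (fun e => hx1 (congrArg Subtype.val ((map_eq_one_iff _ eB.injective).1 e)))
      obtain ⟨k', rfl⟩ := eB.surjective k
      rw [← map_inv, ← map_mul, ← map_mul] at hk
      exact isConj_iff.2 ⟨k', congrArg Subtype.val (eB.injective hk)⟩
  · refine ((((p.hyp.classes p.out).2 x hxo).resolve_left fun e => hxB ?_)).symm
    exact htypeB x e (mem_centralizer_singleton_iff.1 hx)

theorem card_centralizer : Nat.card (centralizer ({t} : Set G)) = 240 := by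
  obtain ⟨ρ, V, B, s⟩ := p.exists_split
  obtain ⟨eB⟩ := s.iso
  let m : ↥V × ↥B → ↥(centralizer ({t} : Set G)) := fun q => ⟨q.1.1 * q.2.1, mul_mem (s.leV q.1.2) (s.leB q.2.2)⟩
  have hm : Function.Bijective m := by
    refine ⟨?_, fun x => ?_⟩
    · rintro ⟨v, b⟩ ⟨v', b'⟩ e
      have e' : (v : G) * b = v' * b' := congrArg Subtype.val e
      have h1 : (v' : G)⁻¹ * v ∈ V ⊓ B := mem_inf.2 ⟨V.mul_mem (V.inv_mem v'.2) v.2, by
        rw [show (v' : G)⁻¹ * v = b' * (b : G)⁻¹ by rw [eq_mul_inv_iff_mul_eq, mul_assoc, e', inv_mul_cancel_left]]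
        exact B.mul_mem b'.2 (B.inv_mem b.2)⟩
      rw [s.inf, mem_bot, inv_mul_eq_one] at h1
      rw [← h1] at e'
      exact Prod.ext (Subtype.ext h1.symm) (Subtype.ext (mul_left_cancel e'))
    · obtain ⟨v, hv, b, hb, e⟩ := s.fac x x.2
      exact ⟨(⟨v, hv⟩, ⟨b, hb⟩), Subtype.ext e.symm⟩
  rw [← Nat.card_eq_of_bijective m hm, Nat.card_prod, s.cardV, Nat.card_congr eB.toEquiv, AltFive.card_A]

end Pt

/-- The order of a group of Hall–Janko type. -/
theorem Hyp.card_eq (h : Hyp z Q) : Nat.card G = 604800 := by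
  obtain ⟨t, ht⟩ := h.exists_out
  obtain ⟨a, p⟩ := h.exists_pt ht
  obtain ⟨ρ, V, B, s⟩ := p.exists_split
  obtain ⟨eB⟩ := s.iso
  rw [h.order_formula ht, p.card_centralizer,
    h.pairs_over_t ht V B s.leV s.leB s.comm s.inf s.fac s.sq s.memV eB s.zB s.tB]

end CfsgLib.Invol.JTwo
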