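import Cfsg.Agent.Lib.Invol.JTwo.Count

/-!
# The second class of involutions: local facts
-/

set_option autoImplicit false

namespace CfsgLib.Invol.JTwo

open Subgroup

variable {G : Type*} [Group G] [Finite G] {z : G} {Q : Subgroup G}

/-- An outer involution with the point it fixes. -/
structure Pt (z : G) (Q : Subgroup G) (t a : G) : Prop where
  hyp : Hyp z Q
  out : Out z Q t
  memQ : a ∈ Q
  sq : a * a = 1
  ne_one : a ≠ 1
  ne_z : a ≠ z
  comm : ∀ x ∈ centralizer ({z} : Set G) ⊓ centralizer ({t} : Set G),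
    ∀ y ∈ centralizer ({z} : Set G) ⊓ centralizer ({t} : Set G), x * y = y * x
  elem : ∀ x ∈ centralizer ({z} : Set G) ⊓ centralizer ({t} : Set G), x * x = 1
  cent : ∀ x ∈ centralizer ({z} : Set G) ⊓ centralizer ({t} : Set G), x * a = a * x
  fours : ∀ q : G, (q ∈ Q ∧ q * t = t * q) ↔ q = 1 ∨ q = z ∨ q = a ∨ q = a * z

/-- The centralizer of the two involutions. -/
def sixteen (z t : G) : Subgroup G := centralizer ({z} : Set G) ⊓ centralizer ({t} : Set G)

theorem Hyp.exists_pt (h : Hyp z Q) {t : G} (ht : Out z Q t) : ∃ a, Pt z Q t a := by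
  obtain ⟨F⟩ := h.exists_frame
  obtain ⟨hg, hg1⟩ := h.pi_invol F ht
  obtain ⟨i, hi, -⟩ := AltFive.invol_fixed _ hg hg1
  obtain ⟨h1, h2, h3⟩ := h.outer_struct F ht hi
  exact ⟨F.p i, h, ht, F.mem i, F.inv i, F.ne_one i, F.ne_z i, h1, h2, h3, h.inf_outer F ht hi⟩

namespace Pt

variable {t a : G} (p : Pt z Q t a)
include p

theorem four_cases' {u : G} (hu : u = z ∨ u = a ∨ u = a * z) :
    u ∈ Q ∧ u * u = 1 ∧ u ≠ 1 ∧ u * t = t * u := by
  obtain ⟨hq, hc⟩ := (p.fours u).2 (Or.inr hu)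
  refine ⟨hq, ?_, ?_, hc⟩
  · rcases hu with rfl | rfl | rfl
    exacts [p.hyp.zz, p.sq, p.hyp.mul_z_inv p.memQ p.sq]
  · rcases hu with rfl | rfl | rfl
    exacts [p.hyp.z_ne, p.ne_one, fun e => p.ne_z (by
      calc a = a * z * z := by rw [mul_assoc, p.hyp.zz, mul_one]
        _ = z := by rw [e, one_mul])]

theorem triple_mem_sixteen {u : G} (hu : u = z ∨ u = a ∨ u = a * z) : u ∈ sixteen z t :=
  ⟨p.hyp.le (p.four_cases' hu).1, mem_centralizer_singleton_iff.2 (p.four_cases' hu).2.2.2⟩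

theorem conj_triple {u : G} (hu : u = z ∨ u = a ∨ u = a * z) : IsConj z u :=
  ((p.hyp.conj_mem_iff p.out).2 ⟨(p.four_cases' hu).1, (p.four_cases' hu).2.1, (p.four_cases' hu).2.2.1⟩).1

theorem card_sixteen : Nat.card (sixteen z t) = 16 := (p.hyp.outer_class p.out).1

theorem t_mem_sixteen : t ∈ sixteen z t := ⟨p.out.1, mem_centralizer_singleton_iff.2 rfl⟩

/-- The conjugates of `z` among the sixteen. -/
theorem z_type_iff {u : G} : (u ∈ sixteen z t ∧ IsConj z u) ↔ (u = z ∨ u = a ∨ u = a * z) := by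
  constructor
  · rintro ⟨⟨hu, hut⟩, huc⟩
    obtain ⟨hq, -, h1⟩ := (p.hyp.conj_mem_iff p.out).1 ⟨huc, mem_centralizer_singleton_iff.1 hu⟩
    exact ((p.fours u).1 ⟨hq, mem_centralizer_singleton_iff.1 hut⟩).resolve_left h1
  · exact fun hu => ⟨p.triple_mem_sixteen hu, p.conj_triple hu⟩

theorem centralizer_triple {u : G} (hu : u = z ∨ u = a ∨ u = a * z) :
    centralizer ({t} : Set G) ⊓ centralizer ({u} : Set G) = sixteen z t := by
  obtain ⟨g, hg⟩ := isConj_iff.1 (p.conj_triple hu)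
  have h' : Hyp u (cj g Q) := hg ▸ p.hyp.conj g
  have htu : t ∈ centralizer ({u} : Set G) :=
    mem_centralizer_singleton_iff.2 (p.four_cases' hu).2.2.2.symm
  have hout : Out u (cj g Q) t := by
    refine ⟨htu, fun hq => ?_, p.out.2.2⟩
    refine (p.hyp.classes p.out).1 ((p.conj_triple hu).trans ?_)
    by_cases e : t = u
    · rw [e]
    · exact h'.conj_z hq p.out.2.2 p.out.ne_one e
  refine (eq_of_le_of_card_ge (show sixteen z t ≤ _ from fun x (hx : x ∈ sixteen z t) => mem_inf.2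
    ⟨hx.2, mem_centralizer_singleton_iff.2 ?_⟩) ?_).symm
  · rcases hu with rfl | rfl | rfl
    · exact mem_centralizer_singleton_iff.1 hx.1
    · exact p.cent x hx
    · exact (p.hyp.centralizer_mul_z hx.1).2 (p.cent x hx)
  · rw [inf_comm, (h'.outer_class hout).1, p.card_sixteen]

theorem ncard_triple : ({z, a, a * z} : Set G).ncard = 3 := by
  have n3 : a * z ≠ a := fun e => p.hyp.z_ne (mul_eq_left.1 e)
  rw [Set.ncard_insert_of_notMem, Set.ncard_pair n3.symm]
  simp only [Set.mem_insert_iff, Set.mem_singleton_iff, not_or]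
  exact ⟨p.ne_z.symm, fun e => p.ne_one (mul_eq_right.1 e.symm)⟩

/-- The four-group of the triple. -/
theorem triple_closed {u v : G} (hu : u = z ∨ u = a ∨ u = a * z) (hv : v = z ∨ v = a ∨ v = a * z)
    (hne : u ≠ v) : (u * v = z ∨ u * v = a ∨ u * v = a * z) ∧ u * v ≠ u ∧ u * v ≠ v := by
  obtain ⟨huQ, huu, hu1, hut⟩ := p.four_cases' hu
  obtain ⟨hvQ, hvv, hv1, hvt⟩ := p.four_cases' hv
  refine ⟨((p.fours _).1 ⟨mul_mem huQ hvQ, by rw [mul_assoc, hvt, ← mul_assoc, hut, mul_assoc]⟩).resolve_left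
    fun e => hne ?_, fun e => hv1 (mul_eq_left.1 e), fun e => hu1 (mul_eq_right.1 e)⟩
  calc u = u * v * v := by rw [mul_assoc, hvv, mul_one]
    _ = v := by rw [e, one_mul]

/-- A group fixing the triple acts on it through a group of order dividing six. -/
theorem card_dvd_of_permutes {N : Subgroup G} (hWN : sixteen z t ≤ N) (hNH : N ≤ centralizer ({t} : Set G))
    (hperm : ∀ n ∈ N, ∀ u, (u = z ∨ u = a ∨ u = a * z) →
      (n * u * n⁻¹ = z ∨ n * u * n⁻¹ = a ∨ n * u * n⁻¹ = a * z)) :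
    Nat.card N ∣ 96 := by
  classical
  let T : Set G := {z, a, a * z}
  have hT : ∀ {u : G}, u ∈ T ↔ (u = z ∨ u = a ∨ u = a * z) := fun {u} => by simp [T]
  letI : MulAction N T :=
    { smul := fun n u => ⟨(n : G) * u.1 * (n : G)⁻¹, hT.2 (hperm n n.2 u.1 (hT.1 u.2))⟩
      one_smul := fun u => Subtype.ext (by show ((1 : N) : G) * u.1 * ((1 : N) : G)⁻¹ = u.1; simp)
      mul_smul := fun n m u => Subtype.ext (by
        show ((n * m : N) : G) * u.1 * ((n * m : N) : G)⁻¹ = (n : G) * ((m : G) * u.1 * (m : G)⁻¹) * (n : G)⁻¹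
        rw [coe_mul]; group) }
  let ψ := MulAction.toPermHom N T
  have hker : ψ.ker = (sixteen z t).subgroupOf N := by
    ext n
    rw [MonoidHom.mem_ker, mem_subgroupOf]
    constructor
    · intro e
      have e' : (n : G) * z * (n : G)⁻¹ = z :=
        congrArg Subtype.val (Equiv.congr_fun e ⟨z, hT.2 (Or.inl rfl)⟩ :)
      exact ⟨mem_centralizer_singleton_iff.2 (mul_inv_eq_iff_eq_mul.1 e'), hNH n.2⟩
    · intro hn
      refine Equiv.ext fun u => Subtype.ext ?_
      have hu := hT.1 u.2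
      show (n : G) * u.1 * (n : G)⁻¹ = u.1
      rw [p.comm n hn u.1 (p.triple_mem_sixteen hu), mul_inv_cancel_right]
  have h1 := ψ.ker.card_mul_index
  have h2 : ψ.ker.index ∣ 6 := by
    rw [index_ker]
    have := card_subgroup_dvd_card ψ.range
    rw [Nat.card_perm, Nat.card_coe_set_eq, p.ncard_triple] at this
    simpa [Nat.factorial] using this
  rw [hker, Nat.card_congr (subgroupOfEquivOfLe hWN).toEquiv, p.card_sixteen] at h1
  rw [← h1, show 96 = 16 * 6 from rfl]
  exact mul_dvd_mul_left 16 (hker ▸ h2)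

/-- The sixteen form a Sylow 2-subgroup of the centralizer. -/
theorem not_thirtytwo_dvd : ¬ 32 ∣ Nat.card (centralizer ({t} : Set G)) := by
  classical
  haveI : Fact (Nat.Prime 2) := ⟨Nat.prime_two⟩
  set H := centralizer ({t} : Set G)
  set W := sixteen z t
  intro hdvd
  have hWH : W ≤ H := inf_le_right
  have hWp : IsPGroup 2 (W.subgroupOf H) :=
    IsPGroup.of_card (n := 4) (by rw [Nat.card_congr (subgroupOfEquivOfLe hWH).toEquiv, p.card_sixteen]; rfl)
  obtain ⟨S, hS⟩ := hWp.exists_le_sylow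
  haveI : Group.IsNilpotent (S : Subgroup H) := S.isPGroup'.isNilpotent
  have hlt : (W.subgroupOf H).subgroupOf (S : Subgroup H) < ⊤ := by
    refine lt_top_iff_ne_top.2 fun e => ?_
    have hle : (S : Subgroup H) ≤ W.subgroupOf H := subgroupOf_eq_top.1 e
    have h32 : 32 ∣ Nat.card (S : Subgroup H) := by
      refine Nat.Coprime.dvd_of_dvd_mul_right (n := (S : Subgroup H).index) ?_ ?_
      · exact Nat.Coprime.pow_left 5 ((Nat.Prime.coprime_iff_not_dvd Nat.prime_two).2 S.not_dvd_index)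
      · rw [(S : Subgroup H).card_mul_index]; exact hdvd
    have := card_dvd_of_le hle
    rw [Nat.card_congr (subgroupOfEquivOfLe hWH).toEquiv, p.card_sixteen] at this
    exact absurd (h32.trans this) (by norm_num)
  obtain ⟨s, hsN, hsW⟩ := SetLike.exists_of_lt (normalizerCondition_of_isNilpotent _ hlt)
  have hnorm : ∀ b ∈ W, ((s : H) : G) * b * ((s : H) : G)⁻¹ ∈ W := fun b hb => by
    have := (mem_normalizer_iff.1 hsN ⟨⟨b, hWH hb⟩, hS (mem_subgroupOf.2 hb)⟩).1
      (mem_subgroupOf.2 (mem_subgroupOf.2 hb))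
    exact mem_subgroupOf.1 (mem_subgroupOf.1 this)
  let T : Set G := {z, a, a * z}
  have hT : ∀ {u : G}, u ∈ T ↔ (u = z ∨ u = a ∨ u = a * z) := fun {u} => by simp [T]
  have hmap : ∀ u ∈ T, ((s : H) : G) * u * ((s : H) : G)⁻¹ ∈ T := fun u hu => hT.2 (p.z_type_iff.1
    ⟨hnorm u (p.triple_mem_sixteen (hT.1 hu)), (p.conj_triple (hT.1 hu)).trans (isConj_iff.2 ⟨_, rfl⟩)⟩)
  letI : Fintype T := Fintype.ofFinite T
  let σ : Equiv.Perm T := Equiv.ofBijective (fun u => ⟨_, hmap u.1 u.2⟩)
    (Finite.injective_iff_bijective.1 fun u v e => Subtype.ext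
      (mul_left_cancel (mul_right_cancel (Subtype.mk.inj e))))
  obtain ⟨k, hk⟩ := S.isPGroup' s
  have hσpow : ∀ (n : ℕ) (u : T), ((σ ^ n) u).1 = ((s : H) : G) ^ n * u.1 * (((s : H) : G) ^ n)⁻¹ := by
    intro n
    induction n with
    | zero => simp
    | succ n ih =>
      intro u
      rw [pow_succ', Equiv.Perm.mul_apply]
      show ((s : H) : G) * ((σ ^ n) u).1 * ((s : H) : G)⁻¹ = _
      rw [ih, pow_succ']; group
  have hsk : ((s : H) : G) ^ (2 ^ k) = 1 := congrArg (fun w : (S : Subgroup H) => ((w : H) : G)) hk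
  have hσk : σ ^ (2 ^ k) = 1 := Equiv.ext fun u => Subtype.ext (by rw [hσpow, hsk]; simp)
  have hmod := Equiv.Perm.card_compl_support_modEq (p := 2) (n := k) (σ := σ) hσk
  have h3 : Fintype.card T = 3 := by
    rw [← Nat.card_eq_fintype_card, Nat.card_coe_set_eq, p.ncard_triple]
  rw [h3] at hmod
  obtain ⟨u, hu⟩ : σ.supportᶜ.Nonempty := Finset.card_pos.1 (by
    rcases Nat.eq_zero_or_pos σ.supportᶜ.card with h0 | h0
    · rw [h0] at hmod; exact absurd hmod (by decide)
    · exact h0)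
  rw [Finset.mem_compl, Equiv.Perm.notMem_support] at hu
  have hfix : ((s : H) : G) * u.1 * ((s : H) : G)⁻¹ = u.1 := congrArg Subtype.val hu
  have hin : ((s : H) : G) ∈ H ⊓ centralizer ({u.1} : Set G) :=
    ⟨(s : H).2, mem_centralizer_singleton_iff.2 (mul_inv_eq_iff_eq_mul.1 hfix)⟩
  rw [p.centralizer_triple (hT.1 u.2)] at hin
  exact hsW (mem_subgroupOf.2 (mem_subgroupOf.2 hin))

theorem card_le_of_permutes {N : Subgroup G} (hWN : sixteen z t ≤ N) (hNH : N ≤ centralizer ({t} : Set G))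
    (hperm : ∀ n ∈ N, ∀ u, (u = z ∨ u = a ∨ u = a * z) →
      (n * u * n⁻¹ = z ∨ n * u * n⁻¹ = a ∨ n * u * n⁻¹ = a * z)) :
    Nat.card N = 16 ∨ Nat.card N = 48 := by
  have h1 := p.card_dvd_of_permutes hWN hNH hperm
  have h2 := card_dvd_of_le hWN
  have h3 : ¬ 32 ∣ Nat.card N := fun e => p.not_thirtytwo_dvd (e.trans (card_dvd_of_le hNH))
  rw [p.card_sixteen] at h2
  obtain ⟨k, hk⟩ := h2
  have hk6 : k ∣ 6 := Nat.dvd_of_mul_dvd_mul_left (by norm_num : 0 < 16) (hk ▸ h1)
  have : k ≤ 6 := Nat.le_of_dvd (by norm_num) hk6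
  interval_cases k <;> omega

end Pt

/-- The class of `z` is large. -/
theorem Hyp.class_large (h : Hyp z Q) {t : G} (ht : Out z Q t) :
    43 ≤ Nat.card {u : G // IsConj z u} := by
  classical
  letI := Fintype.ofFinite G
  obtain ⟨F⟩ := h.exists_frame
  obtain ⟨u, hu, huC⟩ : ∃ u, IsConj z u ∧ u * z ≠ z * u := by
    by_contra hno
    push Not at hno
    obtain ⟨g, hg⟩ := isConj_iff.1 (h.conj_z (F.mem 0) (F.inv 0) (F.ne_one 0) (F.ne_z 0))
    have e := hno (g⁻¹ * F.p 1 * g)
      ((h.conj_z (F.mem 1) (F.inv 1) (F.ne_one 1) (F.ne_z 1)).trans (isConj_iff.2 ⟨g⁻¹, by group⟩))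
    refine F.noncomm 0 1 (by decide) ?_
    calc F.p 0 * F.p 1 = g * (z * (g⁻¹ * F.p 1 * g)) * g⁻¹ := by rw [← hg]; group
      _ = g * (g⁻¹ * F.p 1 * g * z) * g⁻¹ := by rw [e]
      _ = _ := by rw [← hg]; group
  set C := centralizer ({z} : Set G)
  set X := C ⊓ centralizer ({u} : Set G)
  have hzX : z ∉ X := fun e => huC (mem_centralizer_singleton_iff.1 e.2).symm
  have hcard : Nat.card X ≤ 60 := by
    have hQX : ∀ q ∈ X ⊓ Q, q = 1 ∨ ∃ k, q = F.p k ∨ q = F.p k * z := by
      rintro q ⟨hqX, hq⟩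
      rcases h.sq q hq with e | e
      · rcases h.invol_cases F hq e with e | e | e
        · exact Or.inl e
        · exact absurd (e ▸ hqX) hzX
        · exact Or.inr e
      · exact absurd (e ▸ mul_mem hqX hqX) hzX
    have huniq : ∀ q ∈ X ⊓ Q, ∀ q' ∈ X ⊓ Q, q ≠ 1 → q' ≠ 1 → q' = q := by
      intro q hq q' hq' h1 h1'
      obtain ⟨k, hk⟩ := (hQX q hq).resolve_left h1
      have hqq : q * q = 1 := by
        rcases hk with e | e <;> rw [e]
        exacts [F.inv k, h.mul_z_inv (F.mem k) (F.inv k)]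
      have hzq : q ≠ z := fun e => hzX (e ▸ hq.1)
      obtain ⟨l, hl⟩ := (hQX q' hq').resolve_left h1'
      have hqq' : q' * q' = 1 := by
        rcases hl with e | e <;> rw [e]
        exacts [F.inv l, h.mul_z_inv (F.mem l) (F.inv l)]
      have hcm : q * q' = q' * q := by
        rcases h.comm q hq.2 q' hq'.2 with e | e
        · exact e
        · refine absurd ?_ hzX
          rw [show z = q * q' * (q' * q)⁻¹ by rw [e, mul_inv_cancel_right]]
          exact mul_mem (mul_mem hq.1 hq'.1) (inv_mem (mul_mem hq'.1 hq.1))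
      rcases h.commuting_invol hq.2 hqq h1 hzq hq'.2 hqq' hcm with e | e | e | e
      · exact absurd e h1'
      · exact absurd (e ▸ hq'.1) hzX
      · exact e
      · refine absurd ?_ hzX
        rw [show z = q * q' by rw [e, ← mul_assoc, hqq, one_mul]]
        exact mul_mem hq.1 hq'.1
    rw [h.card_sub F (inf_le_left : X ≤ C)]
    by_cases hb : X ⊓ Q = ⊥
    · rw [hb, card_bot, one_mul]
      exact le_trans (card_le_card_group _) AltFive.card_A.le
    · obtain ⟨q, hq, hq1⟩ := (bot_or_exists_ne_one (X ⊓ Q)).resolve_left hb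
      obtain ⟨k, hk⟩ := (hQX q hq).resolve_left hq1
      have h2 : Nat.card (X ⊓ Q : Subgroup G) ≤ 2 := by
        rw [← SetLike.coe_sort_coe, Nat.card_coe_set_eq]
        refine le_trans (Set.ncard_le_ncard (t := {1, q}) (fun r hr => ?_) (Set.toFinite _))
          (Set.ncard_insert_le _ _ |>.trans (by simp))
        by_cases e : r = 1
        · exact Or.inl e
        · exact Or.inr (huniq q hq r hr hq1 e)
      have h12 : Nat.card ((X.subgroupOf C).map F.π) ≤ 12 := by
        refine le_trans (Nat.card_le_card_of_injective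
          (fun g => (⟨g.1, ?_⟩ : {g : alternatingGroup (Fin 5) // AltFive.act g k = k}))
          (fun g g' e => Subtype.ext (Subtype.mk.inj e)))
          (by rw [Nat.card_eq_fintype_card, AltFive.stab_card])
        obtain ⟨c, hc, hce⟩ := g.2
        rw [← hce]
        have hcX : (c : G) ∈ X := mem_subgroupOf.1 hc
        have hcq : (c : G) * q * (c : G)⁻¹ = q := huniq q hq _
          (mem_inf.2 ⟨X.mul_mem (X.mul_mem hcX hq.1) (X.inv_mem hcX), h.nrm c c.2 q hq.2⟩) hq1
          (fun e => hq1 (conj_eq_one_iff.1 e))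
        refine h.act_of_commute F ?_
        rcases hk with e | e <;> rw [e] at hcq
        · exact mul_inv_eq_iff_eq_mul.1 hcq
        · exact (h.centralizer_mul_z c.2).1 (mul_inv_eq_iff_eq_mul.1 hcq)
      calc _ ≤ 2 * 12 := Nat.mul_le_mul h2 h12
        _ ≤ 60 := by norm_num
  have horb := card_orbit_mul C u
  rw [h.card_C] at horb
  change _ * Nat.card X = _ at horb
  have h32 : 32 ≤ Nat.card {y : G // ∃ c ∈ C, c * u * c⁻¹ = y} := by
    have : Nat.card {y : G // ∃ c ∈ C, c * u * c⁻¹ = y} * Nat.card X ≤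
        Nat.card {y : G // ∃ c ∈ C, c * u * c⁻¹ = y} * 60 := Nat.mul_le_mul_left _ hcard
    omega
  rw [Nat.card_eq_fintype_card, Fintype.card_subtype] at h32 ⊢
  have h11 : (Finset.univ.filter fun w : G => w ∈ Q ∧ w * w = 1 ∧ w ≠ 1).card = 11 := by
    rw [← Fintype.card_subtype, ← Nat.card_eq_fintype_card, h.card_invol]
  have hdisj : Disjoint (Finset.univ.filter fun w : G => w ∈ Q ∧ w * w = 1 ∧ w ≠ 1)
      (Finset.univ.filter fun y : G => ∃ c ∈ C, c * u * c⁻¹ = y) := by
    refine Finset.disjoint_left.2 fun w h1 h2 => ?_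
    simp only [Finset.mem_filter, Finset.mem_univ, true_and] at h1 h2
    obtain ⟨c, hc, rfl⟩ := h2
    have := h.nrm _ (inv_mem hc) _ h1.1
    exact huC (h.z_comm (by simpa [mul_assoc] using this))
  calc 43 ≤ 11 + (Finset.univ.filter fun y : G => ∃ c ∈ C, c * u * c⁻¹ = y).card := by omega
    _ = ((Finset.univ.filter fun w : G => w ∈ Q ∧ w * w = 1 ∧ w ≠ 1) ∪
        (Finset.univ.filter fun y : G => ∃ c ∈ C, c * u * c⁻¹ = y)).card := by
      rw [Finset.card_union_of_disjoint hdisj, h11]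
    _ ≤ _ := by
      refine Finset.card_le_card fun w hw => ?_
      simp only [Finset.mem_union, Finset.mem_filter, Finset.mem_univ, true_and] at hw ⊢
      rcases hw with hw | ⟨c, -, rfl⟩
      · exact ((h.conj_mem_iff ht).2 hw).1
      · exact hu.trans (isConj_iff.2 ⟨c, rfl⟩)

/-- The centralizer of an outer involution has more conjugates of `z` than the three. -/
theorem Pt.not_small {t a : G} (p : Pt z Q t a) :
    ∃ u, IsConj z u ∧ u * t = t * u ∧ ¬ (u = z ∨ u = a ∨ u = a * z) := by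
  classical
  by_contra hno
  push Not at hno
  have hno' : ∀ u, IsConj z u → u * t = t * u → u = z ∨ u = a ∨ u = a * z := fun u h1 h2 => by
    by_contra h3
    simp only [not_or] at h3
    have := hno u h1 h2
    tauto
  set H := centralizer ({t} : Set G)
  have hct : Nat.card H = 16 ∨ Nat.card H = 48 := p.card_le_of_permutes inf_le_right le_rfl fun n hn u hu => by
    refine hno' _ ((p.conj_triple hu).trans (isConj_iff.2 ⟨n, rfl⟩)) ?_
    exact mem_centralizer_singleton_iff.1
      (mul_mem (mul_mem hn (mem_centralizer_singleton_iff.2 (p.four_cases' hu).2.2.2)) (inv_mem hn))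
  have hpairs : Nat.card {q : G × G // IsConj z q.1 ∧ IsConj t q.2 ∧ t ∈ zpowers (q.1 * q.2)} = 3 := by
    have e3 : Nat.card ↥({z, a, a * z} : Set G) = 3 := by rw [Nat.card_coe_set_eq, p.ncard_triple]
    rw [← e3]
    have hkey : ∀ u v : G, IsConj z u → IsConj t v → t ∈ zpowers (u * v) →
        (u = z ∨ u = a ∨ u = a * z) ∧ v = u * t := by
      intro u v hu hv hm
      obtain ⟨huu, hu1⟩ := conj_involution hu p.hyp.inv
      obtain ⟨hvv, hv1⟩ := conj_involution hv p.out.order
      obtain ⟨hut, hvt⟩ := commute_of_mem_zpowers huu hvv hm p.out.2.2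
      have huT := hno' u hu hut
      refine ⟨huT, ?_⟩
      set u' := v * u * v⁻¹
      have hu'T : u' = z ∨ u' = a ∨ u' = a * z := hno' u' (hu.trans (isConj_iff.2 ⟨v, rfl⟩))
        (mem_centralizer_singleton_iff.1 (mul_mem (mul_mem (mem_centralizer_singleton_iff.2 hvt)
          (mem_centralizer_singleton_iff.2 hut)) (inv_mem (mem_centralizer_singleton_iff.2 hvt))))
      have hsq : (u * v) ^ 2 = u * u' := HallJanko.comm_square huu hvv
      obtain ⟨k, hk⟩ := mem_zpowers_iff.1 hm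
      have hsq1 : u * v * (u * v) = 1 := by
        by_contra hne
        rw [pow_two] at hsq
        rw [hsq] at hne
        have hne' : u ≠ u' := fun e => hne (by rw [← e, huu])
        obtain ⟨hT', -, -⟩ := p.triple_closed huT hu'T hne'
        obtain ⟨hQ', h2', -, -⟩ := p.four_cases' hT'
        rcases Int.even_or_odd' k with ⟨m, rfl | rfl⟩
        · rw [zpow_mul, zpow_two, hsq] at hk
          exact p.out.2.1 (hk ▸ zpow_mem hQ' m)
        · rw [zpow_add, zpow_mul, zpow_two, hsq, zpow_one] at hk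
          have hmem : u * v ∈ centralizer ({z} : Set G) ⊓ centralizer ({t} : Set G) := by
            have : u * v = (((u * u') : G) ^ m)⁻¹ * t := by rw [← hk]; group
            rw [this]
            exact mul_mem (inv_mem (zpow_mem (p.triple_mem_sixteen hT') m)) p.t_mem_sixteen
          exact hne (hsq ▸ p.elem _ hmem)
      rcases Int.even_or_odd' k with ⟨m, rfl | rfl⟩
      · rw [zpow_mul, zpow_two, hsq1, one_zpow] at hk; exact absurd hk.symm p.out.ne_one
      · rw [zpow_add, zpow_mul, zpow_two, hsq1, one_zpow, one_mul, zpow_one] at hk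
        calc v = u * (u * v) := by rw [← mul_assoc, huu, one_mul]
          _ = u * t := by rw [hk]
    refine Nat.card_congr
      { toFun := fun q => ⟨q.1.1, by simpa using (hkey _ _ q.2.1 q.2.2.1 q.2.2.2).1⟩
        invFun := fun u => ⟨(u.1, u.1 * t), ?_⟩
        left_inv := fun q => Subtype.ext (Prod.ext rfl (hkey _ _ q.2.1 q.2.2.1 q.2.2.2).2.symm)
        right_inv := fun u => rfl }
    have hu : u.1 = z ∨ u.1 = a ∨ u.1 = a * z := u.2
    obtain ⟨huQ, huu, hu1, hut⟩ := p.four_cases' hu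
    refine ⟨p.conj_triple hu, ((p.hyp.out_iff p.out).2 ⟨mul_mem (p.hyp.le huQ) p.out.1, fun hm => p.out.2.1 ?_,
      ?_⟩).1, ?_⟩
    · simpa using mul_mem (inv_mem huQ) hm
    · rw [show u.1 * t * (u.1 * t) = u.1 * (t * u.1) * t by group, ← hut,
        show u.1 * (u.1 * t) * t = u.1 * u.1 * (t * t) by group, huu, p.out.2.2, one_mul]
    · show t ∈ zpowers (u.1 * (u.1 * t))
      rw [← mul_assoc, huu, one_mul]
      exact mem_zpowers t
  have hG := p.hyp.order_formula p.out
  rw [hpairs] at hG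
  have hn := card_isConj_mul z
  rw [p.hyp.card_C] at hn
  have hl := p.hyp.class_large p.out
  rcases hct with e | e <;> rw [e] at hG <;> omega

end CfsgLib.Invol.JTwo
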