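import Cfsg.Agent.Lib.Invol.JTwo.AltFive
import Cfsg.Agent.Lib.Invol.HallJankoCount
import Cfsg.Agent.Lib.Invol.FourCentralizer

/-!
# The centralizer of an involution in a group of Hall–Janko type

The five singular points of the extraspecial normal subgroup and the induced action of the
alternating group of degree five on them.
-/

set_option autoImplicit false

namespace CfsgLib.Invol.JTwo

open Subgroup

local notation "A" => alternatingGroup (Fin 5)

variable {G : Type*} [Group G]

/-- The centralizer part of the Hall–Janko hypothesis at an involution. -/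
structure PreHyp (z : G) (Q : Subgroup G) : Prop where
  inv : orderOf z = 2
  le : Q ≤ centralizer ({z} : Set G)
  nrm : ∀ c ∈ centralizer ({z} : Set G), ∀ a ∈ Q, c * a * c⁻¹ ∈ Q
  card : Nat.card Q = 32
  zmem : z ∈ Q
  comm : ∀ a ∈ Q, ∀ b ∈ Q, a * b = b * a ∨ a * b = z * (b * a)
  sq : ∀ a ∈ Q, a * a = 1 ∨ a * a = z
  cen : ∀ a ∈ Q, (∀ b ∈ Q, a * b = b * a) → a = 1 ∨ a = z
  self : ∀ c ∈ centralizer ({z} : Set G), (∀ a ∈ Q, c * a = a * c) → c ∈ Q
  quot : ∃ φ : ↥(centralizer ({z} : Set G)) →* A, Function.Surjective φ ∧ ∀ c, φ c = 1 ↔ (c : G) ∈ Q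

/-- The Hall–Janko hypothesis at an involution. -/
structure Hyp (z : G) (Q : Subgroup G) : Prop extends PreHyp z Q where
  nwc : ∃ a ∈ Q, a ≠ z ∧ IsConj z a
  two : ∃ x y : G, orderOf x = 2 ∧ orderOf y = 2 ∧ ¬ IsConj x y

/-- The five points and the action on them. -/
structure Frame (z : G) (Q : Subgroup G) where
  /-- representatives of the singular points -/
  p : Fin 5 → G
  /-- the action -/
  π : ↥(centralizer ({z} : Set G)) →* A
  mem : ∀ i, p i ∈ Q
  inv : ∀ i, p i * p i = 1
  ne_one : ∀ i, p i ≠ 1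
  ne_z : ∀ i, p i ≠ z
  noncomm : ∀ i j, i ≠ j → p i * p j ≠ p j * p i
  all : ∀ u ∈ Q, u * u = 1 → u ≠ 1 → u ≠ z → ∃ i, u = p i ∨ u = p i * z
  surj : Function.Surjective π
  ker : ∀ c : ↥(centralizer ({z} : Set G)), π c = 1 ↔ (c : G) ∈ Q
  equi : ∀ (c : ↥(centralizer ({z} : Set G))) i, (c : G) * p i * (c : G)⁻¹ = p (AltFive.act (π c) i) ∨
    (c : G) * p i * (c : G)⁻¹ = p (AltFive.act (π c) i) * z
  sep : ∀ q ∈ Q, (∀ i, q * p i = p i * q) → q = 1 ∨ q = z

namespace PreHyp

variable {z : G} {Q : Subgroup G} (h : PreHyp z Q)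
include h

theorem zz : z * z = 1 := invol_mul_self h.inv

theorem z_ne : z ≠ 1 := invol_ne_one h.inv

theorem z_mem_C : z ∈ centralizer ({z} : Set G) := mem_centralizer_singleton_iff.2 rfl

theorem z_comm {a : G} (ha : a ∈ Q) : a * z = z * a := mem_centralizer_singleton_iff.1 (h.le ha)

/-- The sign rule. -/
theorem mul_comm_iff {a b x : G} (ha : a ∈ Q) (hb : b ∈ Q) (hx : x ∈ Q) :
    a * b * x = x * (a * b) ↔ (a * x = x * a ↔ b * x = x * b) := by
  have hza := h.z_comm ha
  have key : ∀ s r : G, a * r = r * a → a * x = s * (x * a) → b * x = r * (x * b) →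
      a * b * x = r * s * (x * (a * b)) := by
    intro s r hr e1 e2
    calc a * b * x = a * (b * x) := mul_assoc _ _ _
      _ = (a * r) * x * b := by rw [e2]; group
      _ = r * (a * x) * b := by rw [hr]; group
      _ = r * s * (x * (a * b)) := by rw [e1]; group
  have hne : ∀ c : G, c ≠ z * c := fun c e => h.z_ne (mul_eq_right.1 e.symm)
  rcases h.comm a ha x hx with ea | ea <;> rcases h.comm b hb x hx with eb | eb
  · refine ⟨fun _ => iff_of_true ea eb, fun _ => ?_⟩
    have := key 1 1 (by simp) (by simpa using ea) (by simpa using eb)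
    simpa using this
  · have e := key 1 z hza (by simpa using ea) eb
    rw [mul_one] at e
    have nb : ¬ b * x = x * b := fun c => hne _ (c.symm.trans eb)
    exact ⟨fun c => absurd (c.symm.trans e) (hne _), fun c => absurd (c.1 ea) nb⟩
  · have e := key z 1 (by simp) ea (by simpa using eb)
    rw [one_mul] at e
    have na : ¬ a * x = x * a := fun c => hne _ (c.symm.trans ea)
    exact ⟨fun c => absurd (c.symm.trans e) (hne _), fun c => absurd (c.2 eb) na⟩
  · have e := key z z hza ea eb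
    rw [h.zz, one_mul] at e
    exact ⟨fun _ => iff_of_false (fun c => hne _ (c.symm.trans ea)) (fun c => hne _ (c.symm.trans eb)),
      fun _ => e⟩

theorem card_C [Finite G] : Nat.card (centralizer ({z} : Set G)) = 1920 := by
  obtain ⟨φ, hs, hk⟩ := h.quot
  have hker : φ.ker = Q.subgroupOf (centralizer ({z} : Set G)) := by
    ext c; rw [MonoidHom.mem_ker, hk, mem_subgroupOf]
  rw [← φ.ker.card_mul_index, Subgroup.index_ker, MonoidHom.range_eq_top.2 hs, card_top,
    AltFive.card_A, hker, Nat.card_congr (subgroupOfEquivOfLe h.le).toEquiv, h.card]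

theorem eq_of_pow {f : G} {n : ℕ} {a : G} (hn : n.Coprime 5) (hf5 : f ^ 5 = 1)
    (hc : f ^ n * a = a * f ^ n) : f * a = a * f := by
  obtain ⟨m, hm⟩ : ∃ m, (f ^ n) ^ m = f := by
    refine exists_pow_eq_self_of_coprime ?_
    exact Nat.Coprime.coprime_dvd_right (orderOf_dvd_of_pow_eq_one hf5) hn
  have : Commute ((f ^ n) ^ m) a := (show Commute (f ^ n) a from hc).pow_left m
  rwa [hm] at this

theorem five_elt [Finite G] : ∃ f ∈ centralizer ({z} : Set G), orderOf f = 5 ∧
    ∀ a ∈ Q, f * a = a * f → a = 1 ∨ a = z := by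
  haveI : Fact (Nat.Prime 5) := ⟨Nat.prime_five⟩
  letI := Fintype.ofFinite G
  obtain ⟨f₀, hf₀⟩ := exists_prime_orderOf_dvd_card' (G := ↥(centralizer ({z} : Set G))) 5
    (by rw [h.card_C]; norm_num)
  set f : G := (f₀ : G) with hfdef
  have hf5 : orderOf f = 5 := by rw [hfdef, Subgroup.orderOf_coe, hf₀]
  have hfC : f ∈ centralizer ({z} : Set G) := f₀.2
  refine ⟨f, hfC, hf5, ?_⟩
  let W : Subgroup G := Q ⊓ centralizer {f}
  obtain ⟨m, hm⟩ := IsPGroup.iff_card.1
    ((IsPGroup.of_card (p := 2) (n := 5) (by rw [h.card]; norm_num)).to_le (inf_le_left : W ≤ Q))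
  letI : MulAction (zpowers f) Q :=
    { smul := fun g a => ⟨(g : G) * a * (g : G)⁻¹, h.nrm _ ((zpowers_le.2 hfC) g.2) a a.2⟩
      one_smul := fun a => Subtype.ext (by show (1 : G) * a * (1 : G)⁻¹ = a; group)
      mul_smul := fun g g' a => Subtype.ext (by
        show (g : G) * g' * a * ((g : G) * g')⁻¹ = (g : G) * ((g' : G) * a * (g' : G)⁻¹) * (g : G)⁻¹
        group) }
  have hmod := (IsPGroup.of_card (p := 5) (n := 1) (G := zpowers f)
    (by rw [Nat.card_zpowers, hf5, pow_one])).card_modEq_card_fixedPoints Q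
  have hWfix : Nat.card (MulAction.fixedPoints (zpowers f) Q) = Nat.card W := Nat.card_congr
    { toFun := fun a => ⟨a.1.1, a.1.2, mem_centralizer_singleton_iff.2 (by
        have h : f * (a.1 : G) * f⁻¹ = a.1 := congrArg Subtype.val (a.2 ⟨f, mem_zpowers f⟩)
        exact (mul_inv_eq_iff_eq_mul.1 h).symm)⟩
      invFun := fun w => ⟨⟨w.1, w.2.1⟩, fun g => Subtype.ext (by
        show (g : G) * w.1 * (g : G)⁻¹ = w.1
        obtain ⟨i, hi⟩ := mem_zpowers_iff.1 g.2
        rw [← hi, (show Commute f w.1 from (mem_centralizer_singleton_iff.1 w.2.2).symm).zpow_left i,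
          mul_inv_cancel_right])⟩
      left_inv := fun a => rfl
      right_inv := fun w => rfl }
  rw [h.card, hWfix, hm] at hmod
  have hm5 : m ≤ 5 := by
    have hc := card_le_of_le (inf_le_left : W ≤ Q)
    rw [hm, h.card] at hc
    by_contra hlt
    have := Nat.pow_le_pow_right (show 2 > 0 by norm_num) (show 6 ≤ m by omega)
    omega
  have hm15 : m = 1 ∨ m = 5 := by interval_cases m <;> simp_all [Nat.ModEq]
  rcases hm15 with rfl | rfl
  · intro a ha hfa
    let Z : Subgroup G := zpowers z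
    have hZW : Z ≤ W := zpowers_le.2 ⟨h.zmem, mem_centralizer_singleton_iff.2
      (mem_centralizer_singleton_iff.1 hfC).symm⟩
    have hWZ : W = Z := (eq_of_le_of_card_ge hZW (by rw [hm, Nat.card_zpowers, h.inv]; norm_num)).symm
    have haW : a ∈ Z := hWZ ▸ (⟨ha, mem_centralizer_singleton_iff.2 hfa.symm⟩ : a ∈ W)
    obtain ⟨k, hk⟩ := mem_zpowers_iff.1 haW
    rw [← hk]
    rcases Int.even_or_odd' k with ⟨l, rfl | rfl⟩
    · left; rw [zpow_mul, zpow_two, h.zz, one_zpow]
    · right; rw [zpow_add, zpow_mul, zpow_two, h.zz, one_zpow, one_mul, zpow_one]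
  · exfalso
    have hWQ : W = Q := eq_of_le_of_card_ge inf_le_left (by rw [hm, h.card]; norm_num)
    have hfQ : f ∈ Q := h.self f hfC fun b hb => by
      have hb' : b ∈ W := hWQ.symm ▸ hb
      exact (mem_centralizer_singleton_iff.1 hb'.2).symm
    have := orderOf_dvd_natCard _ hfQ
    rw [h.card, hf5] at this
    norm_num at this

open Classical in
theorem exists_frame [Finite G] : Nonempty (Frame z Q) := by
  letI := Fintype.ofFinite G
  haveI : Fact (Nat.Prime 5) := ⟨Nat.prime_five⟩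
  obtain ⟨f, hfC, hfo, hfix⟩ := h.five_elt
  have hf5 : f ^ 5 = 1 := by rw [← hfo, pow_orderOf_eq_one]
  obtain ⟨h11, hline⟩ := HallJanko.invol_data h.card h.zmem h.z_ne h.zz (fun _ => h.z_comm) h.comm h.sq h.cen
    f hf5 (h.nrm f hfC) (mem_centralizer_singleton_iff.1 hfC) hfix
  obtain ⟨a, ha, haa, ha1, haz⟩ : ∃ a ∈ Q, a * a = 1 ∧ a ≠ 1 ∧ a ≠ z := by
    by_contra hne
    push Not at hne
    haveI : Subsingleton {a : G // a ∈ Q ∧ a * a = 1 ∧ a ≠ 1} := ⟨fun u v => Subtype.ext
      ((hne u.1 u.2.1 u.2.2.1 u.2.2.2).trans (hne v.1 v.2.1 v.2.2.1 v.2.2.2).symm)⟩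
    have := Finite.card_le_one_iff_subsingleton.2 this
    omega
  have hfpC : ∀ n : ℕ, f ^ n ∈ centralizer ({z} : Set G) := fun n => pow_mem hfC n
  let P : ℕ → G := fun n => f ^ n * a * (f ^ n)⁻¹
  have hPQ : ∀ n, P n ∈ Q := fun n => h.nrm _ (hfpC n) a ha
  have hP2 : ∀ n, P n * P n = 1 := fun n => by
    calc P n * P n = f ^ n * (a * a) * (f ^ n)⁻¹ := by
          show f ^ n * a * (f ^ n)⁻¹ * (f ^ n * a * (f ^ n)⁻¹) = _; group
      _ = 1 := by rw [haa]; group
  have hP1 : ∀ n, P n ≠ 1 := fun n e => ha1 (conj_eq_one_iff.1 e)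
  have hfz : ∀ n, f ^ n * z * (f ^ n)⁻¹ = z := fun n => by
    rw [mem_centralizer_singleton_iff.1 (hfpC n), mul_inv_cancel_right]
  have hPz : ∀ n, P n ≠ z := fun n e => haz (mul_left_cancel (mul_right_cancel (e.trans (hfz n).symm)))
  have hmod : ∀ n, P n = P (n % 5) := fun n => by
    show f ^ n * a * (f ^ n)⁻¹ = _
    rw [← Nat.div_add_mod n 5, pow_add, pow_mul, hf5, one_pow, one_mul, Nat.div_add_mod]
  have hfixk : ∀ n : ℕ, n.Coprime 5 → P n ≠ a ∧ P n ≠ a * z := by
    intro n hn
    refine ⟨fun e => ?_, fun e => ?_⟩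
    · exact (hfix a ha (h.eq_of_pow hn hf5 (mul_inv_eq_iff_eq_mul.1 e))).elim ha1 haz
    · have e2 : P (2 * n) = a := by
        show f ^ (2 * n) * a * (f ^ (2 * n))⁻¹ = a
        calc f ^ (2 * n) * a * (f ^ (2 * n))⁻¹ = f ^ n * (f ^ n * a * (f ^ n)⁻¹) * (f ^ n)⁻¹ := by
              rw [two_mul, pow_add]; group
          _ = f ^ n * a * z * (f ^ n)⁻¹ := by rw [show f ^ n * a * (f ^ n)⁻¹ = a * z from e]; group
          _ = (f ^ n * a * (f ^ n)⁻¹) * (f ^ n * z * (f ^ n)⁻¹) := by group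
          _ = a := by rw [show f ^ n * a * (f ^ n)⁻¹ = a * z from e, hfz, mul_assoc, h.zz, mul_one]
      exact (hfix a ha (h.eq_of_pow (Nat.Coprime.mul_left (by norm_num) hn) hf5
        (mul_inv_eq_iff_eq_mul.1 e2))).elim ha1 haz
  let p : Fin 5 → G := fun i => P i
  have hdiff : ∀ i j : Fin 5, i ≠ j → p i ≠ p j ∧ p i ≠ p j * z := by
    intro i j hij
    let d : ℕ := (i : ℕ) + 5 - j
    have hd : d.Coprime 5 := by
      refine (Nat.Coprime.symm ((Nat.Prime.coprime_iff_not_dvd Nat.prime_five).2 fun hdv => hij ?_))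
      apply Fin.ext
      have := i.2; have := j.2
      obtain ⟨k, hk⟩ := hdv
      omega
    have key : ∀ u : G, P i = f ^ (j : ℕ) * u * (f ^ (j : ℕ))⁻¹ → P d = u := by
      intro u hu
      have e : P ((j : ℕ) + d) = P i := by
        rw [hmod, hmod i, show ((j : ℕ) + d) % 5 = (i : ℕ) % 5 by have := j.2; omega]
      have e' : f ^ (j : ℕ) * P d * (f ^ (j : ℕ))⁻¹ = f ^ (j : ℕ) * u * (f ^ (j : ℕ))⁻¹ := by
        rw [← hu, ← e]
        show _ = f ^ ((j : ℕ) + d) * a * (f ^ ((j : ℕ) + d))⁻¹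
        rw [pow_add]; show f ^ (j : ℕ) * (f ^ d * a * (f ^ d)⁻¹) * (f ^ (j : ℕ))⁻¹ = f ^ (j : ℕ) * f ^ d * a * (f ^ (j : ℕ) * f ^ d)⁻¹; group
      exact mul_left_cancel (mul_right_cancel e')
    refine ⟨fun e => (hfixk d hd).1 (key a e), fun e => (hfixk d hd).2 (key (a * z) ?_)⟩
    calc P i = f ^ (j : ℕ) * a * (f ^ (j : ℕ))⁻¹ * z := e
      _ = f ^ (j : ℕ) * a * (f ^ (j : ℕ))⁻¹ * (f ^ (j : ℕ) * z * (f ^ (j : ℕ))⁻¹) := by rw [hfz]
      _ = _ := by group
  have hnc : ∀ i j : Fin 5, i ≠ j → p i * p j ≠ p j * p i := by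
    intro i j hij e
    rcases hline _ (hPQ i) _ (hPQ j) (hP2 i) (hP2 j) (hP1 i) (hP1 j) (hPz i) (hPz j) e with e' | e'
    · exact (hdiff i j hij).1 e'.symm
    · exact (hdiff j i hij.symm).2 e'
  -- all noncentral involutions
  have hall : ∀ u ∈ Q, u * u = 1 → u ≠ 1 → u ≠ z → ∃ i, u = p i ∨ u = p i * z := by
    have hpz : ∀ i, p i * z ∈ Q ∧ p i * z * (p i * z) = 1 ∧ p i * z ≠ 1 ∧ p i * z ≠ z := fun i =>
      ⟨mul_mem (hPQ i) h.zmem, by
        calc p i * z * (p i * z) = p i * (z * p i) * z := by group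
          _ = p i * p i * (z * z) := by show _ = p i * p i * (z * z); rw [← h.z_comm (show p i ∈ Q from hPQ i)]; group
          _ = 1 := by rw [hP2, h.zz, one_mul],
        fun e => hPz i (by
          calc p i = p i * z * z := by rw [mul_assoc, h.zz, mul_one]
            _ = z := by rw [e, one_mul]),
        fun e => hP1 i (mul_eq_right.1 e)⟩
    let g : Option (Fin 5 × Bool) → {u : G // u ∈ Q ∧ u * u = 1 ∧ u ≠ 1} := fun o => match o with
      | none => ⟨z, h.zmem, h.zz, h.z_ne⟩
      | some (i, false) => ⟨p i, hPQ i, hP2 i, hP1 i⟩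
      | some (i, true) => ⟨p i * z, (hpz i).1, (hpz i).2.1, (hpz i).2.2.1⟩
    have hgi : Function.Injective g := by
      have hself : ∀ i, p i ≠ p i * z := fun i e => h.z_ne (mul_eq_left.1 e.symm)
      rintro (_ | ⟨i, _ | _⟩) (_ | ⟨j, _ | _⟩) e <;> replace e := congrArg Subtype.val e <;>
        simp only [g] at e
      · rfl
      · exact absurd e.symm (hPz j)
      · exact absurd e.symm (hpz j).2.2.2
      · exact absurd e (hPz i)
      · by_cases hij : i = j
        · rw [hij]
        · exact absurd e (hdiff i j hij).1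
      · by_cases hij : i = j
        · subst hij; exact absurd e (hself i)
        · exact absurd e (hdiff i j hij).2
      · exact absurd e (hpz i).2.2.2
      · by_cases hij : i = j
        · subst hij; exact absurd e.symm (hself i)
        · exact absurd e.symm (hdiff j i (Ne.symm hij)).2
      · rw [mul_right_cancel_iff] at e
        by_cases hij : i = j
        · rw [hij]
        · exact absurd e (hdiff i j hij).1
    have hgb := (Nat.bijective_iff_injective_and_card g).2
      ⟨hgi, by rw [h11, Nat.card_eq_fintype_card]; simp⟩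
    intro u hu hu2 hu1 huz
    obtain ⟨o, ho⟩ := hgb.2 ⟨u, hu, hu2, hu1⟩
    replace ho := congrArg Subtype.val ho
    rcases o with _ | ⟨i, _ | _⟩ <;> simp only [g] at ho
    · exact absurd ho.symm huz
    · exact ⟨i, Or.inl ho.symm⟩
    · exact ⟨i, Or.inr ho.symm⟩
  -- generation
  have hsep : ∀ q ∈ Q, (∀ i, q * p i = p i * q) → q = 1 ∨ q = z := by
    let P' : Subgroup G := closure (Set.range p)
    have hP'Q : P' ≤ Q := (closure_le Q).2 (by rintro _ ⟨i, rfl⟩; exact hPQ i)
    have hzP : z ∈ P' := by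
      have e := (h.comm _ (hPQ 0) _ (hPQ 1)).resolve_left (hnc 0 1 (by decide))
      have e' : z = p 0 * p 1 * (p 1 * p 0)⁻¹ := by
        show z = P 0 * P 1 * (P 1 * P 0)⁻¹
        rw [show P 0 * P 1 = z * (P 1 * P 0) from e, mul_inv_cancel_right]
      rw [e']
      exact mul_mem (mul_mem (subset_closure ⟨0, rfl⟩) (subset_closure ⟨1, rfl⟩))
        (inv_mem (mul_mem (subset_closure ⟨1, rfl⟩) (subset_closure ⟨0, rfl⟩)))
    have hfP : ∀ x ∈ P', f * x * f⁻¹ ∈ P' := by
      have : P'.map (MulAut.conj f).toMonoidHom ≤ P' := by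
        rw [MonoidHom.map_closure, closure_le]
        rintro _ ⟨_, ⟨i, rfl⟩, rfl⟩
        refine subset_closure ⟨⟨((i : ℕ) + 1) % 5, Nat.mod_lt _ (by norm_num)⟩, ?_⟩
        show P (((i : ℕ) + 1) % 5) = f * (f ^ (i : ℕ) * a * (f ^ (i : ℕ))⁻¹) * f⁻¹
        rw [← hmod]
        show f ^ ((i : ℕ) + 1) * a * (f ^ ((i : ℕ) + 1))⁻¹ = _
        rw [pow_succ']; group
      exact fun x hx => this ⟨x, hx, rfl⟩
    have hfP' : ∀ (n : ℕ) x, x ∈ P' → f ^ n * x * (f ^ n)⁻¹ ∈ P' := by
      intro n
      induction n with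
      | zero => intro x hx; simpa using hx
      | succ n ih => intro x hx; have := hfP _ (ih x hx); rw [pow_succ']; simpa [mul_assoc] using this
    letI : MulAction (zpowers f) P' :=
      { smul := fun g x => ⟨(g : G) * x * (g : G)⁻¹, by
          obtain ⟨n, hn⟩ := (isOfFinOrder_of_finite f).mem_powers_iff_mem_zpowers.2 g.2
          rw [← hn]; exact hfP' n x x.2⟩
        one_smul := fun x => Subtype.ext (by show (1 : G) * x * (1 : G)⁻¹ = x; group)
        mul_smul := fun g g' x => Subtype.ext (by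
          show (g : G) * g' * x * ((g : G) * g')⁻¹ = (g : G) * ((g' : G) * x * (g' : G)⁻¹) * (g : G)⁻¹
          group) }
    have hm := (IsPGroup.of_card (p := 5) (n := 1) (G := zpowers f)
      (by rw [Nat.card_zpowers, hfo, pow_one])).card_modEq_card_fixedPoints P'
    have hfixP : Nat.card (MulAction.fixedPoints (zpowers f) P') = 2 := by
      rw [← h.inv, ← Nat.card_zpowers z]
      refine Nat.card_congr
        { toFun := fun x => ⟨x.1.1, ?_⟩
          invFun := fun y => ⟨⟨y.1, zpowers_le.2 hzP y.2⟩, fun g => Subtype.ext ?_⟩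
          left_inv := fun x => rfl
          right_inv := fun y => rfl }
      · have e : f * (x.1 : G) * f⁻¹ = x.1 := congrArg Subtype.val (x.2 ⟨f, mem_zpowers f⟩)
        rcases hfix _ (hP'Q x.1.2) (mul_inv_eq_iff_eq_mul.1 e) with e' | e' <;> rw [e']
        · exact one_mem _
        · exact mem_zpowers z
      · show (g : G) * y.1 * (g : G)⁻¹ = y.1
        have hgC : (g : G) ∈ centralizer ({z} : Set G) := zpowers_le.2 hfC g.2
        obtain ⟨k, hk⟩ := mem_zpowers_iff.1 y.2
        rw [← hk, ((show Commute (g : G) z from mem_centralizer_singleton_iff.1 hgC).zpow_right k).eq,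
          mul_inv_cancel_right]
    rw [hfixP] at hm
    have hdvd := card_dvd_of_le hP'Q
    rw [h.card] at hdvd
    have hP32 : Nat.card P' = 32 := by
      obtain ⟨n, hn, e⟩ := (Nat.dvd_prime_pow Nat.prime_two (m := 5)).1 (show Nat.card P' ∣ 2 ^ 5 from hdvd)
      have hge : 4 < Nat.card P' := by
        -- three elements beside the identity and a noncommuting pair
        by_contra hle
        have h4 : n ≤ 2 := by
          by_contra hn3
          have := Nat.pow_le_pow_right (show 2 > 0 by norm_num) (show 3 ≤ n by omega)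
          rw [e] at hle
          omega
        haveI : IsMulCommutative P' := by
          interval_cases n
          · exact ⟨⟨fun x y => (Nat.card_eq_one_iff_unique.1 e).1.elim _ _⟩⟩
          · haveI := isCyclic_of_prime_card (α := P') (p := 2) e
            exact ⟨⟨fun x y => IsCyclic.commGroup.mul_comm x y⟩⟩
          · exact IsPGroup.isMulCommutative_of_card_eq_prime_sq (p := 2) e
        exact hnc 0 1 (by decide) (congrArg Subtype.val
          (mul_comm' (⟨p 0, subset_closure ⟨0, rfl⟩⟩ : P') ⟨p 1, subset_closure ⟨1, rfl⟩⟩))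
      rw [e] at hm hge ⊢
      interval_cases n <;> simp_all [Nat.ModEq]
    have hPeq : P' = Q := eq_of_le_of_card_ge hP'Q (by rw [hP32, h.card])
    intro q hq hc
    refine h.cen q hq fun b hb => ?_
    rw [← hPeq] at hb
    have : P' ≤ centralizer ({q} : Set G) := (closure_le _).2 (by
      rintro _ ⟨i, rfl⟩; exact mem_centralizer_singleton_iff.2 (hc i).symm)
    exact (mem_centralizer_singleton_iff.1 (this hb)).symm
  -- the action
  set C := centralizer ({z} : Set G) with hCdef
  have huniq : ∀ {i j : Fin 5} {u : G}, (u = p i ∨ u = p i * z) → (u = p j ∨ u = p j * z) → i = j := by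
    intro i j u hi hj
    by_contra hij
    rcases hi with rfl | rfl <;> rcases hj with e | e
    · exact (hdiff i j hij).1 e
    · exact (hdiff i j hij).2 e
    · exact (hdiff j i (Ne.symm hij)).2 e.symm
    · exact (hdiff i j hij).1 (mul_right_cancel e)
  have himg : ∀ (c : ↥C) (i : Fin 5), ∃ j, (c : G) * p i * (c : G)⁻¹ = p j ∨ (c : G) * p i * (c : G)⁻¹ = p j * z := by
    intro c i
    refine hall _ (h.nrm c c.2 _ (hPQ i)) ?_ (fun e => hP1 i (conj_eq_one_iff.1 e)) (fun e => hPz i ?_)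
    · calc (c : G) * p i * (c : G)⁻¹ * ((c : G) * p i * (c : G)⁻¹) = (c : G) * (p i * p i) * (c : G)⁻¹ := by group
        _ = 1 := by rw [hP2]; group
    · have hcz : (c : G) * z * (c : G)⁻¹ = z := by
        rw [mem_centralizer_singleton_iff.1 c.2, mul_inv_cancel_right]
      exact mul_left_cancel (mul_right_cancel (e.trans hcz.symm))
  choose σ hσ using himg
  have hσmul : ∀ c d i, σ (c * d) i = σ c (σ d i) := by
    intro c d i
    refine huniq (hσ (c * d) i) ?_
    rw [Subgroup.coe_mul, show (c : G) * d * p i * ((c : G) * d)⁻¹ = (c : G) * ((d : G) * p i * (d : G)⁻¹) * (c : G)⁻¹ by group]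
    rcases hσ d i with e | e <;> rw [e]
    · exact hσ c _
    · rw [show (c : G) * (p (σ d i) * z) * (c : G)⁻¹ = (c : G) * p (σ d i) * (c : G)⁻¹ * ((c : G) * z * (c : G)⁻¹) by group,
        mem_centralizer_singleton_iff.1 c.2, mul_inv_cancel_right]
      rcases hσ c (σ d i) with e' | e' <;> rw [e']
      · exact Or.inr rfl
      · exact Or.inl (by rw [mul_assoc, h.zz, mul_one])
  have hσone : ∀ i, σ 1 i = i := fun i => huniq (hσ 1 i) (Or.inl (by simp))
  let τ : ↥C →* Equiv.Perm (Fin 5) :=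
    MonoidHom.mk' (fun c => ⟨σ c, σ c⁻¹, fun i => by rw [← hσmul, inv_mul_cancel, hσone],
      fun i => by rw [← hσmul, mul_inv_cancel, hσone]⟩) fun c d => Equiv.ext fun i => hσmul c d i
  obtain ⟨φ, hφs, hφk⟩ := h.quot
  have hQτ : ∀ c : ↥C, (c : G) ∈ Q → τ c = 1 := by
    intro c hc
    refine Equiv.ext fun i => huniq (hσ c i) ?_
    rcases h.comm _ hc _ (hPQ i) with e | e
    · exact Or.inl (show (c : G) * P i * (c : G)⁻¹ = P i by rw [e, mul_inv_cancel_right])
    · exact Or.inr (show (c : G) * P i * (c : G)⁻¹ = P i * z by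
        rw [e, ← mul_assoc, ← h.z_comm (hPQ i)]; group)
  have hle : φ.ker ≤ τ.ker := fun c hc => hQτ c ((hφk c).1 hc)
  let τ' : A →* Equiv.Perm (Fin 5) := φ.liftOfSurjective hφs ⟨τ, hle⟩
  have hτ' : ∀ c, τ' (φ c) = τ c := fun c => MonoidHom.liftOfRightInverse_comp_apply φ _ _ _ c
  haveI : IsSimpleGroup A := alternatingGroup.isSimpleGroup_five
  have hinj : Function.Injective τ' := by
    rw [← MonoidHom.ker_eq_bot_iff]
    refine (IsSimpleGroup.eq_bot_or_eq_top_of_normal τ'.ker inferInstance).resolve_right fun e => ?_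
    have hp0 : τ ⟨f, hfC⟩ (0 : Fin 5) = 0 := by
      rw [← hτ', MonoidHom.mem_ker.1 (e.ge (mem_top _))]; rfl
    have e1 : σ ⟨f, hfC⟩ 0 = 1 := huniq (hσ ⟨f, hfC⟩ 0) (Or.inl (by
      show f * (f ^ 0 * a * (f ^ 0)⁻¹) * f⁻¹ = f ^ 1 * a * (f ^ 1)⁻¹; simp))
    exact absurd (e1.symm.trans hp0) (by decide)
  have hrange : τ'.range = alternatingGroup (Fin 5) := by
    refine Equiv.Perm.eq_alternatingGroup_of_index_eq_two ?_
    have := τ'.range.card_mul_index
    rw [← Nat.card_congr (MonoidHom.ofInjective hinj).toEquiv, AltFive.card_A, Nat.card_perm, Nat.card_fin] at this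
    simp only [show Nat.factorial 5 = 120 from rfl] at this
    omega
  let π : ↥C →* A := τ.codRestrict _ fun c => hrange ▸ ⟨φ c, hτ' c⟩
  refine ⟨{ p := p, π := π, mem := fun i => hPQ i, inv := fun i => hP2 i, ne_one := fun i => hP1 i,
            ne_z := fun i => hPz i, noncomm := hnc, all := hall, sep := hsep, surj := ?_, ker := ?_,
            equi := fun c i => hσ c i }⟩
  · intro g
    obtain ⟨k, hk⟩ : (g : Equiv.Perm (Fin 5)) ∈ τ'.range := hrange.ge g.2
    obtain ⟨c, rfl⟩ := hφs k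
    exact ⟨c, Subtype.ext ((hτ' c).symm.trans hk)⟩
  · intro c
    refine ⟨fun e => (hφk c).1 (hinj ?_), fun e => Subtype.ext (hQτ c e)⟩
    rw [hτ', map_one]
    exact congrArg Subtype.val e

end PreHyp

end CfsgLib.Invol.JTwo
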