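import Cfsg.Agent.Lib.Invol.JTwo.ThreeBase
import Cfsg.Agent.Lib.PGroup.MetacyclicOmega
import Cfsg.Agent.Lib.PGroup.GenExtraspecialSplit
import Cfsg.Agent.Lib.Coprime.Solvable

/-!
# The Sylow 3-subgroups and the Sylow 7-normalizer
-/

set_option autoImplicit false

namespace CfsgLib.Invol.JTwo

open Subgroup
open scoped commutatorElement

universe v

local notation "A" => alternatingGroup (Fin 5)

variable {G : Type v} [Group G] [Finite G] {z : G} {Q : Subgroup G}

/-- A Sylow 3-subgroup with its distinguished elements. -/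
structure Triad (z : G) (t ρ σ : G) (P : Sylow 3 G) (V B : Subgroup G) : Prop where
  hσ : orderOf σ = 3
  hρ : orderOf ρ = 3
  zσ : z * σ = σ * z
  ρmem : ρ ∈ (P : Subgroup G)
  σmem : σ ∈ (P : Subgroup G)
  card : Nat.card P = 27
  cen : ∀ c ∈ (P : Subgroup G), (∀ y ∈ (P : Subgroup G), c * y = y * c) ↔ c ∈ zpowers σ
  comm : ∀ x ∈ (P : Subgroup G), ∀ y ∈ (P : Subgroup G), x * y * x⁻¹ * y⁻¹ ∈ zpowers σ
  ρno : ∀ x, IsConj z x → x * ρ ≠ ρ * x
  ρcard : Nat.card (centralizer ({ρ} : Set G)) = 36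
  P0 : Nat.card (centralizer ({σ} : Set G) ⊓ centralizer ({ρ} : Set G) : Subgroup G) = 9
  leσ : B ≤ centralizer ({σ} : Set G)
  ρB : ρ ∈ B
  iso : Nonempty (B ≃* A)
  four : ∀ u ∈ centralizer ({ρ} : Set G), u * u = 1 → u ∈ V
  norm : ∀ v ∈ V, σ * v * σ⁻¹ ∈ V
  Vρ : ∀ v ∈ V, v * ρ = ρ * v
  Vsq : ∀ v ∈ V, v * v = 1
  σV : ∀ v ∈ V, σ * v = v * σ → v = 1

namespace Hyp

variable (h : Hyp z Q)
include h

theorem card_sylow_three (P : Sylow 3 G) : Nat.card P = 27 := by
  haveI : Fact (Nat.Prime 3) := ⟨Nat.prime_three⟩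
  rw [P.card_eq_multiplicity, h.card_eq, show (604800 : ℕ) = 3 ^ 3 * 22400 by norm_num,
    Nat.factorization_mul (by norm_num) (by norm_num), Finsupp.add_apply,
    Nat.Prime.factorization_pow Nat.prime_three, Nat.factorization_eq_zero_of_not_dvd (by norm_num :
    ¬ 3 ∣ 22400)]
  simp

theorem exists_triad : ∃ t ρ σ P V B, Triad z t ρ σ P V B := by
  classical
  haveI : Fact (Nat.Prime 3) := ⟨Nat.prime_three⟩
  haveI : Fact (Nat.Prime 2) := ⟨Nat.prime_two⟩
  obtain ⟨t, ht⟩ := h.exists_out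
  obtain ⟨a, p⟩ := h.exists_pt ht
  obtain ⟨ρ, V, B, s⟩ := p.exists_split
  obtain ⟨σ, hσ, hσB, hσV, hσt, h12, -⟩ := p.exists_sigma s
  have hσ3 : σ * σ * σ = 1 := by rw [← pow_orderOf_eq_one σ, hσ, pow_succ, pow_two]
  obtain ⟨hρB, hρ, -⟩ := s.rho
  have hzσ : z * σ = σ * z := (hσB z s.triple.1).symm
  have hρt : ρ * t = t * ρ := mem_centralizer_singleton_iff.1 (s.leB hρB)
  obtain ⟨h36, hρno⟩ := h.three_t ht (IsConj.refl t) hρ hρt
  have hVρ : ∀ v ∈ V, v * ρ = ρ * v := fun v hv => s.comm v hv ρ hρB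
  have hσρ : σ * ρ = ρ * σ := hσB ρ hρB
  -- all involutions of the centralizer of `ρ` lie in the four-group
  have hCρ : centralizer ({ρ} : Set G) ≤ normalizer (V : Set G) := by
    have hσmem : σ ∈ centralizer ({ρ} : Set G) ⊓ normalizer (V : Set G) :=
      ⟨mem_centralizer_singleton_iff.2 hσρ, mem_normalizer_of_le hσV⟩
    have hle : centralizer ({ρ} : Set G) ⊓ centralizer ({t} : Set G) ≤
        centralizer ({ρ} : Set G) ⊓ normalizer (V : Set G) :=
      inf_le_inf_left _ (p.centralizer_le_normalizer s)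
    have hc := p.card_of_moving s inf_le_right hσmem hσ3 hσt
    rw [inf_assoc, inf_eq_right.2 (p.centralizer_le_normalizer s),
      (p.inf_centralizer_B s hρB (Or.inl hρ)).1, hρ] at hc
    exact (eq_of_le_of_card_ge inf_le_left (by rw [h36, hc])).ge.trans inf_le_right
  have hfour : ∀ u ∈ centralizer ({ρ} : Set G), u * u = 1 → u ∈ V := by
    intro u hu huu
    have hVK : V ≤ centralizer ({ρ} : Set G) := fun v hv => mem_centralizer_singleton_iff.2 (hVρ v hv)
    haveI : (V.subgroupOf (centralizer ({ρ} : Set G))).Normal := ⟨fun v hv x =>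
      mem_subgroupOf.2 ((mem_normalizer_iff.1 (hCρ x.2) _).1 (mem_subgroupOf.1 hv))⟩
    have hi : (V.subgroupOf (centralizer ({ρ} : Set G))).index = 9 := by
      have := (V.subgroupOf (centralizer ({ρ} : Set G))).card_mul_index
      rw [Nat.card_congr (subgroupOfEquivOfLe hVK).toEquiv, s.cardV, h36] at this
      omega
    have hm := (V.subgroupOf (centralizer ({ρ} : Set G))).pow_index_mem ⟨u, hu⟩
    rw [hi, mem_subgroupOf, coe_pow] at hm
    have e : u ^ 9 = u := by
      rw [show 9 = 2 * 4 + 1 from rfl, pow_succ, pow_mul, pow_two, huu, one_pow, one_mul]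
    rwa [show ((⟨u, hu⟩ : ↥(centralizer ({ρ} : Set G))) : G) ^ 9 = u from e] at hm
  have hσV1 : ∀ v ∈ V, σ * v = v * σ → v = 1 := by
    intro v hv e
    by_contra hv1
    have hσC : σ ∈ centralizer ({v} : Set G) := mem_centralizer_singleton_iff.2 e
    rw [p.centralizer_eq s hv hv1, mem_centralizer_singleton_iff] at hσC
    exact hσt (by rw [hσC, mul_inv_cancel_right])
  set P₀ := centralizer ({σ} : Set G) ⊓ centralizer ({ρ} : Set G) with hP₀def
  have hσP₀ : σ ∈ P₀ := ⟨mem_centralizer_singleton_iff.2 rfl, mem_centralizer_singleton_iff.2 hσρ⟩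
  have hρP₀ : ρ ∈ P₀ := ⟨mem_centralizer_singleton_iff.2 hσρ.symm, mem_centralizer_singleton_iff.2 rfl⟩
  have hnotzp : ρ ∉ zpowers σ := by
    intro hm
    obtain ⟨k, hk⟩ := mem_zpowers_iff.1 hm
    exact hρno z (IsConj.refl z) (hk ▸ ((show Commute z σ from hzσ).zpow_right k).eq)
  have hP₀ : Nat.card P₀ = 9 := by
    have hd : Nat.card P₀ ∣ 36 := h36 ▸ card_dvd_of_le inf_le_right
    have hodd : ¬ 2 ∣ Nat.card P₀ := by
      intro h2
      obtain ⟨u, hu⟩ := exists_prime_orderOf_dvd_card' (G := P₀) 2 h2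
      rw [← orderOf_coe] at hu
      have huσ : (u : G) * σ = σ * u := mem_centralizer_singleton_iff.1 u.2.1
      have huρ : (u : G) * ρ = ρ * u := mem_centralizer_singleton_iff.1 u.2.2
      exact invol_ne_one hu (hσV1 _ (hfour _ u.2.2 (invol_mul_self hu)) huσ.symm)
    have hle : zpowers σ ≤ P₀ := zpowers_le.2 hσP₀
    have h3 : 3 < Nat.card P₀ := by
      by_contra h3
      have e := eq_of_le_of_card_ge hle (by rw [Nat.card_zpowers, hσ]; omega)
      exact hnotzp (e.ge hρP₀)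
    have h9 : Nat.card P₀ ∣ 9 := by
      refine Nat.Coprime.dvd_of_dvd_mul_right ?_ (show Nat.card P₀ ∣ 9 * 4 from hd)
      exact Nat.Coprime.pow_right 2 ((Nat.Prime.coprime_iff_not_dvd Nat.prime_two).2 hodd).symm
    have := Nat.le_of_dvd (by norm_num) h9
    interval_cases Nat.card P₀ <;> omega
  obtain ⟨P, hP⟩ := (IsPGroup.of_card (p := 3) (n := 2) (G := P₀) (by rw [hP₀]; norm_num)).exists_le_sylow
  have hP27 := h.card_sylow_three P
  have hρP : ρ ∈ (P : Subgroup G) := hP hρP₀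
  have hσP : σ ∈ (P : Subgroup G) := hP hσP₀
  have hne : ¬ ∀ y ∈ (P : Subgroup G), y * ρ = ρ * y := by
    intro hall
    have := card_dvd_of_le (show (P : Subgroup G) ≤ centralizer ({ρ} : Set G) from fun y hy =>
      mem_centralizer_singleton_iff.2 (hall y hy))
    rw [hP27, h36] at this
    norm_num at this
  push Not at hne
  obtain ⟨y₀, hy₀, hy₀ρ⟩ := hne
  set W : Subgroup G := (P : Subgroup G) ⊓ centralizer ((P : Subgroup G) : Set G) with hWdef
  have hWP₀ : W ≤ P₀ := fun c hc =>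
    ⟨mem_centralizer_singleton_iff.2 (mem_centralizer_iff.1 hc.2 σ hσP).symm,
      mem_centralizer_singleton_iff.2 (mem_centralizer_iff.1 hc.2 ρ hρP).symm⟩
  have hcomm : ∀ x ∈ (P : Subgroup G), ∀ y ∈ (P : Subgroup G), x * y * x⁻¹ * y⁻¹ ∈ W := by
    intro x hx y hy
    have hc := CfsgLib.MetacyclicOmega.commutator_le_center_of_card (p := 3) (R := ↥(P : Subgroup G))
      P.isPGroup' (by rw [hP27]; norm_num)
    have hm : (⁅(⟨x, hx⟩ : (P : Subgroup G)), ⟨y, hy⟩⁆) ∈ center ↥(P : Subgroup G) :=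
      hc (by rw [commutator_def]; exact commutator_mem_commutator (mem_top _) (mem_top _))
    generalize hc0 : (⁅(⟨x, hx⟩ : (P : Subgroup G)), (⟨y, hy⟩ : (P : Subgroup G))⁆) = c0 at hm
    have hval : (c0 : G) = x * y * x⁻¹ * y⁻¹ := by rw [← hc0]; rfl
    rw [← hval]
    refine mem_inf.2 ⟨c0.2, mem_centralizer_iff.2 fun w hw => ?_⟩
    exact congrArg Subtype.val (mem_center_iff.1 hm ⟨w, hw⟩)
  have hWno : ∀ c ∈ W, c ∈ zpowers ρ → c = 1 := by
    intro c hc hcρ
    by_contra hc1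
    have hz : zpowers c = zpowers ρ := eq_of_le_of_card_ge (zpowers_le.2 hcρ) (by
      rw [Nat.card_zpowers, Nat.card_zpowers, hρ]
      rcases pow_cases_three hρ hcρ with e | e | e
      · exact absurd e hc1
      · rw [e, hρ]
      · rw [e, orderOf_inv, hρ])
    have hm : ρ ∈ W := (zpowers_le.2 hc) (hz.ge (mem_zpowers ρ))
    exact hy₀ρ (mem_centralizer_iff.1 hm.2 y₀ hy₀)
  have hW3 : 3 ≤ Nat.card W := by
    haveI : Nontrivial (P : Subgroup G) :=
      ⟨⟨σ, hσP⟩, 1, fun e => by rw [show σ = 1 from congrArg Subtype.val e, orderOf_one] at hσ; omega⟩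
    haveI := P.isPGroup'.center_nontrivial
    obtain ⟨⟨c, hc⟩, hc1⟩ := exists_ne (1 : center (P : Subgroup G))
    have hcW : (c : G) ∈ W :=
      ⟨c.2, mem_centralizer_iff.2 fun w hw => congrArg Subtype.val (mem_center_iff.1 hc ⟨w, hw⟩)⟩
    have hd : Nat.card W ∣ 27 := hP27 ▸ card_dvd_of_le inf_le_left
    obtain ⟨k, -, hk⟩ := (Nat.dvd_prime_pow Nat.prime_three (m := 3)).1 (show _ ∣ 3 ^ 3 from hd)
    rcases k with _ | k
    · exact absurd (Subtype.ext (mem_bot.1 ((card_eq_one.1 (hk.trans (pow_zero 3))).le hcW)) : c = 1)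
        fun e => hc1 (Subtype.ext e)
    · rw [hk, pow_succ]; exact Nat.le_mul_of_pos_left 3 (pow_pos (by norm_num) k)
  let f : ↥(zpowers ρ) × ↥W → ↥P₀ := fun q => ⟨q.1.1 * q.2.1, mul_mem (zpowers_le.2 hρP₀ q.1.2) (hWP₀ q.2.2)⟩
  have hfi : Function.Injective f := by
    rintro ⟨r, c⟩ ⟨r', c'⟩ e
    have e' : (r : G) * c = r' * c' := congrArg Subtype.val e
    have h1 : (r' : G)⁻¹ * r ∈ W := by
      rw [show (r' : G)⁻¹ * r = c' * (c : G)⁻¹ by rw [eq_mul_inv_iff_mul_eq, mul_assoc, e', inv_mul_cancel_left]]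
      exact mul_mem c'.2 (inv_mem c.2)
    have := inv_mul_eq_one.1 (hWno _ h1 (mul_mem (inv_mem r'.2) r.2))
    rw [← this] at e'
    exact Prod.ext (Subtype.ext this.symm) (Subtype.ext (mul_left_cancel e'))
  have hfb : Function.Bijective f := by
    refine (Nat.bijective_iff_injective_and_card f).2 ⟨hfi, ?_⟩
    have := Nat.card_le_card_of_injective f hfi
    rw [Nat.card_prod, Nat.card_zpowers, hρ, hP₀] at this
    rw [Nat.card_prod, Nat.card_zpowers, hρ, hP₀]
    omega
  have hWcard : Nat.card W = 3 := by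
    have := Nat.card_eq_of_bijective f hfb
    rw [Nat.card_prod, Nat.card_zpowers, hρ, hP₀] at this
    omega
  have hσW : σ ∈ W := by
    by_contra hσW
    have hy : ∃ y ∈ (P : Subgroup G), y * σ ≠ σ * y := by
      by_contra hall
      push Not at hall
      exact hσW ⟨hσP, mem_centralizer_iff.2 fun y hy => hall y hy⟩
    obtain ⟨y, hy, hyσ⟩ := hy
    set d := y * σ * y⁻¹ * σ⁻¹ with hd
    have hdW : d ∈ W := hcomm y hy σ hσP
    have hd1 : d ≠ 1 := fun e => hyσ (mul_inv_eq_iff_eq_mul.1 (mul_inv_eq_one.1 e))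
    have hdy : Commute y d := mem_centralizer_iff.1 hdW.2 y hy
    have hpow : ∀ k : ℕ, y ^ k * σ * (y ^ k)⁻¹ = d ^ k * σ := by
      intro k
      induction k with
      | zero => simp
      | succ k ih =>
        calc y ^ (k + 1) * σ * (y ^ (k + 1))⁻¹ = y * (y ^ k * σ * (y ^ k)⁻¹) * y⁻¹ := by rw [pow_succ']; group
          _ = y * d ^ k * σ * y⁻¹ := by rw [ih]; group
          _ = d ^ k * y * σ * y⁻¹ := by rw [(hdy.pow_right k).eq]
          _ = d ^ k * d * σ := by rw [hd]; group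
          _ = _ := by rw [pow_succ]
    obtain ⟨⟨r, c⟩, hrc⟩ := hfb.2 ⟨σ, hσP₀⟩
    have hrc' : (r : G) * c = σ := congrArg Subtype.val hrc
    have hgen : zpowers d = W := eq_of_le_of_card_ge (zpowers_le.2 hdW) (by
      rw [hWcard, Nat.card_zpowers]
      by_contra hlt
      obtain ⟨k, -, hk⟩ := (Nat.dvd_prime_pow Nat.prime_three (m := 1)).1
        (show orderOf d ∣ 3 ^ 1 by rw [pow_one, ← hWcard]; exact orderOf_dvd_natCard W hdW)
      rcases k with _ | k
      · exact hd1 (orderOf_eq_one_iff.1 (hk.trans (pow_zero 3)))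
      · rw [hk, pow_succ] at hlt
        exact hlt (Nat.le_mul_of_pos_left 3 (pow_pos (by norm_num) k)))
    obtain ⟨k, hk⟩ := (isOfFinOrder_of_finite d).mem_powers_iff_mem_zpowers.2 (hgen.ge (inv_mem c.2))
    have hr : y ^ k * σ * (y ^ k)⁻¹ = r := by
      rw [hpow, show d ^ k = ((c : G))⁻¹ from hk,
        show ((c : G))⁻¹ * σ = σ * ((c : G))⁻¹ from
          ((show Commute (σ : G) (c : G) from mem_centralizer_iff.1 c.2.2 σ hσP).inv_right.eq).symm,
        ← hrc', mul_inv_cancel_right]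
    have hz' : y ^ k * z * (y ^ k)⁻¹ * r = r * (y ^ k * z * (y ^ k)⁻¹) := by
      rw [← hr]
      calc y ^ k * z * (y ^ k)⁻¹ * (y ^ k * σ * (y ^ k)⁻¹) = y ^ k * (z * σ) * (y ^ k)⁻¹ := by group
        _ = y ^ k * (σ * z) * (y ^ k)⁻¹ := by rw [hzσ]
        _ = _ := by group
    refine hρno _ (isConj_iff.2 ⟨y ^ k, rfl⟩) ?_
    rcases pow_cases_three hρ r.2 with e | e | e
    · exfalso
      refine hσW ?_
      rw [← hrc', e, one_mul]
      exact c.2
    · rwa [e] at hz'
    · rw [e] at hz'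
      have := (show Commute (y ^ k * z * (y ^ k)⁻¹) ρ⁻¹ from hz').inv_right
      rw [inv_inv] at this
      exact this.eq
  have hWσ : W = zpowers σ := (eq_of_le_of_card_ge (zpowers_le.2 hσW) (by rw [Nat.card_zpowers, hσ, hWcard])).symm
  refine ⟨t, ρ, σ, P, V, B, hσ, hρ, hzσ, hρP, hσP, hP27, fun c hc => ?_, fun x hx y hy => hWσ ▸ hcomm x hx y hy,
    hρno, h36, hP₀, fun b hb => mem_centralizer_singleton_iff.2 (hσB b hb).symm, hρB, s.iso, hfour, hσV, hVρ,
    fun v hv => by rw [← pow_two]; exact s.sq v hv, hσV1⟩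
  constructor
  · intro hcc
    rw [← hWσ]
    exact ⟨hc, mem_centralizer_iff.2 fun y hy => (hcc y hy).symm⟩
  · intro hcσ y hy
    rw [← hWσ] at hcσ
    exact (mem_centralizer_iff.1 hcσ.2 y hy).symm

/-- The centralizer of an element of order three commuting with a conjugate of `z`, up to the prime seven. -/
theorem card_sigma {t ρ σ : G} {P : Sylow 3 G} {V B : Subgroup G} (d : Triad z t ρ σ P V B) :
    1080 ∣ Nat.card (centralizer ({σ} : Set G)) ∧ Nat.card (centralizer ({σ} : Set G)) ∣ 7560 := by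
  classical
  haveI : Fact (Nat.Prime 2) := ⟨Nat.prime_two⟩
  haveI : Fact (Nat.Prime 5) := ⟨Nat.prime_five⟩
  set K := centralizer ({σ} : Set G) with hK
  set m := Nat.card K with hm
  obtain ⟨eB⟩ := d.iso
  have h24 := h.card_three_conj (IsConj.refl z) d.zσ d.hσ
  have h8 : 8 ∣ m := (show 8 ∣ 24 by norm_num).trans (h24 ▸ card_dvd_of_le inf_le_left)
  have h27 : 27 ∣ m := d.card ▸ card_dvd_of_le (show (P : Subgroup G) ≤ K from fun y hy =>
    mem_centralizer_singleton_iff.2 ((d.cen σ d.σmem).2 (mem_zpowers σ) y hy).symm)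
  have h5 : 5 ∣ m := by
    have h60 : Nat.card B = 60 := by rw [Nat.card_congr eB.toEquiv, AltFive.card_A]
    exact (show 5 ∣ 60 by norm_num).trans (h60 ▸ card_dvd_of_le d.leσ)
  have h16 : ¬ 16 ∣ m := by
    intro h16
    obtain ⟨S⟩ := (Sylow.nonempty : Nonempty (Sylow 2 K))
    have hS16 : 16 ∣ Nat.card (S : Subgroup K) := by
      refine Nat.Coprime.dvd_of_dvd_mul_right (n := (S : Subgroup K).index) ?_ ?_
      · exact Nat.Coprime.pow_left 4 ((Nat.Prime.coprime_iff_not_dvd Nat.prime_two).2 S.not_dvd_index)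
      · rw [(S : Subgroup K).card_mul_index]; exact h16
    haveI : Nontrivial (S : Subgroup K) :=
      Finite.one_lt_card_iff_nontrivial.1 (lt_of_lt_of_le (by norm_num) (Nat.le_of_dvd Nat.card_pos hS16))
    haveI := S.isPGroup'.center_nontrivial
    obtain ⟨c, hc⟩ := exists_prime_orderOf_dvd_card' (G := center (S : Subgroup K)) 2 (by
      obtain ⟨n, hn⟩ := IsPGroup.iff_card.1 (S.isPGroup'.to_subgroup (center (S : Subgroup K)))
      rcases n with _ | n
      · exact absurd hn (Finite.one_lt_card (α := center (S : Subgroup K))).ne'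
      · rw [hn, pow_succ]; exact Dvd.intro_left _ rfl)
    have hco : orderOf (((c : (S : Subgroup K)) : K) : G) = 2 := by
      rw [orderOf_coe, orderOf_coe, orderOf_coe]; exact hc
    have hcσ := mem_centralizer_singleton_iff.1 ((c : (S : Subgroup K)) : K).2
    have hcz := h.invol_of_three (IsConj.refl z) d.zσ d.hσ hco hcσ
    have hc24 := h.card_three_conj hcz hcσ d.hσ
    have hle : (S : Subgroup K) ≤ (centralizer ({(((c : (S : Subgroup K)) : K) : G)} : Set G)).subgroupOf K := by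
      intro x hx
      rw [mem_subgroupOf, mem_centralizer_singleton_iff]
      exact congrArg (fun y : (S : Subgroup K) => ((y : K) : G)) (mem_center_iff.1 c.2 ⟨x, hx⟩)
    have hd := hS16.trans (card_dvd_of_le hle)
    rw [← inf_subgroupOf_left, Nat.card_congr (subgroupOfEquivOfLe inf_le_left).toEquiv, hc24] at hd
    norm_num at hd
  have h25 : ¬ 25 ∣ m := by
    intro h25
    obtain ⟨R, hR⟩ := Sylow.exists_subgroup_card_pow_prime (G := K) 5 (n := 2) (show 5 ^ 2 ∣ _ from h25)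
    obtain ⟨S, hS⟩ := ((IsPGroup.of_card (p := 5) (n := 2) (G := R) hR).map K.subtype).exists_le_sylow
    obtain ⟨hCS, hS25, -⟩ := h.sylow_five S
    have heq : R.map K.subtype = (S : Subgroup G) := eq_of_le_of_card_ge hS (by
      rw [card_map_of_injective K.subtype_injective, hR, hS25]; norm_num)
    have hσS : σ ∈ centralizer ((S : Subgroup G) : Set G) := mem_centralizer_iff.2 fun w hw => by
      obtain ⟨r, -, rfl⟩ := heq.ge hw
      exact mem_centralizer_singleton_iff.1 r.2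
    rw [hCS] at hσS
    have := orderOf_dvd_natCard (S : Subgroup G) hσS
    rw [d.hσ, hS25] at this
    norm_num at this
  have h1080 : 1080 ∣ m := by
    have h1 : 8 * 27 ∣ m := Nat.Coprime.mul_dvd_of_dvd_of_dvd (by norm_num) h8 h27
    exact Nat.Coprime.mul_dvd_of_dvd_of_dvd (m := 8 * 27) (n := 5) (by norm_num) h1 h5
  refine ⟨h1080, ?_⟩
  obtain ⟨k, hk⟩ := h1080
  have hG : m ∣ 604800 := h.card_eq ▸ card_subgroup_dvd_card K
  rw [hk] at hG h16 h25 ⊢
  have hk560 : k ∣ 560 := Nat.dvd_of_mul_dvd_mul_left (show 0 < 1080 by norm_num)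
    (show 1080 * k ∣ 1080 * 560 from hG)
  have hk2 : ¬ 2 ∣ k := fun e => h16 ((show 16 ∣ 1080 * 2 by norm_num).trans (mul_dvd_mul_left 1080 e))
  have hk5 : ¬ 5 ∣ k := fun e => h25 ((show 25 ∣ 1080 * 5 by norm_num).trans (mul_dvd_mul_left 1080 e))
  have hcop : Nat.Coprime k (2 ^ 4 * 5) := Nat.Coprime.mul_right
    (Nat.Coprime.pow_right 4 ((Nat.Prime.coprime_iff_not_dvd Nat.prime_two).2 hk2).symm)
    ((Nat.Prime.coprime_iff_not_dvd Nat.prime_five).2 hk5).symm
  have hk7 : k ∣ 7 := hcop.dvd_of_dvd_mul_right (show k ∣ 7 * (2 ^ 4 * 5) from hk560)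
  exact (mul_dvd_mul_left 1080 hk7).trans (by norm_num)

/-- Every element of order three centralizing a conjugate of `z` is conjugate to the distinguished one. -/
theorem card_sigma_conj {t ρ σ : G} {P : Sylow 3 G} {V B : Subgroup G} (d : Triad z t ρ σ P V B)
    {e x : G} (hx : IsConj z x) (hxe : x * e = e * x) (he : orderOf e = 3) :
    Nat.card (centralizer ({e} : Set G)) = Nat.card (centralizer ({σ} : Set G)) := by
  obtain ⟨g, rfl⟩ := isConj_iff.1 hx
  obtain ⟨c, hc, hcz⟩ := h.exists_conj_three (v := g⁻¹ * e * g) (w := σ)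
    (by
      refine mem_centralizer_singleton_iff.2 ?_
      calc g⁻¹ * e * g * z = g⁻¹ * (e * (g * z * g⁻¹)) * g := by group
        _ = g⁻¹ * (g * z * g⁻¹ * e) * g := by rw [hxe]
        _ = _ := by group)
    (by rw [show g⁻¹ * e * g = MulAut.conj g⁻¹ e by simp, MulEquiv.orderOf_eq]; exact he)
    (mem_centralizer_singleton_iff.2 d.zσ.symm) d.hσ
  rw [← centralizer_of_zpowers_eq hcz,
    show c * (g⁻¹ * e * g) * c⁻¹ = c * g⁻¹ * e * (c * g⁻¹)⁻¹ by group, card_centralizer_conj]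

/-- No element of order three centralizes a Sylow 7-subgroup. -/
theorem seven_main (D : Sylow 7 G) :
    centralizer ((D : Subgroup G) : Set G) = D ∧ Nat.card (normalizer ((D : Subgroup G) : Set G)) = 42 := by
  classical
  haveI : Fact (Nat.Prime 7) := ⟨by norm_num⟩
  haveI : Fact (Nat.Prime 3) := ⟨Nat.prime_three⟩
  obtain ⟨t₀, ρ, σ, P, V, B, d⟩ := h.exists_triad
  obtain ⟨t, ht⟩ := h.exists_out
  obtain ⟨a, p⟩ := h.exists_pt ht
  have hD7 : Nat.card (D : Subgroup G) = 7 := by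
    rw [D.card_eq_multiplicity, h.card_eq, show (604800 : ℕ) = 7 ^ 1 * 86400 by norm_num,
      Nat.factorization_mul (by norm_num) (by norm_num), Finsupp.add_apply,
      Nat.Prime.factorization_pow (by norm_num : Nat.Prime 7), Nat.factorization_eq_zero_of_not_dvd (by norm_num :
      ¬ 7 ∣ 86400)]
    simp
  haveI : IsCyclic (D : Subgroup G) := isCyclic_of_prime_card hD7
  obtain ⟨⟨x, hxD⟩, hgen⟩ := IsCyclic.exists_generator (α := (D : Subgroup G))
  have hDx : zpowers x = (D : Subgroup G) := by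
    refine le_antisymm (zpowers_le.2 hxD) fun w hw => ?_
    obtain ⟨k, hk⟩ := mem_zpowers_iff.1 (hgen ⟨w, hw⟩)
    exact mem_zpowers_iff.2 ⟨k, congrArg Subtype.val hk⟩
  have hCD : centralizer ((D : Subgroup G) : Set G) = centralizer ({x} : Set G) := by
    ext w
    rw [mem_centralizer_iff, mem_centralizer_singleton_iff]
    refine ⟨fun hw => (hw x hxD).symm, fun hw y hy => ?_⟩
    rw [← hDx] at hy
    obtain ⟨k, rfl⟩ := mem_zpowers_iff.1 hy
    exact ((show Commute w x from hw).zpow_right k).eq.symm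
  set N := normalizer ((D : Subgroup G) : Set G) with hNdef
  set C := centralizer ({x} : Set G) with hCdef
  have hx7 : orderOf x = 7 := by rw [← Nat.card_zpowers, hDx, hD7]
  have hCN : C ≤ N := hCD ▸ centralizer_le_normalizer _
  -- no involution and no element of order five
  have hnot2 : ¬ 2 ∣ Nat.card C := by
    intro h2
    haveI : Fact (Nat.Prime 2) := ⟨Nat.prime_two⟩
    obtain ⟨u, hu⟩ := exists_prime_orderOf_dvd_card' (G := C) 2 h2
    rw [← orderOf_coe] at hu
    have hxu : x ∈ centralizer ({(u : G)} : Set G) :=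
      mem_centralizer_singleton_iff.2 (mem_centralizer_singleton_iff.1 u.2).symm
    have hd7 := orderOf_dvd_natCard _ hxu
    rw [hx7] at hd7
    rcases (h.classes ht).2 u hu with e | e <;> obtain ⟨g, hg⟩ := isConj_iff.1 e <;>
      rw [← hg, card_centralizer_conj] at hd7
    · rw [h.card_C] at hd7; norm_num at hd7
    · rw [p.card_centralizer] at hd7; norm_num at hd7
  have hnot5 : ¬ 5 ∣ Nat.card C := by
    intro h5
    haveI : Fact (Nat.Prime 5) := ⟨Nat.prime_five⟩
    obtain ⟨u, hu⟩ := exists_prime_orderOf_dvd_card' (G := C) 5 h5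
    rw [← orderOf_coe] at hu
    refine (h.five_cases hu).1 (hx7 ▸ orderOf_dvd_natCard _ ?_)
    exact mem_centralizer_singleton_iff.2 (mem_centralizer_singleton_iff.1 u.2).symm
  have hxC : x ∈ C := mem_centralizer_singleton_iff.2 rfl
  have hC7 : 7 ∣ Nat.card C := hx7 ▸ orderOf_dvd_natCard C hxC
  -- the orbit of the generator
  have horb := card_orbit_mul N x
  rw [inf_eq_right.2 hCN] at horb
  set m := Nat.card {y : G // ∃ c ∈ N, c * x * c⁻¹ = y} with hm
  have hm1 : 1 ≤ m := Nat.one_le_iff_ne_zero.2 fun e => by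
    rw [e, zero_mul] at horb; exact Nat.card_pos.ne' horb.symm
  have hm6 : m ≤ 6 := by
    let f : {y : G // ∃ c ∈ N, c * x * c⁻¹ = y} → {y : (D : Subgroup G) // y ≠ 1} := fun y => ⟨⟨y.1, by
      obtain ⟨c, hc, e⟩ := y.2
      exact e ▸ (mem_normalizer_iff.1 hc x).1 hxD⟩, fun e => by
      obtain ⟨c, -, e'⟩ := y.2
      have := conj_eq_one_iff.1 (e'.trans (congrArg Subtype.val e))
      rw [this, orderOf_one] at hx7
      omega⟩
    have hf : Function.Injective f := fun u w e => Subtype.ext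
      (congrArg (fun v : {y : (D : Subgroup G) // y ≠ 1} => ((v : (D : Subgroup G)) : G)) e)
    have hle := Nat.card_le_card_of_injective f hf
    have e6 : Nat.card {y : (D : Subgroup G) // y ≠ 1} = 6 := by
      letI := Fintype.ofFinite (D : Subgroup G)
      rw [Nat.card_eq_fintype_card, Fintype.card_subtype_compl, Fintype.card_subtype_eq,
        ← Nat.card_eq_fintype_card, hD7]
    rw [e6, ← hm] at hle
    exact hle
  obtain ⟨k, hk⟩ := hC7
  have hk27 : k ∣ 27 := by
    have hd : 7 * k ∣ 7 * 86400 := by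
      rw [← hk, show 7 * 86400 = 604800 from rfl, ← h.card_eq]; exact card_subgroup_dvd_card C
    have hd' : k ∣ 27 * (2 ^ 7 * 5 ^ 2) := Nat.dvd_of_mul_dvd_mul_left (show 0 < 7 by norm_num) hd
    refine Nat.Coprime.dvd_of_dvd_mul_right (Nat.Coprime.mul_right ?_ ?_) hd'
    · exact Nat.Coprime.pow_right 7 ((Nat.Prime.coprime_iff_not_dvd Nat.prime_two).2
        fun e => hnot2 (e.trans ⟨7, by rw [hk, mul_comm]⟩)).symm
    · exact Nat.Coprime.pow_right 2 ((Nat.Prime.coprime_iff_not_dvd Nat.prime_five).2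
        fun e => hnot5 (e.trans ⟨7, by rw [hk, mul_comm]⟩)).symm
  obtain ⟨j, hj, rfl⟩ := (Nat.dvd_prime_pow Nat.prime_three (m := 3)).1 (show k ∣ 3 ^ 3 from hk27)
  rw [hk] at horb
  have hsyl : (Nat.card (Sylow 7 G)) % 7 = 1 := card_sylow_modEq_one 7 G
  have hNG : Nat.card N * Nat.card (Sylow 7 G) = 604800 := by
    rw [D.card_eq_index_normalizer, ← h.card_eq]; exact N.card_mul_index
  rw [← horb] at hNG
  have hy : (j = 0 ∧ m = 6) ∨ (j = 1 ∧ m = 2) ∨ (j = 2 ∧ m = 3) ∨ (j = 3 ∧ m = 1) := by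
    interval_cases j <;> interval_cases m <;> norm_num at hNG ⊢ <;> omega
  rcases hy with ⟨rfl, hm'⟩ | hy
  · refine ⟨(eq_of_le_of_card_ge (fun w hw => ?_) ?_).symm, by rw [← horb, hm']; norm_num⟩
    · rw [hCD, hCdef]
      rw [← hDx] at hw
      obtain ⟨i, rfl⟩ := mem_zpowers_iff.1 hw
      exact mem_centralizer_singleton_iff.2 ((Commute.refl x).zpow_left i).eq
    · rw [hCD, hD7, show Nat.card C = 7 by rw [hk]; norm_num]
  exfalso
  -- an element of order three centralizing `x`, central in a Sylow 3-subgroup of the normalizer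
  obtain ⟨S⟩ := (Sylow.nonempty : Nonempty (Sylow 3 N))
  have hN' : Nat.card N = 7 * (3 ^ j * m) := by rw [← horb]; ring
  have hN6 : Nat.card N = 42 ∨ Nat.card N = 189 := by
    rw [hN']; rcases hy with ⟨rfl, hm'⟩ | ⟨rfl, hm'⟩ | ⟨rfl, hm'⟩ <;> rw [hm'] <;> norm_num
  set Cn : Subgroup N := C.subgroupOf N with hCn
  haveI : Cn.Normal := ⟨fun c hc n => by
    rw [hCn, mem_subgroupOf, ← hCD, mem_centralizer_iff] at hc ⊢
    intro w hw
    have hw' := (mem_normalizer_iff.1 (inv_mem n.2) w).1 hw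
    rw [inv_inv] at hw'
    have e := hc _ hw'
    show w * ((n : G) * c * (n : G)⁻¹) = (n : G) * c * (n : G)⁻¹ * w
    calc w * ((n : G) * c * (n : G)⁻¹) = (n : G) * ((n : G)⁻¹ * w * n * c) * (n : G)⁻¹ := by group
      _ = (n : G) * (c * ((n : G)⁻¹ * w * n)) * (n : G)⁻¹ := by rw [e]
      _ = _ := by group⟩
  obtain ⟨e₀, he₀⟩ := exists_prime_orderOf_dvd_card' (G := Cn) 3 (by
    rw [hCn, Nat.card_congr (subgroupOfEquivOfLe hCN).toEquiv, hk]
    rcases hy with ⟨rfl, -⟩ | ⟨rfl, -⟩ | ⟨rfl, -⟩ <;> norm_num)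
  obtain ⟨S', hS'⟩ := (IsPGroup.of_card (p := 3) (n := 1) (G := zpowers (e₀ : N))
    (by rw [Nat.card_zpowers, orderOf_coe, he₀, pow_one])).exists_le_sylow
  -- the intersection is normal in the Sylow subgroup
  set I : Subgroup (S' : Subgroup N) := Cn.subgroupOf (S' : Subgroup N) with hI
  have hI1 : I ≠ ⊥ := fun e => by
    have hm : (⟨(e₀ : N), hS' (mem_zpowers _)⟩ : (S' : Subgroup N)) ∈ I := mem_subgroupOf.2 e₀.2
    rw [e, mem_bot] at hm
    have h1 : (e₀ : N) = 1 := congrArg Subtype.val hm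
    rw [← orderOf_coe, h1, orderOf_one] at he₀
    omega
  obtain ⟨c, hcI, hcc, hc3⟩ : ∃ c : (S' : Subgroup N), c ∈ I ∧ c ∈ center (S' : Subgroup N) ∧ orderOf c = 3 := by
    haveI : Group.IsNilpotent (S' : Subgroup N) := S'.isPGroup'.isNilpotent
    haveI : I.Normal := inferInstance
    have hnt := CfsgLib.Coprime.nilpotent_inf_center_ne_bot I hI1
    obtain ⟨k, hk⟩ := IsPGroup.iff_card.1 (S'.isPGroup'.to_subgroup (I ⊓ center _))
    rcases k with _ | k
    · exact absurd (card_eq_one.1 (hk.trans (pow_zero 3))) hnt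
    · obtain ⟨c, hc⟩ := exists_prime_orderOf_dvd_card' (G := ↥(I ⊓ center (S' : Subgroup N))) 3
        (by rw [hk, pow_succ]; exact Dvd.intro_left _ rfl)
      exact ⟨c, c.2.1, c.2.2, by rw [orderOf_coe]; exact hc⟩
  set w : G := ((c : N) : G) with hw
  have hw3 : orderOf w = 3 := by rw [hw, orderOf_coe, orderOf_coe]; exact hc3
  have hwx : w * x = x * w := by
    have h1 : (c : N) ∈ Cn := mem_subgroupOf.1 hcI
    exact mem_centralizer_singleton_iff.1 (mem_subgroupOf.1 h1)
  set K := centralizer ({w} : Set G) with hK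
  have hxK : x ∈ K := mem_centralizer_singleton_iff.2 hwx.symm
  have hK7 : 7 ∣ Nat.card K := hx7 ▸ orderOf_dvd_natCard K hxK
  have h9 : 9 ∣ Nat.card K := by
    obtain ⟨R, hR⟩ := (IsPGroup.of_card (p := 3) (n := 1) (G := zpowers w)
      (by rw [Nat.card_zpowers, hw3, pow_one])).exists_le_sylow
    obtain ⟨g, hg⟩ := MulAction.exists_smul_eq G R P
    have hmem : g * w * g⁻¹ ∈ (P : Subgroup G) := by
      rw [← hg, Sylow.coe_subgroup_smul]; exact ⟨w, hR (mem_zpowers w), rfl⟩
    rw [← card_centralizer_conj g w]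
    by_cases hcen : g * w * g⁻¹ ∈ zpowers σ
    · exact (show 9 ∣ 27 by norm_num).trans (d.card ▸ card_dvd_of_le fun y hy =>
        mem_centralizer_singleton_iff.2 ((d.cen _ hmem).2 hcen y hy).symm)
    · have hlt : zpowers σ < zpowers (g * w * g⁻¹) ⊔ zpowers σ := lt_of_le_of_ne le_sup_right
        fun e => hcen (e.ge (mem_sup_left (mem_zpowers _)))
      have hσc : σ ∈ centralizer ({g * w * g⁻¹} : Set G) :=
        mem_centralizer_singleton_iff.2 ((d.cen σ d.σmem).2 (mem_zpowers σ) _ hmem)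
      have hle : zpowers (g * w * g⁻¹) ⊔ zpowers σ ≤
          centralizer ({g * w * g⁻¹} : Set G) ⊓ (P : Subgroup G) :=
        sup_le (zpowers_le.2 ⟨mem_centralizer_singleton_iff.2 rfl, hmem⟩) (zpowers_le.2 ⟨hσc, d.σmem⟩)
      set H := zpowers (g * w * g⁻¹) ⊔ zpowers σ
      have hd : Nat.card H ∣ 3 ^ 3 :=
        (card_dvd_of_le (hle.trans inf_le_right)).trans (dvd_of_eq (d.card.trans (by norm_num)))
      obtain ⟨i, -, hi⟩ := (Nat.dvd_prime_pow Nat.prime_three).1 hd
      have h3 : 3 < Nat.card H := by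
        by_contra h3
        exact hlt.ne (eq_of_le_of_card_ge hlt.le (by rw [Nat.card_zpowers, d.hσ]; omega))
      have hi2 : 2 ≤ i := by
        by_contra hi2
        have := Nat.pow_le_pow_right (show 3 > 0 by norm_num) (show i ≤ 1 by omega)
        omega
      exact ((pow_dvd_pow 3 hi2).trans (hi ▸ card_dvd_of_le (hle.trans inf_le_left)))
  set X := N ⊓ K with hX
  have hxX : x ∈ X := ⟨le_normalizer hxD, hxK⟩
  have hS'K : (S' : Subgroup N) ≤ X.subgroupOf N := fun y hy => mem_subgroupOf.2 ⟨y.2,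
    mem_centralizer_singleton_iff.2 (congrArg (fun y : (S' : Subgroup N) => ((y : N) : G))
      (mem_center_iff.1 hcc ⟨y, hy⟩))⟩
  have hXN : Nat.card X ∣ Nat.card N := card_dvd_of_le inf_le_left
  have hX7 : 7 ∣ Nat.card X := hx7 ▸ orderOf_dvd_natCard X hxX
  have hX3 : Nat.card (S' : Subgroup N) ∣ Nat.card X := by
    rw [← Nat.card_congr (subgroupOfEquivOfLe (inf_le_left : X ≤ N)).toEquiv]
    exact card_dvd_of_le hS'K
  -- Sylow counting inside the centralizer
  obtain ⟨T, hT⟩ : ∃ T : Sylow 7 K, (T : Subgroup K) = (D : Subgroup G).subgroupOf K := by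
    have hDK : (D : Subgroup G) ≤ K := hDx ▸ zpowers_le.2 hxK
    obtain ⟨T, hT⟩ := (IsPGroup.of_card (p := 7) (n := 1) (G := (D : Subgroup G).subgroupOf K)
      (by rw [Nat.card_congr (subgroupOfEquivOfLe hDK).toEquiv, hD7, pow_one])).exists_le_sylow
    refine ⟨T, (eq_of_le_of_card_ge hT ?_).symm⟩
    rw [Nat.card_congr (subgroupOfEquivOfLe hDK).toEquiv, hD7]
    obtain ⟨n, hn⟩ := IsPGroup.iff_card.1 T.isPGroup'
    have hd := (card_subgroup_dvd_card (T : Subgroup K)).trans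
      ((card_subgroup_dvd_card K).trans h.card_eq.dvd)
    rw [hn] at hd
    have hn1 : n ≤ 1 := by
      by_contra hn1
      exact absurd ((pow_dvd_pow 7 (show 2 ≤ n by omega)).trans hd) (by norm_num)
    rw [hn]; exact (Nat.pow_le_pow_right (by norm_num) hn1).trans (by norm_num)
  have hTN : normalizer ((T : Subgroup K) : Set K) = X.subgroupOf K := by
    ext y
    rw [mem_subgroupOf, hX, mem_inf, mem_normalizer_iff, hT]
    constructor
    · intro hy
      refine ⟨mem_normalizer_of_le fun v hv => ?_, y.2⟩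
      have hDK : (D : Subgroup G) ≤ K := hDx ▸ zpowers_le.2 hxK
      exact mem_subgroupOf.1 ((hy ⟨v, hDK hv⟩).1 (mem_subgroupOf.2 hv))
    · rintro ⟨hy, -⟩ v
      rw [mem_subgroupOf, mem_subgroupOf]
      exact mem_normalizer_iff.1 hy v
  have hcount : Nat.card X * Nat.card (Sylow 7 K) = Nat.card K := by
    rw [show Nat.card (Sylow 7 K) = (normalizer ((T : Subgroup K) : Set K)).index from
      T.card_eq_index_normalizer, hTN,
      ← Nat.card_congr (subgroupOfEquivOfLe (inf_le_right : X ≤ K)).toEquiv]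
    exact (X.subgroupOf K).card_mul_index
  have hmod : (Nat.card (Sylow 7 K)) % 7 = 1 := card_sylow_modEq_one 7 K
  -- the possible orders of the centralizer
  by_cases hz : ∃ u, IsConj z u ∧ u * w = w * u
  · obtain ⟨u, hu, huw⟩ := hz
    obtain ⟨h1, h2⟩ := h.card_sigma d
    rw [← h.card_sigma_conj d hu huw hw3] at h1 h2
    have hK' : Nat.card K = 7560 := by
      refine Nat.dvd_antisymm h2 ?_
      exact Nat.Coprime.mul_dvd_of_dvd_of_dvd (m := 1080) (n := 7) (by norm_num) h1 hK7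
    obtain ⟨i, hi⟩ := IsPGroup.iff_card.1 S'.isPGroup'
    have hS3 := S'.card_eq_multiplicity
    rw [hK'] at hcount
    rcases hN6 with e | e
    · rw [e, show (42 : ℕ) = 3 ^ 1 * 14 by norm_num, Nat.factorization_mul (by norm_num) (by norm_num),
        Finsupp.add_apply, Nat.Prime.factorization_pow Nat.prime_three,
        Nat.factorization_eq_zero_of_not_dvd (by norm_num : ¬ 3 ∣ 14)] at hS3
      simp only [Finsupp.single_eq_same, Nat.add_zero] at hS3
      rw [show Nat.card (S' : Subgroup N) = 3 from hS3.trans (pow_one 3)] at hX3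
      rw [e] at hXN
      have h21 : 21 ∣ Nat.card X := Nat.Coprime.mul_dvd_of_dvd_of_dvd (m := 3) (n := 7) (by norm_num) hX3 hX7
      obtain ⟨q, hq⟩ := h21
      rw [hq] at hXN hcount
      have hq2 : q ∣ 2 := Nat.dvd_of_mul_dvd_mul_left (show 0 < 21 by norm_num) (show 21 * q ∣ 21 * 2 from hXN)
      rcases (Nat.dvd_prime Nat.prime_two).1 hq2 with rfl | rfl <;> omega
    · rw [e, show (189 : ℕ) = 3 ^ 3 * 7 by norm_num, Nat.factorization_mul (by norm_num) (by norm_num),
        Finsupp.add_apply, Nat.Prime.factorization_pow Nat.prime_three,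
        Nat.factorization_eq_zero_of_not_dvd (by norm_num : ¬ 3 ∣ 7)] at hS3
      simp only [Finsupp.single_eq_same, Nat.add_zero] at hS3
      rw [show Nat.card (S' : Subgroup N) = 27 from hS3.trans (by norm_num)] at hX3
      rw [e] at hXN
      have h189 : 189 ∣ Nat.card X := Nat.Coprime.mul_dvd_of_dvd_of_dvd (m := 27) (n := 7) (by norm_num) hX3 hX7
      rw [Nat.dvd_antisymm hXN h189] at hcount
      omega
  · push Not at hz
    have hKodd : ¬ 2 ∣ Nat.card K := by
      intro h2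
      haveI : Fact (Nat.Prime 2) := ⟨Nat.prime_two⟩
      obtain ⟨u, hu⟩ := exists_prime_orderOf_dvd_card' (G := K) 2 h2
      rw [← orderOf_coe] at hu
      have huw := mem_centralizer_singleton_iff.1 u.2
      rcases (h.classes ht).2 u hu with e | e
      · exact hz _ e huw
      · rw [(h.three_t ht e hw3 huw.symm).1] at hK7
        norm_num at hK7
    have hK5 : ¬ 5 ∣ Nat.card K := by
      intro h5
      haveI : Fact (Nat.Prime 5) := ⟨Nat.prime_five⟩
      obtain ⟨u, hu⟩ := exists_prime_orderOf_dvd_card' (G := K) 5 h5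
      rw [← orderOf_coe] at hu
      obtain ⟨v, hv, hvw⟩ := (h.five_cases hu).2 w
        (mem_centralizer_singleton_iff.2 (mem_centralizer_singleton_iff.1 u.2).symm) hw3
      exact hz v hv hvw
    have hK189 : Nat.card K ∣ 189 := by
      have hd : Nat.card K ∣ 189 * (2 ^ 7 * 5 ^ 2) := by
        rw [show 189 * (2 ^ 7 * 5 ^ 2) = 604800 by norm_num, ← h.card_eq]; exact card_subgroup_dvd_card K
      refine Nat.Coprime.dvd_of_dvd_mul_right (Nat.Coprime.mul_right ?_ ?_) hd
      · exact Nat.Coprime.pow_right 7 ((Nat.Prime.coprime_iff_not_dvd Nat.prime_two).2 hKodd).symm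
      · exact Nat.Coprime.pow_right 2 ((Nat.Prime.coprime_iff_not_dvd Nat.prime_five).2 hK5).symm
    have h63 : 63 ∣ Nat.card K := Nat.Coprime.mul_dvd_of_dvd_of_dvd (m := 9) (n := 7) (by norm_num) h9 hK7
    have hX63 : Nat.card X = Nat.card K := by
      have hle := Nat.le_of_dvd (by norm_num) hK189
      obtain ⟨q, hq⟩ := hX7
      have h1 : q * Nat.card (Sylow 7 K) ∣ 27 := Nat.dvd_of_mul_dvd_mul_left (show 0 < 7 by norm_num) (by
        rw [← mul_assoc, ← hq, hcount]; exact hK189)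
      have h2 : Nat.card (Sylow 7 K) ∣ 27 := dvd_trans (Dvd.intro_left q rfl) h1
      obtain ⟨i, hi, e⟩ := (Nat.dvd_prime_pow Nat.prime_three (m := 3)).1 (show _ ∣ 3 ^ 3 from h2)
      have hi0 : i = 0 := by
        rw [e] at hmod
        interval_cases i <;> simp_all
      rw [← hcount, e, hi0, pow_zero, mul_one]
    rcases hN6 with e | e
    · have := (h63.trans (hX63 ▸ hXN))
      rw [e] at this
      norm_num at this
    · -- then the element is central in a Sylow 3-subgroup of the whole group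
      have hS3 := S'.card_eq_multiplicity
      rw [e, show (189 : ℕ) = 3 ^ 3 * 7 by norm_num, Nat.factorization_mul (by norm_num) (by norm_num),
        Finsupp.add_apply, Nat.Prime.factorization_pow Nat.prime_three,
        Nat.factorization_eq_zero_of_not_dvd (by norm_num : ¬ 3 ∣ 7)] at hS3
      simp only [Finsupp.single_eq_same, Nat.add_zero] at hS3
      have hS27 : Nat.card (S' : Subgroup N) = 27 := hS3.trans (by norm_num)
      set R := (S' : Subgroup N).map N.subtype with hR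
      obtain ⟨R', hR'⟩ := (S'.isPGroup'.map N.subtype).exists_le_sylow
      have hRR : R = (R' : Subgroup G) := eq_of_le_of_card_ge hR' (by
        rw [hR, card_map_of_injective N.subtype_injective, hS27, h.card_sylow_three R'])
      obtain ⟨g, hg⟩ := MulAction.exists_smul_eq G R' P
      have hwR : w ∈ (R' : Subgroup G) := hRR ▸ ⟨(c : N), c.2, rfl⟩
      have hgw : g * w * g⁻¹ ∈ (P : Subgroup G) := by
        rw [← hg, Sylow.coe_subgroup_smul]; exact ⟨w, hwR, rfl⟩
      have hcen : g * w * g⁻¹ ∈ zpowers σ := (d.cen _ hgw).1 fun y hy => by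
        rw [← hg, Sylow.coe_subgroup_smul] at hy
        obtain ⟨r, hr, rfl⟩ := hy
        obtain ⟨r', hr', rfl⟩ : r ∈ R := hRR ▸ hr
        have := congrArg (fun y : (S' : Subgroup N) => ((y : N) : G)) (mem_center_iff.1 hcc ⟨r', hr'⟩)
        show g * w * g⁻¹ * (g * (r' : G) * g⁻¹) = g * (r' : G) * g⁻¹ * (g * w * g⁻¹)
        calc g * w * g⁻¹ * (g * (r' : G) * g⁻¹) = g * (w * (r' : G)) * g⁻¹ := by group
          _ = g * ((r' : G) * w) * g⁻¹ := by rw [show (r' : G) * w = w * (r' : G) from this]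
          _ = _ := by group
      refine hz (g⁻¹ * z * g) (isConj_iff.2 ⟨g⁻¹, by group⟩) ?_
      obtain ⟨i, hi⟩ := mem_zpowers_iff.1 hcen
      have hzc : Commute z (g * w * g⁻¹) := hi ▸ (show Commute z σ from d.zσ).zpow_right i
      calc g⁻¹ * z * g * w = g⁻¹ * (z * (g * w * g⁻¹)) * g := by group
        _ = g⁻¹ * (g * w * g⁻¹ * z) * g := by rw [hzc.eq]
        _ = _ := by group

theorem card_sigma_eq {t ρ σ : G} {P : Sylow 3 G} {V B : Subgroup G} (d : Triad z t ρ σ P V B) :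
    Nat.card (centralizer ({σ} : Set G)) = 1080 := by
  haveI : Fact (Nat.Prime 7) := ⟨by norm_num⟩
  obtain ⟨⟨k, hk⟩, h2⟩ := h.card_sigma d
  rw [hk] at h2 ⊢
  have hk7 : k ∣ 7 := Nat.dvd_of_mul_dvd_mul_left (show 0 < 1080 by norm_num)
    (show 1080 * k ∣ 1080 * 7 from h2)
  rcases (Nat.dvd_prime (by norm_num : Nat.Prime 7)).1 hk7 with rfl | rfl
  · rfl
  · exfalso
    obtain ⟨x, hx⟩ := exists_prime_orderOf_dvd_card' (G := ↥(centralizer ({σ} : Set G))) 7
      (by rw [hk]; norm_num)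
    rw [← orderOf_coe] at hx
    obtain ⟨D, hD⟩ := (IsPGroup.of_card (p := 7) (n := 1) (G := zpowers (x : G))
      (by rw [Nat.card_zpowers, hx, pow_one])).exists_le_sylow
    obtain ⟨hC, -⟩ := h.seven_main D
    have hD7 : Nat.card (D : Subgroup G) = 7 := by
      rw [D.card_eq_multiplicity, h.card_eq, show (604800 : ℕ) = 7 ^ 1 * 86400 by norm_num,
        Nat.factorization_mul (by norm_num) (by norm_num), Finsupp.add_apply,
        Nat.Prime.factorization_pow (by norm_num : Nat.Prime 7), Nat.factorization_eq_zero_of_not_dvd (by norm_num :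
        ¬ 7 ∣ 86400)]
      simp
    have heq : zpowers (x : G) = (D : Subgroup G) := eq_of_le_of_card_ge hD (by rw [hD7, Nat.card_zpowers, hx])
    have hσD : σ ∈ centralizer ((D : Subgroup G) : Set G) := mem_centralizer_iff.2 fun w hw => by
      rw [← heq] at hw
      obtain ⟨i, rfl⟩ := mem_zpowers_iff.1 hw
      exact ((show Commute (x : G) σ from mem_centralizer_singleton_iff.1 x.2).zpow_left i).eq
    rw [hC] at hσD
    have := orderOf_dvd_natCard (D : Subgroup G) hσD
    rw [d.hσ, hD7] at this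
    norm_num at this

/-- The normalizer and fusion in a distinguished Sylow 3-subgroup. -/
theorem three_main {t ρ σ : G} {P : Sylow 3 G} {V B : Subgroup G} (d : Triad z t ρ σ P V B) :
    Nat.card (normalizer ((P : Subgroup G) : Set G)) = 216 ∧
      ∀ x ∈ (P : Subgroup G), x ≠ 1 → IsConj σ x ∨ IsConj ρ x := by
  classical
  letI := Fintype.ofFinite G
  haveI : Fact (Nat.Prime 3) := ⟨Nat.prime_three⟩
  set K := centralizer ({σ} : Set G) with hKdef
  set P₀ := K ⊓ centralizer ({ρ} : Set G) with hP₀def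
  have hP₀9 : Nat.card P₀ = 9 := d.P0
  have hσcen : ∀ y ∈ (P : Subgroup G), σ * y = y * σ := (d.cen σ d.σmem).2 (mem_zpowers σ)
  have hPK : (P : Subgroup G) ≤ K := fun y hy => mem_centralizer_singleton_iff.2 (hσcen y hy).symm
  have hσρ : σ * ρ = ρ * σ := hσcen ρ d.ρmem
  have hρP₀ : ρ ∈ P₀ := ⟨hPK d.ρmem, mem_centralizer_singleton_iff.2 rfl⟩
  have hσP₀ : σ ∈ P₀ := ⟨mem_centralizer_singleton_iff.2 rfl, mem_centralizer_singleton_iff.2 hσρ⟩
  have hρnot : ρ ∉ zpowers σ := fun hm => by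
    obtain ⟨k, hk⟩ := mem_zpowers_iff.1 hm
    exact d.ρno z (IsConj.refl z) (hk ▸ ((show Commute z σ from d.zσ).zpow_right k).eq)
  have hP₀P : P₀ ≤ (P : Subgroup G) := by
    have hle : zpowers ρ ⊔ zpowers σ ≤ P₀ := sup_le (zpowers_le.2 hρP₀) (zpowers_le.2 hσP₀)
    have hd : Nat.card ↥(zpowers ρ ⊔ zpowers σ) ∣ 9 := hP₀9 ▸ card_dvd_of_le hle
    have h3 : 3 < Nat.card ↥(zpowers ρ ⊔ zpowers σ) := by
      by_contra h3
      have e := eq_of_le_of_card_ge (le_sup_right : zpowers σ ≤ zpowers ρ ⊔ zpowers σ)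
        (by rw [Nat.card_zpowers, d.hσ]; omega)
      exact hρnot (e.ge (mem_sup_left (mem_zpowers ρ)))
    have heq : zpowers ρ ⊔ zpowers σ = P₀ := eq_of_le_of_card_ge hle (by
      rw [hP₀9]
      obtain ⟨i, hi, e⟩ := (Nat.dvd_prime_pow Nat.prime_three (m := 2)).1 (show _ ∣ 3 ^ 2 from hd)
      rw [e] at h3 ⊢
      interval_cases i <;> omega)
    exact heq ▸ sup_le (zpowers_le.2 d.ρmem) (zpowers_le.2 d.σmem)
  -- the normalizer of `P₀` inside the centralizer of `σ`
  set X := K ⊓ normalizer (P₀ : Set G) with hXdef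
  have hPX : (P : Subgroup G) ≤ X := le_inf hPK fun y hy => mem_normalizer_of_le fun v hv => by
    have hc := d.comm y hy v (hP₀P hv)
    have := mul_mem (zpowers_le.2 hσP₀ hc) hv
    rwa [inv_mul_cancel_right] at this
  obtain ⟨eB⟩ := d.iso
  have hρA : eB ⟨ρ, d.ρB⟩ * eB ⟨ρ, d.ρB⟩ * eB ⟨ρ, d.ρB⟩ = 1 ∧ eB ⟨ρ, d.ρB⟩ ≠ 1 := by
    have ho : orderOf (eB ⟨ρ, d.ρB⟩) = 3 := by rw [MulEquiv.orderOf_eq, orderOf_mk, d.hρ]
    refine ⟨?_, fun e => by rw [e, orderOf_one] at ho; omega⟩
    rw [← pow_orderOf_eq_one (eB ⟨ρ, d.ρB⟩), ho, pow_succ, pow_two]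
  obtain ⟨τ, hτK, hτρ⟩ : ∃ τ ∈ K, τ * ρ * τ⁻¹ = ρ⁻¹ := by
    obtain ⟨x, hx⟩ := AltFive.three_inv ⟨eB ⟨ρ, d.ρB⟩, hρA⟩
    obtain ⟨k, rfl⟩ := eB.surjective x
    refine ⟨k, d.leσ k.2, ?_⟩
    have hx' : eB k * eB ⟨ρ, d.ρB⟩ * (eB k)⁻¹ = (eB ⟨ρ, d.ρB⟩)⁻¹ := hx
    rw [← map_inv, ← map_inv, ← map_mul, ← map_mul] at hx'
    exact congrArg Subtype.val (eB.injective hx')
  have hτX : τ ∈ X := ⟨hτK, mem_normalizer_of_le fun v hv => by
    refine mem_inf.2 ⟨mul_mem (mul_mem hτK hv.1) (inv_mem hτK), ?_⟩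
    have hcc : centralizer ({ρ} : Set G) = centralizer ({τ * ρ * τ⁻¹} : Set G) := by
      rw [hτρ]; exact centralizer_of_zpowers_eq zpowers_inv.symm
    rw [hcc, mem_centralizer_conj]
    simpa [mul_assoc] using hv.2⟩
  have hXρ : X ⊓ centralizer ({ρ} : Set G) = P₀ :=
    le_antisymm (fun v hv => ⟨hv.1.1, hv.2⟩) fun v hv => ⟨⟨hv.1, le_normalizer hv⟩, hv.2⟩
  have horb := card_orbit_mul X ρ
  rw [hXρ, hP₀9] at horb
  set m := Nat.card {y : G // ∃ c ∈ X, c * ρ * c⁻¹ = y} with hm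
  have hm6 : m ≤ 6 := by
    rw [hm, Nat.card_eq_fintype_card, Fintype.card_subtype]
    have hsub : (Finset.univ.filter fun y => ∃ c ∈ X, c * ρ * c⁻¹ = y) ⊆
        (Finset.univ.filter fun y => y ∈ P₀) \ (Finset.univ.filter fun y => y ∈ zpowers σ) := by
      intro y hy
      obtain ⟨c, hc, rfl⟩ := (Finset.mem_filter.1 hy).2
      simp only [Finset.mem_sdiff, Finset.mem_filter, Finset.mem_univ, true_and]
      refine ⟨(mem_normalizer_iff.1 hc.2 ρ).1 hρP₀, fun hm => hρnot ?_⟩
      obtain ⟨i, hi⟩ := mem_zpowers_iff.1 hm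
      have hcσ : Commute c (σ ^ i) := (show Commute c σ from mem_centralizer_singleton_iff.1 hc.1).zpow_right i
      refine mem_zpowers_iff.2 ⟨i, ?_⟩
      calc σ ^ i = c⁻¹ * (c * σ ^ i) := by group
        _ = c⁻¹ * (σ ^ i * c) := by rw [hcσ.eq]
        _ = ρ := by rw [hi]; group
    refine (Finset.card_le_card hsub).trans ?_
    rw [Finset.card_sdiff_of_subset (fun y hy => by
      simp only [Finset.mem_filter, Finset.mem_univ, true_and] at hy ⊢
      exact zpowers_le.2 hσP₀ hy), ← Fintype.card_subtype, ← Fintype.card_subtype, ← Nat.card_eq_fintype_card,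
      ← Nat.card_eq_fintype_card]
    show Nat.card P₀ - Nat.card (zpowers σ) ≤ 6
    rw [hP₀9, Nat.card_zpowers, d.hσ]
  have h27X : 27 ∣ Nat.card X := d.card ▸ card_dvd_of_le hPX
  have hX54 : Nat.card X = 54 := by
    rw [← horb] at h27X ⊢
    have hm3 : 3 ∣ m := Nat.dvd_of_mul_dvd_mul_right (show 0 < 9 by norm_num) (show 3 * 9 ∣ m * 9 from h27X)
    have hm0 : m ≠ 0 := fun e => by rw [e, zero_mul] at horb; exact Nat.card_pos.ne' horb.symm
    by_contra hne
    have hX27 : Nat.card X = 27 := by rw [← horb]; omega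
    have hPeq : (P : Subgroup G) = X := eq_of_le_of_card_ge hPX (by rw [hX27, d.card])
    have hc := d.comm τ (hPeq.ge hτX) ρ d.ρmem
    rw [hτρ] at hc
    refine hρnot ?_
    have e : ρ⁻¹ * ρ⁻¹ = ρ := by
      rw [← _root_.mul_inv_rev]
      refine inv_eq_of_mul_eq_one_right ?_
      rw [← pow_orderOf_eq_one ρ, d.hρ, pow_succ, pow_two]
    rwa [e] at hc
  set N := normalizer ((P : Subgroup G) : Set G) with hNdef
  have hXN : X ≤ N := by
    have hi : ((P : Subgroup G).subgroupOf X).index = 2 := by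
      have := ((P : Subgroup G).subgroupOf X).card_mul_index
      rw [Nat.card_congr (subgroupOfEquivOfLe hPX).toEquiv, d.card, hX54] at this
      omega
    have hn := normal_of_index_eq_two hi
    intro x hx
    refine mem_normalizer_of_le fun v hv => ?_
    exact mem_subgroupOf.1 (hn.conj_mem ⟨v, hPX hv⟩ (mem_subgroupOf.2 hv) ⟨x, hx⟩)
  have h5 : ¬ 5 ∣ Nat.card N := by
    intro h5
    haveI : Fact (Nat.Prime 5) := ⟨Nat.prime_five⟩
    obtain ⟨x, hx⟩ := exists_prime_orderOf_dvd_card' (G := N) 5 h5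
    rw [← orderOf_coe] at hx
    letI : MulAction (zpowers (x : G)) (P : Subgroup G) :=
      { smul := fun g a => ⟨(g : G) * a * (g : G)⁻¹,
          (mem_normalizer_iff.1 (zpowers_le.2 x.2 g.2) (a : G)).1 a.2⟩
        one_smul := fun a => Subtype.ext (by show (1 : G) * a * (1 : G)⁻¹ = a; group)
        mul_smul := fun g g' a => Subtype.ext (by
          show (g : G) * g' * a * ((g : G) * g')⁻¹ = (g : G) * ((g' : G) * a * (g' : G)⁻¹) * (g : G)⁻¹
          group) }
    have hmod := (IsPGroup.of_card (p := 5) (n := 1) (G := zpowers (x : G))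
      (by rw [Nat.card_zpowers, hx, pow_one])).card_modEq_card_fixedPoints (P : Subgroup G)
    have hfix : Nat.card (MulAction.fixedPoints (zpowers (x : G)) (P : Subgroup G)) =
        Nat.card ((P : Subgroup G) ⊓ centralizer ({(x : G)} : Set G) : Subgroup G) := Nat.card_congr
      { toFun := fun a => ⟨a.1.1, a.1.2, mem_centralizer_singleton_iff.2 (by
          have e : (x : G) * (a.1 : G) * (x : G)⁻¹ = a.1 := congrArg Subtype.val (a.2 ⟨x, mem_zpowers (x : G)⟩)
          exact (mul_inv_eq_iff_eq_mul.1 e).symm)⟩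
        invFun := fun a => ⟨⟨a.1, a.2.1⟩, fun g => Subtype.ext (by
          show (g : G) * a.1 * (g : G)⁻¹ = a.1
          obtain ⟨i, hi⟩ := mem_zpowers_iff.1 g.2
          rw [← hi, (show Commute (x : G) a.1 from
            (mem_centralizer_singleton_iff.1 a.2.2).symm).zpow_left i, mul_inv_cancel_right])⟩
        left_inv := fun a => rfl
        right_inv := fun a => rfl }
    rw [hfix, d.card] at hmod
    have hdvd : Nat.card ((P : Subgroup G) ⊓ centralizer ({(x : G)} : Set G) : Subgroup G) ∣ 3 ^ 3 :=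
      (card_dvd_of_le inf_le_left).trans (dvd_of_eq (d.card.trans (by norm_num)))
    obtain ⟨i, hi, e⟩ := (Nat.dvd_prime_pow Nat.prime_three).1 hdvd
    rw [e] at hmod
    have hall : (P : Subgroup G) ≤ centralizer ({(x : G)} : Set G) := by
      have hi3 : i = 3 := by
        interval_cases i <;> simp_all [Nat.ModEq]
      have := eq_of_le_of_card_ge (inf_le_left : (P : Subgroup G) ⊓ centralizer ({(x : G)} : Set G) ≤ P)
        (by rw [e, d.card, hi3]; norm_num)
      exact this.ge.trans inf_le_right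
    have hxρ : (x : G) ∈ centralizer ({ρ} : Set G) :=
      mem_centralizer_singleton_iff.2 (mem_centralizer_singleton_iff.1 (hall d.ρmem)).symm
    have := orderOf_dvd_natCard _ hxρ
    rw [hx, d.ρcard] at this
    norm_num at this
  -- inside the centralizer of `σ`
  have hK := h.card_sigma_eq d
  have hNK : Nat.card (N ⊓ K : Subgroup G) = 108 := by
    obtain ⟨T, hT⟩ := (IsPGroup.of_card (p := 3) (n := 3) (G := (P : Subgroup G).subgroupOf K)
      (by rw [Nat.card_congr (subgroupOfEquivOfLe hPK).toEquiv, d.card]; norm_num)).exists_le_sylow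
    have hTP : (T : Subgroup K) = (P : Subgroup G).subgroupOf K := (eq_of_le_of_card_ge hT (by
      rw [Nat.card_congr (subgroupOfEquivOfLe hPK).toEquiv, d.card]
      obtain ⟨i, hi⟩ := IsPGroup.iff_card.1 T.isPGroup'
      have hd := card_subgroup_dvd_card (T : Subgroup K)
      rw [hi, hK] at hd
      have hi3 : i ≤ 3 := by
        by_contra hi3
        exact absurd ((pow_dvd_pow 3 (show 4 ≤ i by omega)).trans hd) (by norm_num)
      rw [hi]; exact (Nat.pow_le_pow_right (by norm_num) hi3).trans (by norm_num))).symm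
    have hTN : normalizer ((T : Subgroup K) : Set K) = (N ⊓ K).subgroupOf K := by
      ext y
      rw [mem_subgroupOf, mem_inf, mem_normalizer_iff, hTP]
      constructor
      · intro hy
        refine ⟨mem_normalizer_of_le fun v hv => ?_, y.2⟩
        exact mem_subgroupOf.1 ((hy ⟨v, hPK hv⟩).1 (mem_subgroupOf.2 hv))
      · rintro ⟨hy, -⟩ v
        rw [mem_subgroupOf, mem_subgroupOf]
        exact mem_normalizer_iff.1 hy v
    have hcount : Nat.card (N ⊓ K : Subgroup G) * Nat.card (Sylow 3 K) = 1080 := by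
      rw [show Nat.card (Sylow 3 K) = (normalizer ((T : Subgroup K) : Set K)).index from
        T.card_eq_index_normalizer, hTN,
        ← Nat.card_congr (subgroupOfEquivOfLe (inf_le_right : N ⊓ K ≤ K)).toEquiv, ← hK]
      exact ((N ⊓ K).subgroupOf K).card_mul_index
    have hmod : Nat.card (Sylow 3 K) % 3 = 1 := card_sylow_modEq_one 3 K
    obtain ⟨q, hq⟩ : 54 ∣ Nat.card (N ⊓ K : Subgroup G) :=
      hX54 ▸ card_dvd_of_le (le_inf hXN inf_le_left)
    have h5' : ¬ 5 ∣ q := fun e => h5 ((e.trans (Dvd.intro_left 54 hq.symm)).trans (card_dvd_of_le inf_le_left))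
    rw [hq] at hcount ⊢
    have hq20 : q ∣ 20 := ⟨Nat.card (Sylow 3 K), Nat.eq_of_mul_eq_mul_left (show 0 < 54 by norm_num)
      (show 54 * 20 = 54 * (q * Nat.card (Sylow 3 K)) by rw [← mul_assoc, hcount])⟩
    have hqle := Nat.le_of_dvd (by norm_num) hq20
    interval_cases q <;> omega
  -- the inverting element
  obtain ⟨e₁, he₁, he₁σ⟩ : ∃ e ∈ centralizer ({z} : Set G), e * σ * e⁻¹ = σ⁻¹ := by
    obtain ⟨F⟩ := h.exists_frame
    have hσC : σ ∈ centralizer ({z} : Set G) := mem_centralizer_singleton_iff.2 d.zσ.symm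
    set π₀ := F.π ⟨σ, hσC⟩ with hπ₀
    have hπo : π₀ * π₀ * π₀ = 1 ∧ π₀ ≠ 1 := by
      refine ⟨?_, fun e => ?_⟩
      · rw [hπ₀, ← map_mul, ← map_mul, show (⟨σ, hσC⟩ : ↥(centralizer ({z} : Set G))) * ⟨σ, hσC⟩ * ⟨σ, hσC⟩ = 1
          from Subtype.ext (show σ * σ * σ = 1 by rw [← pow_orderOf_eq_one σ, d.hσ, pow_succ, pow_two]), map_one]
      · have := orderOf_dvd_natCard Q ((F.ker _).1 e)
        rw [d.hσ, h.card] at this
        norm_num at this
    obtain ⟨x, hx⟩ := AltFive.three_inv ⟨π₀, hπo⟩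
    obtain ⟨c₀, rfl⟩ := F.surj x
    have hx' : F.π c₀ * π₀ * (F.π c₀)⁻¹ = π₀⁻¹ := hx
    -- Sylow in the preimage
    set M := (zpowers π₀).comap F.π with hM
    have hvM : c₀ * ⟨σ, hσC⟩ * c₀⁻¹ ∈ M := by
      rw [hM, mem_comap, map_mul, map_mul, map_inv, hx']
      exact inv_mem (mem_zpowers π₀)
    have hσM : (⟨σ, hσC⟩ : ↥(centralizer ({z} : Set G))) ∈ M := mem_zpowers π₀
    have hS3 : ∀ y : M, orderOf y = 3 → ∃ S : Sylow 3 M, (S : Subgroup M) = zpowers y := by
      intro y hy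
      obtain ⟨S, hS⟩ := (IsPGroup.of_card (p := 3) (n := 1) (G := zpowers y)
        (by rw [Nat.card_zpowers, hy, pow_one])).exists_le_sylow
      refine ⟨S, (eq_of_le_of_card_ge hS ?_).symm⟩
      obtain ⟨i, hi⟩ := IsPGroup.iff_card.1 S.isPGroup'
      have hd := (card_subgroup_dvd_card (S : Subgroup M)).trans (card_subgroup_dvd_card M)
      rw [hi, h.card_C] at hd
      have hi1 : i ≤ 1 := by
        by_contra hi1
        exact absurd ((pow_dvd_pow 3 (show 2 ≤ i by omega)).trans hd) (by norm_num)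
      rw [hi, Nat.card_zpowers, hy]
      exact (Nat.pow_le_pow_right (by norm_num) hi1).trans (by norm_num)
    obtain ⟨S, hS⟩ := hS3 ⟨_, hvM⟩ (by
      rw [orderOf_mk, show orderOf (c₀ * ⟨σ, hσC⟩ * c₀⁻¹) = orderOf (⟨σ, hσC⟩ : ↥(centralizer ({z} : Set G)))
        from orderOf_injective (MulAut.conj c₀).toMonoidHom (MulAut.conj c₀).injective _, orderOf_mk]
      exact d.hσ)
    obtain ⟨S', hS'⟩ := hS3 ⟨_, hσM⟩ (by rw [orderOf_mk, orderOf_mk]; exact d.hσ)
    obtain ⟨q, hq⟩ := MulAction.exists_smul_eq M S S'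
    have hmem : q * ⟨_, hvM⟩ * q⁻¹ ∈ (S' : Subgroup M) := by
      rw [← hq, Sylow.coe_subgroup_smul, hS]; exact ⟨_, mem_zpowers _, rfl⟩
    rw [hS', mem_zpowers_iff] at hmem
    obtain ⟨i, hi⟩ := hmem
    have hi' : σ ^ i = ((q : ↥(centralizer ({z} : Set G))) : G) * ((c₀ : G) * σ * (c₀ : G)⁻¹) *
        ((q : ↥(centralizer ({z} : Set G))) : G)⁻¹ :=
      congrArg (fun y : M => ((y : ↥(centralizer ({z} : Set G))) : G)) hi
    refine ⟨((q : ↥(centralizer ({z} : Set G))) : G) * c₀, mul_mem (q : ↥(centralizer ({z} : Set G))).2 c₀.2, ?_⟩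
    rw [show ((q : ↥(centralizer ({z} : Set G))) : G) * c₀ * σ * (((q : ↥(centralizer ({z} : Set G))) : G) * c₀)⁻¹ =
      ((q : ↥(centralizer ({z} : Set G))) : G) * ((c₀ : G) * σ * (c₀ : G)⁻¹) *
        ((q : ↥(centralizer ({z} : Set G))) : G)⁻¹ by group, ← hi']
    have hπq : Commute (F.π (q : ↥(centralizer ({z} : Set G)))) π₀ := by
      obtain ⟨j, hj⟩ := mem_zpowers_iff.1 (show F.π (q : ↥(centralizer ({z} : Set G))) ∈ zpowers π₀ from q.2)
      rw [← hj]; exact (Commute.refl π₀).zpow_left j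
    have himg : π₀ ^ i = π₀⁻¹ := by
      have := congrArg (fun y : M => F.π (y : ↥(centralizer ({z} : Set G)))) hi
      simp only [SubgroupClass.coe_zpow, Subgroup.coe_mul, Subgroup.coe_inv, map_zpow, map_mul, map_inv] at this
      rw [← hπ₀, hx', (hπq.inv_right).eq, mul_inv_cancel_right] at this
      exact this
    rcases pow_cases_three d.hσ (zpow_mem (mem_zpowers σ) i) with e | e | e
    · exfalso
      have hh : (⟨σ, hσC⟩ : ↥(centralizer ({z} : Set G))) ^ i = 1 := Subtype.ext (by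
        rw [SubgroupClass.coe_zpow]; exact e)
      have := congrArg F.π hh
      rw [map_zpow, map_one, ← hπ₀, himg, inv_eq_one] at this
      exact hπo.2 this
    · exfalso
      have hh : (⟨σ, hσC⟩ : ↥(centralizer ({z} : Set G))) ^ i = ⟨σ, hσC⟩ := Subtype.ext (by
        rw [SubgroupClass.coe_zpow]; exact e)
      have := congrArg F.π hh
      rw [map_zpow, ← hπ₀, himg] at this
      refine hπo.2 ?_
      have h2 : π₀ * π₀ = 1 := by nth_rw 1 [← this]; exact inv_mul_cancel π₀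
      have h3 := hπo.1
      rwa [h2, one_mul] at h3
    · exact e
  obtain ⟨e₂, he₂N, he₂σ⟩ : ∃ e ∈ N, e * σ * e⁻¹ = σ⁻¹ := by
    obtain ⟨k, hk, hkN⟩ := exists_normalizing P hPK (e := e₁) fun w hw => by
      refine mem_centralizer_singleton_iff.2 ?_
      have hcw : Commute (e₁ * w * e₁⁻¹) σ⁻¹ := by
        rw [← he₁σ]
        show e₁ * w * e₁⁻¹ * (e₁ * σ * e₁⁻¹) = e₁ * σ * e₁⁻¹ * (e₁ * w * e₁⁻¹)
        calc e₁ * w * e₁⁻¹ * (e₁ * σ * e₁⁻¹) = e₁ * (w * σ) * e₁⁻¹ := by group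
          _ = e₁ * (σ * w) * e₁⁻¹ := by rw [hσcen w hw]
          _ = _ := by group
      simpa using hcw.inv_right.eq
    refine ⟨k * e₁, hkN, ?_⟩
    have hkσ : Commute k σ⁻¹ := (show Commute k σ from mem_centralizer_singleton_iff.1 hk).inv_right
    rw [show k * e₁ * σ * (k * e₁)⁻¹ = k * (e₁ * σ * e₁⁻¹) * k⁻¹ by group, he₁σ, hkσ.eq, mul_inv_cancel_right]
  have hσne : σ ≠ σ⁻¹ := fun e => by
    have hd : orderOf σ ∣ 2 := orderOf_dvd_of_pow_eq_one (by rw [pow_two]; nth_rw 1 [e]; exact inv_mul_cancel σ)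
    rw [d.hσ] at hd
    norm_num at hd
  have hcenN : ∀ c ∈ N, c * σ * c⁻¹ = σ ∨ c * σ * c⁻¹ = σ⁻¹ := by
    intro c hc
    have hmem : c * σ * c⁻¹ ∈ (P : Subgroup G) := (mem_normalizer_iff.1 hc σ).1 d.σmem
    have hz : c * σ * c⁻¹ ∈ zpowers σ := (d.cen _ hmem).1 fun y hy => by
      have hy' := (mem_normalizer_iff.1 (inv_mem hc) y).1 hy
      rw [inv_inv] at hy'
      calc c * σ * c⁻¹ * y = c * (σ * (c⁻¹ * y * c)) * c⁻¹ := by group
        _ = c * (c⁻¹ * y * c * σ) * c⁻¹ := by rw [hσcen _ hy']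
        _ = y * (c * σ * c⁻¹) := by group
    rcases pow_cases_three d.hσ hz with e | e | e
    · exact absurd (conj_eq_one_iff.1 e) fun e' => by
        have := d.hσ; rw [e', orderOf_one] at this; omega
    · exact Or.inl e
    · exact Or.inr e
  have hN : Nat.card N = 216 := by
    have hh := card_orbit_mul N σ
    rw [← hKdef, hNK] at hh
    have e2 : Nat.card {y : G // ∃ c ∈ N, c * σ * c⁻¹ = y} = 2 := by
      have e : ∀ y, (∃ c ∈ N, c * σ * c⁻¹ = y) ↔ y ∈ ({σ, σ⁻¹} : Set G) := by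
        intro y
        constructor
        · rintro ⟨c, hc, rfl⟩
          simpa using hcenN c hc
        · rintro (rfl | rfl)
          exacts [⟨1, one_mem _, by simp⟩, ⟨e₂, he₂N, he₂σ⟩]
      rw [Nat.card_congr (Equiv.subtypeEquivRight e), Nat.card_coe_set_eq, Set.ncard_pair hσne]
    rw [e2] at hh
    omega
  refine ⟨hN, ?_⟩
  -- the orbit of `ρ`
  have hNρ : Nat.card (N ⊓ centralizer ({ρ} : Set G) : Subgroup G) ∣ 9 := by
    have hd : Nat.card (N ⊓ centralizer ({ρ} : Set G) : Subgroup G) ∣ 9 * 4 :=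
      (card_dvd_of_le inf_le_right).trans (dvd_of_eq (d.ρcard.trans (by norm_num)))
    refine Nat.Coprime.dvd_of_dvd_mul_right
      (Nat.Coprime.pow_right 2 ((Nat.Prime.coprime_iff_not_dvd Nat.prime_two).2 ?_).symm) hd
    intro h2
    haveI : Fact (Nat.Prime 2) := ⟨Nat.prime_two⟩
    obtain ⟨u, hu⟩ := exists_prime_orderOf_dvd_card' (G := ↥(N ⊓ centralizer ({ρ} : Set G))) 2 h2
    rw [← orderOf_coe] at hu
    have huV := d.four _ u.2.2 (invol_mul_self hu)
    have hu1 : (u : G) ≠ 1 := invol_ne_one hu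
    have hui : (u : G)⁻¹ = u := inv_eq_of_mul_eq_one_right (invol_mul_self hu)
    rcases hcenN _ u.2.1 with e | e
    · exact hu1 (d.σV _ huV (mul_inv_eq_iff_eq_mul.1 e).symm)
    · have hv := mul_mem (d.norm _ huV) huV
      rw [hui] at e
      have e2 : σ * (u : G) * σ⁻¹ * u = σ * σ := by
        calc σ * (u : G) * σ⁻¹ * u = σ * (u : G) * ((u : G) * σ * u) * u := by rw [e]
          _ = σ * ((u : G) * u) * σ * ((u : G) * u) := by group
          _ = σ * σ := by rw [invol_mul_self hu]; group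
      rw [e2] at hv
      have h1 := d.Vsq _ hv
      refine absurd (orderOf_dvd_of_pow_eq_one (x := σ) (n := 4) ?_) (by rw [d.hσ]; norm_num)
      rw [← h1, pow_succ, pow_succ, pow_two]; group
  intro x hx hx1
  by_cases hxσ : x ∈ zpowers σ
  · left
    rcases pow_cases_three d.hσ hxσ with e | e | e
    · exact absurd e hx1
    · rw [e]
    · exact isConj_iff.2 ⟨e₂, by rw [he₂σ, e]⟩
  right
  have hh := card_orbit_mul N ρ
  rw [hN] at hh
  obtain ⟨q, hq⟩ := hNρ
  let f : {y : G // ∃ c ∈ N, c * ρ * c⁻¹ = y} → {y : (P : Subgroup G) // (y : G) ∉ zpowers σ} := fun y =>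
    ⟨⟨y.1, by obtain ⟨c, hc, e⟩ := y.2; exact e ▸ (mem_normalizer_iff.1 hc ρ).1 d.ρmem⟩, fun hm => by
      obtain ⟨c, hc, e⟩ := y.2
      have hm' : c * ρ * c⁻¹ ∈ zpowers σ := e ▸ hm
      obtain ⟨i, hi⟩ := mem_zpowers_iff.1 hm'
      refine hρnot ?_
      rw [show ρ = c⁻¹ * (c * ρ * c⁻¹) * c⁻¹⁻¹ by group, ← hi, ← conj_zpow]
      refine zpow_mem ?_ i
      rcases hcenN _ (inv_mem hc) with e' | e' <;> rw [e']
      · exact mem_zpowers σ
      · exact inv_mem (mem_zpowers σ)⟩
  have hf : Function.Injective f := fun u w e => Subtype.ext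
    (congrArg (fun v : {y : (P : Subgroup G) // (y : G) ∉ zpowers σ} => ((v : (P : Subgroup G)) : G)) e)
  have hcardR : Nat.card {y : (P : Subgroup G) // (y : G) ∉ zpowers σ} = 24 := by
    letI := Fintype.ofFinite (P : Subgroup G)
    rw [Nat.card_eq_fintype_card, Fintype.card_subtype_compl, ← Nat.card_eq_fintype_card,
      ← Nat.card_eq_fintype_card, show Nat.card (P : Subgroup G) = 27 from d.card]
    have : Nat.card {y : (P : Subgroup G) // (y : G) ∈ zpowers σ} = 3 := by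
      refine Eq.trans ?_ ((Nat.card_zpowers σ).trans d.hσ)
      exact Nat.card_congr
        { toFun := fun y => ⟨y.1.1, y.2⟩
          invFun := fun y => ⟨⟨y.1, zpowers_le.2 d.σmem y.2⟩, y.2⟩
          left_inv := fun y => rfl
          right_inv := fun y => rfl }
    omega
  have hfb : Function.Bijective f := by
    refine (Nat.bijective_iff_injective_and_card f).2 ⟨hf, ?_⟩
    have hle := Nat.card_le_card_of_injective f hf
    rw [hcardR] at hle ⊢
    have hc9 := Nat.le_of_dvd (show 0 < 9 by norm_num) (Dvd.intro q hq.symm)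
    nlinarith
  obtain ⟨y, hy⟩ := hfb.2 ⟨⟨x, hx⟩, hxσ⟩
  obtain ⟨c, -, e⟩ := y.2
  exact isConj_iff.2 ⟨c, e.trans
    (congrArg (fun v : {y : (P : Subgroup G) // (y : G) ∉ zpowers σ} => ((v : (P : Subgroup G)) : G)) hy)⟩

end Hyp

end CfsgLib.Invol.JTwo
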