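import Cfsg.Agent.Lib.Invol.JTwo.Three

/-!
# Sylow 3-subgroups and Sylow 7-normalizers: conclusions
-/

set_option autoImplicit false

namespace CfsgLib.Invol.JTwo

open Subgroup

universe v

variable {G : Type v} [Group G] [Finite G] {z : G} {Q : Subgroup G}

namespace Hyp

variable (h : Hyp z Q)
include h

theorem sylow_three (P : Sylow 3 G) :
    Cfsg.IsExtraspecial 3 (P : Subgroup G) ∧ Nat.card P = 27 ∧
    Nat.card (normalizer ((P : Subgroup G) : Set G)) = 216 ∧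
    ∃ a b : G, orderOf a = 3 ∧ orderOf b = 3 ∧ ¬ IsConj a b ∧
      ∀ c : G, orderOf c = 3 → IsConj c a ∨ IsConj c b := by
  haveI : Fact (Nat.Prime 3) := ⟨Nat.prime_three⟩
  obtain ⟨t, ρ, σ, P₁, V, B, d⟩ := h.exists_triad
  obtain ⟨hN, hfus⟩ := h.three_main d
  obtain ⟨g, hg⟩ := MulAction.exists_smul_eq G P P₁
  have hmem : ∀ w ∈ (P : Subgroup G), g * w * g⁻¹ ∈ (P₁ : Subgroup G) := fun w hw => by
    rw [← hg, Sylow.coe_subgroup_smul]; exact ⟨w, hw, rfl⟩
  have hback : ∀ w ∈ (P₁ : Subgroup G), g⁻¹ * w * g ∈ (P : Subgroup G) := fun w hw => by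
    rw [← hg, Sylow.coe_subgroup_smul] at hw
    obtain ⟨r, hr, rfl⟩ := hw
    show g⁻¹ * (g * r * g⁻¹) * g ∈ (P : Subgroup G)
    rw [show g⁻¹ * (g * r * g⁻¹) * g = r by group]
    exact hr
  have hP := h.card_sylow_three P
  have hexp : ∀ w ∈ (P : Subgroup G), w ^ 3 = 1 := by
    intro w hw
    by_cases hw1 : w = 1
    · rw [hw1, one_pow]
    have key : ∀ v : G, orderOf v = 3 → IsConj v (g * w * g⁻¹) → w ^ 3 = 1 := by
      intro v hv hc
      obtain ⟨c, hc⟩ := isConj_iff.1 hc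
      have e : (g * w * g⁻¹) ^ 3 = 1 := by
        rw [← hc, conj_pow, ← hv, pow_orderOf_eq_one, mul_one, mul_inv_cancel]
      rwa [conj_pow, conj_eq_one_iff] at e
    rcases hfus _ (hmem w hw) (fun e => hw1 (conj_eq_one_iff.1 e)) with e | e
    · exact key σ d.hσ e
    · exact key ρ d.hρ e
  refine ⟨?_, hP, ?_, σ, ρ, d.hσ, d.hρ, fun e => ?_, fun c hc => ?_⟩
  · have hρnot : ρ ∉ zpowers σ := fun hm => by
      obtain ⟨k, hk⟩ := mem_zpowers_iff.1 hm
      exact d.ρno z (IsConj.refl z) (hk ▸ ((show Commute z σ from d.zσ).zpow_right k).eq)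
    have hne := mt (d.cen ρ d.ρmem).1 hρnot
    push Not at hne
    obtain ⟨y, hy, hρy⟩ := hne
    refine CfsgLib.GenExtraspecial.isExtraspecial_of_cube (p := 3) (G := ↥(P : Subgroup G))
      (by rw [hP]; norm_num) (a := ⟨_, hback ρ d.ρmem⟩) (b := ⟨_, hback y hy⟩)
      (fun e => hρy ?_) (fun w => Subtype.ext (hexp w w.2))
    have e' : g⁻¹ * ρ * g * (g⁻¹ * y * g) = g⁻¹ * y * g * (g⁻¹ * ρ * g) := congrArg Subtype.val e
    calc ρ * y = g * (g⁻¹ * ρ * g * (g⁻¹ * y * g)) * g⁻¹ := by group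
      _ = g * (g⁻¹ * y * g * (g⁻¹ * ρ * g)) * g⁻¹ := by rw [e']
      _ = y * ρ := by group
  · have e1 := (normalizer ((P : Subgroup G) : Set G)).card_mul_index
    have e2 := (normalizer ((P₁ : Subgroup G) : Set G)).card_mul_index
    rw [show (normalizer ((P : Subgroup G) : Set G)).index = Nat.card (Sylow 3 G) from
      P.card_eq_index_normalizer.symm, h.card_eq] at e1
    rw [show (normalizer ((P₁ : Subgroup G) : Set G)).index = Nat.card (Sylow 3 G) from
      P₁.card_eq_index_normalizer.symm, hN, h.card_eq] at e2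
    exact Nat.eq_of_mul_eq_mul_right (Nat.card_pos : 0 < Nat.card (Sylow 3 G)) (e1.trans e2.symm)
  · obtain ⟨c, rfl⟩ := isConj_iff.1 e
    refine d.ρno (c * z * c⁻¹) (isConj_iff.2 ⟨c, rfl⟩) ?_
    calc c * z * c⁻¹ * (c * σ * c⁻¹) = c * (z * σ) * c⁻¹ := by group
      _ = c * (σ * z) * c⁻¹ := by rw [d.zσ]
      _ = _ := by group
  · obtain ⟨R, hR⟩ := (IsPGroup.of_card (p := 3) (n := 1) (G := zpowers c)
      (by rw [Nat.card_zpowers, hc, pow_one])).exists_le_sylow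
    obtain ⟨e, he⟩ := MulAction.exists_smul_eq G R P₁
    have hcP : e * c * e⁻¹ ∈ (P₁ : Subgroup G) := by
      rw [← he, Sylow.coe_subgroup_smul]; exact ⟨c, hR (mem_zpowers c), rfl⟩
    have hc1 : e * c * e⁻¹ ≠ 1 := fun e' => by
      rw [conj_eq_one_iff] at e'
      rw [e', orderOf_one] at hc
      omega
    have hcc : IsConj c (e * c * e⁻¹) := isConj_iff.2 ⟨e, rfl⟩
    exact (hfus _ hcP hc1).imp (fun x => hcc.trans x.symm) (fun x => hcc.trans x.symm)

/-- The normalizer of a Sylow 7-subgroup. -/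
theorem sylow_seven (D : Sylow 7 G) :
    centralizer ((D : Subgroup G) : Set G) = D ∧ Nat.card (normalizer ((D : Subgroup G) : Set G)) = 42 ∧
      ¬ IsMulCommutative (normalizer ((D : Subgroup G) : Set G)) := by
  haveI : Fact (Nat.Prime 7) := ⟨by norm_num⟩
  obtain ⟨hC, hN⟩ := h.seven_main D
  refine ⟨hC, hN, fun hcomm => ?_⟩
  have hle : normalizer ((D : Subgroup G) : Set G) ≤ centralizer ((D : Subgroup G) : Set G) := fun x hx =>
    mem_centralizer_iff.2 fun w hw =>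
      congrArg Subtype.val (hcomm.is_comm.comm (⟨w, le_normalizer hw⟩ : ↥(normalizer ((D : Subgroup G) : Set G))) ⟨x, hx⟩)
  rw [hC] at hle
  have h2 : 2 ∣ Nat.card (D : Subgroup G) := (dvd_trans ⟨21, hN⟩ (card_dvd_of_le hle))
  obtain ⟨n, hn⟩ := IsPGroup.iff_card.1 D.isPGroup'
  rw [hn] at h2
  exact absurd (Nat.prime_two.dvd_of_dvd_pow h2) (by norm_num)

end Hyp

end CfsgLib.Invol.JTwo
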