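import Cfsg.Agent.Lib.Invol.JTwo.Second

/-!
# An element of order three moving the second involution inside the centre of its centralizer
-/

set_option autoImplicit false

namespace CfsgLib.Invol.JTwo

open Subgroup

variable {G : Type*} [Group G] {z : G} {Q : Subgroup G}

local notation "A" => alternatingGroup (Fin 5)

namespace AltFive

theorem center_trivial : ∀ g : A, (∀ k : A, g * k = k * g) → g = 1 := by decide +kernel

theorem four_ne_card : ∀ i : Fin 5, Fintype.card {g : A // g * g = 1 ∧ g ≠ 1 ∧ act g i = i} = 3 := by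
  decide +kernel

end AltFive

/-- The centre of the centralizer of an element. -/
def zc (u : G) : Subgroup G := centralizer ({u} : Set G) ⊓ centralizer (centralizer ({u} : Set G) : Set G)

theorem mem_zc {u x : G} : x ∈ zc u ↔ x * u = u * x ∧ ∀ y, y * u = u * y → y * x = x * y := by
  rw [zc, mem_inf, mem_centralizer_singleton_iff, mem_centralizer_iff]
  simp only [SetLike.mem_coe, mem_centralizer_singleton_iff]

theorem self_mem_zc (u : G) : u ∈ zc u := mem_zc.2 ⟨rfl, fun _ h => h⟩

theorem zc_congr {u v : G} (e : centralizer ({u} : Set G) = centralizer ({v} : Set G)) : zc u = zc v := by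
  rw [zc, zc, e]

theorem centralizer_conj_eq (g : G) {u v : G} (e : centralizer ({u} : Set G) = centralizer ({v} : Set G)) :
    centralizer ({g * u * g⁻¹} : Set G) = centralizer ({g * v * g⁻¹} : Set G) := by
  ext x
  rw [mem_centralizer_conj, mem_centralizer_conj, e]

theorem card_centralizer_conj (g u : G) :
    Nat.card (centralizer ({g * u * g⁻¹} : Set G)) = Nat.card (centralizer ({u} : Set G)) := by
  have e : centralizer ({g * u * g⁻¹} : Set G) = cj g (centralizer ({u} : Set G)) := by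
    ext x
    rw [mem_centralizer_conj, mem_cj]
  rw [e, cj, card_map_of_injective (MulAut.conj g).injective]

theorem mem_sixteen_conj {σ : G} (hσ : σ ∈ centralizer ({z} : Set G)) {u x : G} :
    x ∈ sixteen z (σ * u * σ⁻¹) ↔ σ⁻¹ * x * σ ∈ sixteen z u := by
  show x ∈ centralizer ({z} : Set G) ⊓ centralizer ({σ * u * σ⁻¹} : Set G) ↔
    σ⁻¹ * x * σ ∈ centralizer ({z} : Set G) ⊓ centralizer ({u} : Set G)
  simp only [mem_inf]
  rw [mem_centralizer_conj (z := u)]
  refine and_congr_left fun _ => ⟨fun hx => mul_mem (mul_mem (inv_mem hσ) hx) hσ, fun hx => ?_⟩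
  have := mul_mem (mul_mem hσ hx) (inv_mem hσ)
  simpa [mul_assoc] using this

variable [Finite G]

theorem Hyp.pt_of (h : Hyp z Q) (F : Frame z Q) {t : G} (ht : Out z Q t) {i : Fin 5}
    (hi : AltFive.act (F.π ⟨t, ht.1⟩) i = i) : Pt z Q t (F.p i) := by
  obtain ⟨h1, h2, h3⟩ := h.outer_struct F ht hi
  exact ⟨h, ht, F.mem i, F.inv i, F.ne_one i, F.ne_z i, h1, h2, h3, h.inf_outer F ht hi⟩

namespace Split

variable {t a ρ : G} {V B : Subgroup G} (s : Split z t a ρ V B)
include s

theorem comm_V {v w : G} (hv : v ∈ V) (hw : w ∈ V) : v * w = w * v := by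
  have e : ∀ {x : G}, x ∈ V → x⁻¹ = x := fun hx => inv_eq_of_mul_eq_one_right (by rw [← pow_two]; exact s.sq _ hx)
  have := e (mul_mem hv hw)
  rw [_root_.mul_inv_rev, e hv, e hw] at this
  exact this.symm

theorem central {v : G} (hv : v ∈ V) {x : G} (hx : x ∈ centralizer ({t} : Set G)) : x * v = v * x := by
  obtain ⟨w, hw, b, hb, rfl⟩ := s.fac x hx
  calc w * b * v = w * (v * b) := by rw [mul_assoc, s.comm v hv b hb]
    _ = v * (w * b) := by rw [← mul_assoc, s.comm_V hw hv, mul_assoc]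

theorem zc_eq : zc t = V := by
  refine le_antisymm (fun x hx => ?_) fun v hv => mem_zc.2
    ⟨(s.central s.memV (s.leV hv)), fun y hy => s.central hv (mem_centralizer_singleton_iff.2 hy)⟩
  obtain ⟨hxt, hxc⟩ := mem_zc.1 hx
  obtain ⟨v, hv, b, hb, rfl⟩ := s.fac x (mem_centralizer_singleton_iff.2 hxt)
  obtain ⟨e⟩ := s.iso
  have : (⟨b, hb⟩ : B) = 1 := e.injective (by
    rw [map_one]
    refine AltFive.center_trivial _ fun k => ?_
    obtain ⟨c, rfl⟩ := e.surjective k
    rw [← map_mul, ← map_mul]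
    refine congrArg e (Subtype.ext ?_)
    show b * (c : G) = (c : G) * b
    have h1 := hxc c (mem_centralizer_singleton_iff.1 (s.leB c.2))
    refine mul_left_cancel (a := v) ?_
    calc v * (b * (c : G)) = v * b * c := by group
      _ = c * (v * b) := h1.symm
      _ = v * ((c : G) * b) := by rw [← mul_assoc, ← s.comm v hv _ c.2, mul_assoc])
  rw [show b = 1 from congrArg Subtype.val this, mul_one]
  exact hv

end Split

namespace Pt

variable {t a : G} (p : Pt z Q t a)
include p

theorem centralizer_eq {ρ : G} {V B : Subgroup G} (s : Split z t a ρ V B) {u : G} (hu : u ∈ V) (hu1 : u ≠ 1) :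
    centralizer ({u} : Set G) = centralizer ({t} : Set G) := by
  have huB : u ∉ B := fun e => hu1 (mem_bot.1 (s.inf.le ⟨hu, e⟩))
  obtain ⟨g, hg⟩ := isConj_iff.1 (s.tB u (s.leV hu)
    (orderOf_eq_prime (by exact s.sq u hu) hu1) huB).symm
  refine (eq_of_le_of_card_ge (fun x hx => mem_centralizer_singleton_iff.2 (s.central hu hx)) ?_).symm
  rw [← hg, card_centralizer_conj]

theorem zc_facts : Nat.card (zc t) = 4 ∧ zc t ≤ sixteen z t ∧ (∀ u ∈ zc t, u ∈ Q → u = 1) ∧
    ∀ u ∈ zc t, u ≠ 1 → centralizer ({u} : Set G) = centralizer ({t} : Set G) := by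
  obtain ⟨ρ, V, B, s⟩ := p.exists_split
  rw [s.zc_eq]
  refine ⟨s.cardV, s.leW, fun u hu huQ => ?_, fun u hu hu1 => p.centralizer_eq s hu hu1⟩
  refine mem_bot.1 (s.inf.le ⟨hu, ?_⟩)
  rcases (p.fours u).1 ⟨huQ, mem_centralizer_singleton_iff.1 (s.leV hu)⟩ with e | e | e | e <;> rw [e]
  exacts [B.one_mem, s.triple.1, s.triple.2, mul_mem s.triple.2 s.triple.1]

end Pt

/-- An element of order three normalizing the centralizer of an outer involution without centralizing it. -/
theorem Hyp.exists_twist (h : Hyp z Q) {t : G} (ht : Out z Q t) :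
    ∃ σ : G, orderOf σ = 3 ∧ σ * t * σ⁻¹ ≠ t ∧
      centralizer ({σ * t * σ⁻¹} : Set G) = centralizer ({t} : Set G) := by
  classical
  suffices hs : ∃ u, Out z Q u ∧ ∃ σ : G, orderOf σ = 3 ∧ σ * u * σ⁻¹ ≠ u ∧
      centralizer ({σ * u * σ⁻¹} : Set G) = centralizer ({u} : Set G) by
    obtain ⟨u, hu, σ, hσ, hne, heq⟩ := hs
    obtain ⟨c, -, rfl⟩ := (h.outer_class hu).2 t ht
    have e : c * σ * c⁻¹ * (c * u * c⁻¹) * (c * σ * c⁻¹)⁻¹ = c * (σ * u * σ⁻¹) * c⁻¹ := by group
    refine ⟨c * σ * c⁻¹, ?_, ?_, ?_⟩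
    · rw [← hσ]
      exact orderOf_injective (MulAut.conj c).toMonoidHom (MulAut.conj c).injective σ
    · rw [e]
      exact fun e' => hne (mul_left_cancel (mul_right_cancel e'))
    · rw [e]
      exact centralizer_conj_eq c heq
  letI := Fintype.ofFinite G
  haveI : Fact (Nat.Prime 3) := ⟨Nat.prime_three⟩
  obtain ⟨F⟩ := h.exists_frame
  obtain ⟨i, hi, -⟩ := AltFive.invol_fixed _ (h.pi_invol F ht).1 (h.pi_invol F ht).2
  obtain ⟨σ₀, hσ₀⟩ := exists_prime_orderOf_dvd_card'
    (G := ↥(centralizer ({z} : Set G) ⊓ centralizer ({F.p i} : Set G))) 3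
    (by rw [(h.card_point F i).2]; norm_num)
  rw [← orderOf_coe] at hσ₀
  have hσC : (σ₀ : G) ∈ centralizer ({z} : Set G) := σ₀.2.1
  have hσa : (σ₀ : G) * F.p i = F.p i * σ₀ := mem_centralizer_singleton_iff.1 σ₀.2.2
  obtain ⟨σ, hσdef⟩ : ∃ σ, σ = (σ₀ : G) := ⟨_, rfl⟩
  rw [← hσdef] at hσ₀ hσC hσa
  have hσ3 : σ * σ * σ = 1 := by rw [← pow_orderOf_eq_one σ, hσ₀, pow_succ, pow_two]
  have hπ3 : F.π ⟨σ, hσC⟩ * F.π ⟨σ, hσC⟩ * F.π ⟨σ, hσC⟩ = 1 := by
    rw [← map_mul, ← map_mul, show (⟨σ, hσC⟩ : ↥(centralizer ({z} : Set G))) * ⟨σ, hσC⟩ * ⟨σ, hσC⟩ = 1 from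
      Subtype.ext hσ3, map_one]
  have hπ1 : F.π ⟨σ, hσC⟩ ≠ 1 := fun e => by
    have := orderOf_dvd_natCard Q ((F.ker _).1 e)
    rw [hσ₀, h.card] at this
    norm_num at this
  let c : G → G := fun y => σ * y * σ⁻¹
  have hc3 : ∀ y, c (c (c y)) = y := fun y => by
    calc c (c (c y)) = σ * σ * σ * y * (σ * σ * σ)⁻¹ := by simp only [c]; group
      _ = y := by rw [hσ3]; group
  let InY : G → Prop := fun y => Out z Q y ∧ y * F.p i = F.p i * y
  have hYc : ∀ {y}, InY y → InY (c y) := by
    rintro y ⟨⟨h1, h2, h3⟩, h4⟩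
    refine ⟨⟨mul_mem (mul_mem hσC h1) (inv_mem hσC), fun hm => h2 ?_, ?_⟩, ?_⟩
    · have := h.nrm _ (inv_mem hσC) _ hm
      simpa [c, mul_assoc] using this
    · calc σ * y * σ⁻¹ * (σ * y * σ⁻¹) = σ * (y * y) * σ⁻¹ := by group
        _ = 1 := by rw [h3]; group
    · have e : F.p i = σ * F.p i * σ⁻¹ := by rw [hσa, mul_inv_cancel_right]
      calc σ * y * σ⁻¹ * F.p i = σ * y * σ⁻¹ * (σ * F.p i * σ⁻¹) := by rw [← e]
        _ = σ * (y * F.p i) * σ⁻¹ := by group
        _ = σ * (F.p i * y) * σ⁻¹ := by rw [h4]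
        _ = σ * F.p i * σ⁻¹ * (σ * y * σ⁻¹) := by group
        _ = _ := by rw [← e]
  have hP : ∀ {y}, InY y → Pt z Q y (F.p i) := fun {y} hy =>
    h.pt_of F hy.1 (h.act_of_commute F hy.2)
  let T : G → Finset G := fun u => Finset.univ.filter fun y => y ∈ sixteen z u ∧ y ∉ Q
  have memT : ∀ {u y}, y ∈ T u ↔ y ∈ sixteen z u ∧ y ∉ Q := fun {u y} => by simp [T]
  have hTY : ∀ {u y}, InY u → y ∈ T u → InY y ∧ sixteen z y = sixteen z u := by
    intro u y hu hy
    obtain ⟨hyW, hyQ⟩ := memT.1 hy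
    have p := hP hu
    have hyY : InY y := ⟨⟨hyW.1, hyQ, p.elem y hyW⟩, p.cent y hyW⟩
    refine ⟨hyY, (eq_of_le_of_card_ge (show sixteen z u ≤ sixteen z y from fun x hx =>
      ⟨hx.1, mem_centralizer_singleton_iff.2 (p.comm x hx y hyW)⟩) ?_).symm⟩
    rw [(hP hyY).card_sixteen, p.card_sixteen]
  have hT12 : ∀ {u}, InY u → (T u).card = 12 := by
    intro u hu
    have h16 : (Finset.univ.filter fun y => y ∈ sixteen z u).card = 16 := by
      rw [← (hP hu).card_sixteen, Nat.card_eq_fintype_card, Fintype.card_subtype]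
    have h4 : ((Finset.univ.filter fun y => y ∈ sixteen z u).filter fun y => y ∈ Q).card = 4 := by
      rw [← h.card_inf_outer hu.1, Nat.card_eq_fintype_card, Fintype.card_subtype, Finset.filter_filter]
      congr 1
      ext y
      simp only [Finset.mem_filter, Finset.mem_univ, true_and, mem_inf]
      exact ⟨fun e => ⟨e.2, e.1.2⟩, fun e => ⟨⟨h.le e.1, e.2⟩, e.1⟩⟩
    have := Finset.card_filter_add_card_filter_not (s := Finset.univ.filter fun y => y ∈ sixteen z u)
      (fun y => y ∈ Q)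
    rw [h16, h4, Finset.filter_filter] at this
    show (Finset.univ.filter fun y => y ∈ sixteen z u ∧ y ∉ Q).card = 12
    omega
  have hY24 : (Finset.univ.filter InY).card ≤ 24 := by
    let g : G → A := fun y => if hy : y ∈ centralizer ({z} : Set G) then F.π ⟨y, hy⟩ else 1
    have hg : ∀ {y}, (hy : InY y) → g y = F.π ⟨y, hy.1.1⟩ := fun hy => dif_pos hy.1.1
    refine le_trans (Finset.card_le_mul_card_image (f := g) _ 8 fun b hb => ?_) (le_trans (Nat.mul_le_mul_left 8 (m := 3) ?_) (by norm_num))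
    · obtain ⟨y, hy, rfl⟩ := Finset.mem_image.1 hb
      have hy' : InY y := (Finset.mem_filter.1 hy).2
      rw [← h.card_fiber F hy'.1, Nat.card_eq_fintype_card, Fintype.card_subtype]
      refine Finset.card_le_card fun w hw => ?_
      obtain ⟨hw1, hw2⟩ := Finset.mem_filter.1 hw
      have hw' : InY w := (Finset.mem_filter.1 hw1).2
      rw [hg hw', hg hy'] at hw2
      exact Finset.mem_filter.2 ⟨Finset.mem_univ _, hw'.1, hw2⟩
    · rw [← AltFive.four_ne_card i, Fintype.card_subtype]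
      refine Finset.card_le_card fun b hb => ?_
      obtain ⟨y, hy, rfl⟩ := Finset.mem_image.1 hb
      have hy' : InY y := (Finset.mem_filter.1 hy).2
      rw [hg hy']
      exact Finset.mem_filter.2 ⟨Finset.mem_univ _, (h.pi_invol F hy'.1).1, (h.pi_invol F hy'.1).2,
        h.act_of_commute F hy'.2⟩
  have htY : InY t := ⟨ht, h.commute_point F ht hi⟩
  -- the element of order three normalizes the sixteen
  have hstep : ∀ {u v}, sixteen z u = sixteen z v → sixteen z (c u) = sixteen z (c v) := by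
    intro u v e
    ext x
    rw [mem_sixteen_conj hσC, mem_sixteen_conj hσC, e]
  have hW : sixteen z (c t) = sixteen z t := by
    by_contra hne
    have hne2 : sixteen z (c (c t)) ≠ sixteen z t := fun e => hne (by
      have := hstep e
      rw [hc3] at this
      exact this.symm)
    have hne12 : sixteen z (c (c t)) ≠ sixteen z (c t) := fun e => hne (by
      have e1 := hstep e
      rw [hc3] at e1
      exact e.symm.trans e1.symm)
    have hd : ∀ {u v}, InY u → InY v → sixteen z u ≠ sixteen z v → Disjoint (T u) (T v) := fun hu hv hn =>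
      Finset.disjoint_left.2 fun y h1 h2 => hn ((hTY hu h1).2.symm.trans (hTY hv h2).2)
    have hsub : ∀ {u}, InY u → T u ⊆ Finset.univ.filter InY := fun hu y hy =>
      Finset.mem_filter.2 ⟨Finset.mem_univ _, (hTY hu hy).1⟩
    have hle := Finset.card_le_card (Finset.union_subset (Finset.union_subset (hsub htY) (hsub (hYc htY)))
      (hsub (hYc (hYc htY))))
    rw [Finset.card_union_of_disjoint (Finset.disjoint_union_left.2
        ⟨(hd (hYc (hYc htY)) htY hne2).symm, (hd (hYc (hYc htY)) (hYc htY) hne12).symm⟩),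
      Finset.card_union_of_disjoint (hd htY (hYc htY) (Ne.symm hne)),
      hT12 htY, hT12 (hYc htY), hT12 (hYc (hYc htY))] at hle
    omega
  have hTc : ∀ {y}, y ∈ T t → c y ∈ T t := by
    intro y hy
    obtain ⟨hyY, hyW⟩ := hTY htY hy
    refine memT.2 ⟨?_, (hYc hyY).1.2.1⟩
    rw [← hW, mem_sixteen_conj hσC]
    simpa [c, mul_assoc] using (memT.1 hy).1
  have hmove : ∀ {y}, y ∈ T t → c y ≠ y := by
    intro y hy e
    obtain ⟨hyY, -⟩ := hTY htY hy
    refine (h.pi_invol F hyY.1).2 (AltFive.four_three _ (F.π ⟨σ, hσC⟩) (h.pi_invol F hyY.1).1 hπ3 hπ1 i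
      (h.act_of_commute F hyY.2) (h.act_of_commute F hσa) ?_)
    rw [← map_mul, ← map_mul]
    exact congrArg F.π (Subtype.ext (mul_inv_eq_iff_eq_mul.1 (show σ * y * σ⁻¹ = y from e)).symm)
  -- the four classes
  let f : G → Subgroup G := fun y => centralizer ({y} : Set G)
  have hfib : ∀ b ∈ (T t).image f, ((T t).filter fun y => f y = b).card = 3 := by
    intro b hb
    obtain ⟨y, hy, rfl⟩ := Finset.mem_image.1 hb
    obtain ⟨hyY, hyW⟩ := hTY htY hy
    obtain ⟨h4, hle, hQ, hC⟩ := (hP hyY).zc_facts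
    have e : (T t).filter (fun w => f w = f y) = (Finset.univ.filter fun w => w ∈ zc y).erase 1 := by
      ext w
      simp only [Finset.mem_filter, Finset.mem_erase, Finset.mem_univ, true_and, memT]
      constructor
      · rintro ⟨⟨-, hwQ⟩, hw⟩
        exact ⟨fun e => hwQ (e ▸ Q.one_mem), zc_congr hw ▸ self_mem_zc w⟩
      · rintro ⟨hw1, hw⟩
        exact ⟨⟨hyW ▸ hle hw, fun e => hw1 (hQ w hw e)⟩, hC w hw hw1⟩
    rw [e, Finset.card_erase_of_mem (Finset.mem_filter.2 ⟨Finset.mem_univ _, one_mem _⟩),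
      ← Fintype.card_subtype, ← Nat.card_eq_fintype_card, h4]
  have hS : ((T t).image f).card = 4 := by
    have := Finset.card_eq_sum_card_image f (T t)
    rw [hT12 htY, Finset.sum_congr rfl hfib, Finset.sum_const, smul_eq_mul] at this
    omega
  by_contra hno
  push Not at hno
  have hfix : ∀ {y}, y ∈ T t → f (c y) ≠ f y := fun {y} hy => hno y (hTY htY hy).1.1 σ hσ₀ (hmove hy)
  have hcong : ∀ {u v}, f u = f v → f (c u) = f (c v) := fun e => centralizer_conj_eq σ e
  have t0 : t ∈ T t := memT.2 ⟨(hP htY).t_mem_sixteen, ht.2.1⟩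
  have n01 := hfix t0
  have n12 := hfix (hTc t0)
  have n20 : f t ≠ f (c (c t)) := by
    have := hfix (hTc (hTc t0))
    rwa [hc3] at this
  have h3 : ({f t, f (c t), f (c (c t))} : Finset (Subgroup G)).card = 3 := by
    rw [Finset.card_insert_of_notMem, Finset.card_pair n12.symm]
    simp only [Finset.mem_insert, Finset.mem_singleton, not_or]
    exact ⟨n01.symm, n20⟩
  obtain ⟨b, hb, hb'⟩ := Finset.exists_mem_notMem_of_card_lt_card
    (show ({f t, f (c t), f (c (c t))} : Finset (Subgroup G)).card < ((T t).image f).card by omega)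
  obtain ⟨y, hy, rfl⟩ := Finset.mem_image.1 hb
  have hall : insert (f y) ({f t, f (c t), f (c (c t))} : Finset (Subgroup G)) = (T t).image f := by
    refine Finset.eq_of_subset_of_card_le ?_ (by rw [Finset.card_insert_of_notMem hb']; omega)
    intro b hb
    simp only [Finset.mem_insert, Finset.mem_singleton] at hb
    rcases hb with rfl | rfl | rfl | rfl
    exacts [Finset.mem_image_of_mem f hy, Finset.mem_image_of_mem f t0, Finset.mem_image_of_mem f (hTc t0),
      Finset.mem_image_of_mem f (hTc (hTc t0))]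
  have hmem := Finset.mem_image_of_mem f (hTc hy)
  rw [← hall] at hmem
  simp only [Finset.mem_insert, Finset.mem_singleton, not_or] at hmem hb'
  rcases hmem with e | e | e | e
  · exact hfix hy e
  all_goals
    have e' := hcong (hcong e)
    simp only [hc3] at e'
  · exact hb'.2.2 e'
  · exact hb'.1 e'
  · exact hb'.2.1 e'

end CfsgLib.Invol.JTwo
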