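import Cfsg.Agent.Lib.Invol.JTwo.Center
import Mathlib.GroupTheory.Transfer
import Mathlib.GroupTheory.SpecificGroups.Alternating.Simple

/-!
# Uniqueness of the centralizer of an involution of Hall–Janko type

Two groups with an extraspecial normal subgroup of order thirty-two, quotient alternating of degree five
and an involution outside the extraspecial subgroup are isomorphic.
-/

set_option autoImplicit false

namespace CfsgLib.Invol.JTwo

open Subgroup

local notation "A" => alternatingGroup (Fin 5)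

/-- A central extension of the alternating group of degree five by a group of order two in which the
lifts of involutions are involutions has a complement. -/
theorem altFive_central_split {H : Type*} [Group H] [Finite H] (φ : H →* A) (hφ : Function.Surjective φ)
    {n : H} (hn1 : n ≠ 1) (hker : ∀ h, φ h = 1 ↔ h = 1 ∨ h = n) (hn : ∀ h : H, n * h = h * n)
    (hsq : ∀ h, φ h * φ h = 1 → h * h = 1) :
    ∃ K : Subgroup H, n ∉ K ∧ ∀ u : A, ∃ h ∈ K, φ h = u := by
  classical
  let V : Subgroup A :=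
    { carrier := {g | g * g = 1 ∧ AltFive.act g 0 = 0}
      one_mem' := ⟨one_mul 1, rfl⟩
      mul_mem' := fun {g g'} hg hg' =>
        (AltFive.four_mul g g' hg.1 hg'.1 0 hg.2 hg'.2).2
      inv_mem' := fun {g} hg => by
        rw [show g⁻¹ = g from inv_eq_of_mul_eq_one_right hg.1]; exact hg }
  have hV : Nat.card V = 4 := by
    show Nat.card {g : A // g * g = 1 ∧ AltFive.act g 0 = 0} = 4
    rw [Nat.card_eq_fintype_card]; exact AltFive.four_card 0
  have hVi : V.index = 15 := by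
    have := V.card_mul_index
    rw [hV, AltFive.card_A] at this
    omega
  let T : Subgroup H := V.comap φ
  have hTsq : ∀ t : T, t * t = 1 := fun t => Subtype.ext (hsq t t.2.1)
  letI : CommGroup T :=
    { (inferInstance : Group T) with
      mul_comm := fun s t => by
        have hi : ∀ x : T, x⁻¹ = x := fun x => inv_eq_of_mul_eq_one_right (hTsq x)
        rw [← hi (s * t), mul_inv_rev, hi, hi] }
  have hnT : n ∈ T := by
    show φ n ∈ V
    rw [(hker n).2 (Or.inr rfl)]; exact V.one_mem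
  let v : H →* T := (MonoidHom.id T).transfer
  have hv : v n = ⟨n, hnT⟩ := by
    have key : ∀ (k : ℕ) (g₀ : H), g₀⁻¹ * n ^ k * g₀ ∈ T → g₀⁻¹ * n ^ k * g₀ = n ^ k := fun k g₀ _ => by
      rw [mul_assoc, ((show Commute n g₀ from hn g₀).pow_left k).eq, inv_mul_cancel_left]
    rw [MonoidHom.transfer_eq_pow (MonoidHom.id T) n key, MonoidHom.id_apply]
    refine Subtype.ext ?_
    have hTi : T.index = 15 := by rw [show T = V.comap φ from rfl, index_comap_of_surjective _ hφ, hVi]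
    show n ^ T.index = n
    rw [hTi, show (15 : ℕ) = 2 * 7 + 1 from rfl, pow_succ, pow_mul, pow_two,
      hsq n (by rw [(hker n).2 (Or.inr rfl), one_mul]), one_pow, one_mul]
  have hnK : n ∉ v.ker := fun e => hn1 (congrArg Subtype.val (hv.symm.trans e))
  refine ⟨v.ker, hnK, ?_⟩
  haveI : IsSimpleGroup A := alternatingGroup.isSimpleGroup (by simp)
  rcases ((inferInstance : v.ker.Normal).map φ hφ).eq_bot_or_eq_top with e | e
  · exfalso
    have hinj : Function.Injective v := (injective_iff_map_eq_one v).2 fun h hh => by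
      have : φ h = 1 := by
        have : φ h ∈ v.ker.map φ := ⟨h, hh, rfl⟩
        rwa [e, mem_bot] at this
      rcases (hker h).1 this with r | r
      · exact r
      · exact absurd (r ▸ (show h ∈ v.ker from hh)) hnK
    have hcomm : ∀ a b : A, a * b = b * a := fun a b => by
      obtain ⟨x, rfl⟩ := hφ a
      obtain ⟨y, rfl⟩ := hφ b
      rw [← map_mul, ← map_mul, show x * y = y * x from hinj (by rw [map_mul, map_mul, mul_comm])]
    revert hcomm
    decide +kernel
  · intro u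
    obtain ⟨h, hh, rfl⟩ := (e ▸ mem_top u : u ∈ v.ker.map φ)
    exact ⟨h, hh, rfl⟩

/-- The patterns of the fixed vectors of an involution. -/
theorem AltFive.fix_image : ∀ g : A, g * g = 1 → g ≠ 1 → ∀ v : Fin 5 → Bool, AltFive.Even5 v →
    AltFive.Fix g v → ∃ u : Fin 5 → Bool, AltFive.Even5 u ∧ ∀ i, v i = (u i ^^ u (AltFive.act g i)) := by
  decide +kernel

section nf

variable {G : Type*} [Group G]

/-- The normal form of four generators and a central involution. -/
def nf (p : Fin 5 → G) (z : G) (v : Fin 4 → Bool) (e : Bool) : G :=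
  cond (v 0) (p 0) 1 * cond (v 1) (p 1) 1 * cond (v 2) (p 2) 1 * cond (v 3) (p 3) 1 * cond e z 1

/-- The sign met when moving a generator to its place. -/
def sgn (v : Fin 4 → Bool) (k : Fin 4) : Bool :=
  (decide (k < 1) && v 1) ^^ (decide (k < 2) && v 2) ^^ (decide (k < 3) && v 3)

theorem nf_mul_gen {p : Fin 5 → G} {z : G} (hzz : z * z = 1)
    (hz : ∀ i, p i * z = z * p i) (h2 : ∀ i, p i * p i = 1)
    (hc : ∀ i j, i ≠ j → p i * p j = z * (p j * p i)) (v : Fin 4 → Bool) (e : Bool) (k : Fin 4) :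
    nf p z v e * p k.castSucc = nf p z (Function.update v k (!v k)) (e ^^ sgn v k) := by
  have hz' : ∀ i, z * p i = p i * z := fun i => (hz i).symm
  have zi : ∀ i (x : G), z * (p i * x) = p i * (z * x) := fun i x => by
    rw [← mul_assoc, hz', mul_assoc]
  have zz' : ∀ x : G, z * (z * x) = x := fun x => by rw [← mul_assoc, hzz, one_mul]
  have sw : ∀ i j, i ≠ j → ∀ x : G, p i * (p j * x) = p j * (p i * (z * x)) := fun i j hij x => by
    calc p i * (p j * x) = p i * p j * x := (mul_assoc _ _ _).symm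
      _ = z * (p j * p i) * x := by rw [hc i j hij]
      _ = z * (p j * (p i * x)) := by group
      _ = p j * (p i * (z * x)) := by rw [zi, zi]
  have p2 : ∀ i (x : G), p i * (p i * x) = x := fun i x => by rw [← mul_assoc, h2, one_mul]
  have sw' : ∀ i j, i ≠ j → p i * p j = p j * (p i * z) := fun i j hij => by
    simpa using sw i j hij 1
  have s10 := sw 1 0 (by decide); have s20 := sw 2 0 (by decide); have s30 := sw 3 0 (by decide)
  have s21 := sw 2 1 (by decide); have s31 := sw 3 1 (by decide); have s32 := sw 3 2 (by decide)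
  have t10 := sw' 1 0 (by decide); have t20 := sw' 2 0 (by decide); have t30 := sw' 3 0 (by decide)
  have t21 := sw' 2 1 (by decide); have t31 := sw' 3 1 (by decide); have t32 := sw' 3 2 (by decide)
  simp only [nf, sgn]
  fin_cases k <;>
    rcases Bool.eq_false_or_eq_true (v 0) with a | a <;> rcases Bool.eq_false_or_eq_true (v 1) with b | b <;>
    rcases Bool.eq_false_or_eq_true (v 2) with c | c <;> rcases Bool.eq_false_or_eq_true (v 3) with d | d <;>
    cases e <;>
    simp [a, b, c, d, mul_assoc, hzz, h2, hz', zi, zz', p2, s10, s20, s30, s21, s31, s32,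
      t10, t20, t30, t21, t31, t32]

end nf

variable {G : Type*} [Group G] {z : G} {Q : Subgroup G}

namespace PreHyp

variable (h : PreHyp z Q) (F : Frame z Q)
include h

theorem frame_rel : (∀ i, F.p i * z = z * F.p i) ∧ ∀ i j, i ≠ j → F.p i * F.p j = z * (F.p j * F.p i) :=
  ⟨fun i => h.z_comm (F.mem i), fun i j hij =>
    (h.comm _ (F.mem i) _ (F.mem j)).resolve_left (F.noncomm i j hij)⟩

theorem nf_mem (v : Fin 4 → Bool) (e : Bool) : nf F.p z v e ∈ Q := by
  have hm : ∀ (b : Bool) (x : G), x ∈ Q → cond b x 1 ∈ Q := fun b x hx => by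
    cases b
    · exact one_mem _
    · exact hx
  exact mul_mem (mul_mem (mul_mem (mul_mem (hm _ _ (F.mem 0)) (hm _ _ (F.mem 1))) (hm _ _ (F.mem 2)))
    (hm _ _ (F.mem 3))) (hm _ _ h.zmem)

theorem chi_nf (v : Fin 4 → Bool) (e : Bool) (i : Fin 5) : F.chi (nf F.p z v e) i =
    ((v 0 && AltFive.co 0 i) ^^ (v 1 && AltFive.co 1 i) ^^ (v 2 && AltFive.co 2 i) ^^
      (v 3 && AltFive.co 3 i)) := by
  have hm : ∀ (b : Bool) (x : G), x ∈ Q → cond b x 1 ∈ Q := fun b x hx => by
    cases b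
    · exact one_mem _
    · exact hx
  have m0 := hm (v 0) _ (F.mem 0); have m1 := hm (v 1) _ (F.mem 1)
  have m2 := hm (v 2) _ (F.mem 2); have m3 := hm (v 3) _ (F.mem 3)
  have hp : ∀ (b : Bool) k, F.chi (cond b (F.p k) 1) i = (b && AltFive.co k i) := fun b k => by
    cases b
    · simpa using h.chi_one F i
    · simp [F.chi_p]
  rw [nf, h.chi_mul F (mul_mem (mul_mem (mul_mem m0 m1) m2) m3) (hm _ _ h.zmem),
    h.chi_mul F (mul_mem (mul_mem m0 m1) m2) m3, h.chi_mul F (mul_mem m0 m1) m2, h.chi_mul F m0 m1,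
    hp, hp, hp, hp]
  cases e
  · simp [h.chi_one F]
  · simp [h.chi_z F]

theorem nf_eq_one {v : Fin 4 → Bool} {e : Bool} (he : nf F.p z v e = 1) : v = (fun _ => false) ∧ e = false := by
  have hc : ∀ i, ((v 0 && AltFive.co 0 i) ^^ (v 1 && AltFive.co 1 i) ^^ (v 2 && AltFive.co 2 i) ^^
      (v 3 && AltFive.co 3 i)) = false := fun i => by rw [← h.chi_nf F v e, he, h.chi_one]
  have key : ∀ w : Fin 4 → Bool, (∀ i, ((w 0 && AltFive.co 0 i) ^^ (w 1 && AltFive.co 1 i) ^^
      (w 2 && AltFive.co 2 i) ^^ (w 3 && AltFive.co 3 i)) = false) → w = fun _ => false := by decide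
  have hv : v = fun _ => false := key v hc
  subst hv
  refine ⟨rfl, ?_⟩
  cases e
  · rfl
  · exact absurd (by simpa [nf] using he) h.z_ne

theorem exists_nf {q : G} (hq : q ∈ Q) : ∃ v e, q = nf F.p z v e := by
  let v : Fin 4 → Bool := fun k => F.chi q k.castSucc ^^ F.chi q 4
  have hev := h.chi_even F hq
  have he : F.chi (nf F.p z v false) = F.chi q := funext fun i => by
    have key : ∀ w : Fin 5 → Bool, AltFive.Even5 w → ∀ i,
        ((((w 0 ^^ w 4) && AltFive.co 0 i) ^^ ((w 1 ^^ w 4) && AltFive.co 1 i)) ^^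
          ((w 2 ^^ w 4) && AltFive.co 2 i) ^^ ((w 3 ^^ w 4) && AltFive.co 3 i)) = w i := by decide
    rw [h.chi_nf F]
    exact key _ hev i
  have hzr : nf F.p z v true = nf F.p z v false * z := by simp [nf]
  rcases h.eq_or_of_chi F (h.nf_mem F v false) hq he with r | r
  · exact ⟨v, false, r⟩
  · exact ⟨v, true, by rw [hzr]; exact r⟩

theorem conj_of_nc {p q : G} (hp : p ∈ Q) (hq : q ∈ Q) :
    q * p * q⁻¹ = cond (nc q p) (p * z) p := by
  rcases h.comm q hq p hp with e | e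
  · rw [(nc_eq_false.2 e), e, mul_inv_cancel_right]; rfl
  · by_cases e0 : q * p = p * q
    · rw [(nc_eq_false.2 e0), e0, mul_inv_cancel_right]; rfl
    · have : nc q p = true := by
        rcases Bool.eq_false_or_eq_true (nc q p) with r | r
        · exact r
        · exact absurd (nc_eq_false.1 r) e0
      rw [this, e, ← mul_assoc, mul_inv_cancel_right, h.z_comm hp]; rfl

/-- All lifts of involutions with central square are involutions. -/
theorem sq_of_lift [Finite G] (hx : ∃ x, Out z Q x) {b : ↥(centralizer ({z} : Set G))}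
    (hb : F.π b * F.π b = 1) (hb1 : F.π b ≠ 1) (hz : (b : G) * b = 1 ∨ (b : G) * b = z) :
    (b : G) * b = 1 := by
  obtain ⟨x, hxC, hxQ, hxx⟩ := hx
  set x' : ↥(centralizer ({z} : Set G)) := ⟨x, hxC⟩
  have hx2 : F.π x' * F.π x' = 1 := by
    rw [← map_mul, show x' * x' = 1 from Subtype.ext hxx, map_one]
  obtain ⟨k, hk⟩ := AltFive.invol_conj _ _ hx2 (fun e => hxQ ((F.ker x').1 e)) hb hb1
  obtain ⟨c, rfl⟩ := F.surj k
  set w := c * x' * c⁻¹ with hw
  have hww : (w : G) * w = 1 := by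
    have : w * w = 1 := by
      rw [hw, show c * x' * c⁻¹ * (c * x' * c⁻¹) = c * (x' * x') * c⁻¹ by group,
        show x' * x' = 1 from Subtype.ext hxx, mul_one, mul_inv_cancel]
    exact congrArg Subtype.val this
  have hwπ : F.π w = F.π b := by rw [hw, map_mul, map_mul, map_inv]; exact hk
  have hwi : (w : G)⁻¹ = w := inv_eq_of_mul_eq_one_right hww
  set q : G := (w : G) * b with hqdef
  have hqQ : q ∈ Q := by
    have : F.π (w * b) = 1 := by rw [map_mul, hwπ, hb]
    exact (F.ker _).1 this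
  have hbq : (b : G) = w * q := by rw [hqdef, ← mul_assoc, hww, one_mul]
  -- `w` fixes `q` modulo the centre
  have hfix : AltFive.Fix (F.π w) (F.chi q) := by
    refine (h.fix_mod_iff F w hqQ).1 ?_
    have e : (b : G) * b = (w : G) * q * (w : G)⁻¹ * q := by rw [hbq, hwi]; group
    rcases hz with r | r <;> rw [e] at r <;> rcases h.sq q hqQ with s | s
    · left
      rw [eq_inv_of_mul_eq_one_left r, inv_eq_of_mul_eq_one_right s]
    · right
      calc (w : G) * q * (w : G)⁻¹ = q⁻¹ := eq_inv_of_mul_eq_one_left r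
        _ = q * z := inv_eq_of_mul_eq_one_right (by rw [← mul_assoc, s, h.zz])
    · right
      calc (w : G) * q * (w : G)⁻¹ = z * q⁻¹ := eq_mul_inv_iff_mul_eq.2 r
        _ = q * z := by rw [inv_eq_of_mul_eq_one_right s, h.z_comm hqQ]
    · left
      calc (w : G) * q * (w : G)⁻¹ = z * q⁻¹ := eq_mul_inv_iff_mul_eq.2 r
        _ = q := by rw [← s, mul_inv_cancel_right]
  obtain ⟨u, hu, hvu⟩ := AltFive.fix_image _ (by rw [hwπ]; exact hb) (by rw [hwπ]; exact hb1)
    _ (h.chi_even F hqQ) hfix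
  obtain ⟨r, hr, rfl⟩ := h.exists_chi F hu
  -- `q` is a commutator with `w` modulo the centre
  have hcr : (w : G) * r * (w : G)⁻¹ ∈ Q := h.nrm w w.2 r hr
  have hrq : r * ((w : G) * r * (w : G)⁻¹) ∈ Q := mul_mem hr hcr
  have hchi : F.chi (r * ((w : G) * r * (w : G)⁻¹)) = F.chi q := funext fun i => by
    rw [h.chi_mul F hr hcr, hvu]
    congr 1
    have hinv : AltFive.act (F.π w) (AltFive.act (F.π w) i) = i := by
      show ((F.π w * F.π w : A) : Equiv.Perm (Fin 5)) i = i
      rw [hwπ, hb]; rfl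
    conv_lhs => rw [← hinv]
    rw [F.chi_conj h w hr]
  have hr4 : r⁻¹ = r ∨ r⁻¹ = r * z := by
    rcases h.sq r hr with s | s
    · exact Or.inl (inv_eq_of_mul_eq_one_right s)
    · exact Or.inr (inv_eq_of_mul_eq_one_right (by rw [← mul_assoc, s, h.zz]))
  have hcz : (w : G) * z = z * w := mem_centralizer_singleton_iff.1 w.2
  -- `b` is a conjugate of `w` times a central element
  obtain ⟨s, hs, hsz, hbs⟩ : ∃ s : G, s * s = 1 ∧ (∀ y, y = r * (w : G) * r⁻¹ → y * s = s * y) ∧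
      (b : G) = r * w * r⁻¹ * s := by
    have hzy : ∀ y, y = r * (w : G) * r⁻¹ → y * z = z * y := by
      rintro y rfl
      have hr' := h.z_comm hr
      calc r * (w : G) * r⁻¹ * z = r * (w : G) * (z * z) * r⁻¹ * z := by rw [h.zz, mul_one]
        _ = r * ((w : G) * z) * (z * r⁻¹) * z := by group
        _ = r * (z * (w : G)) * (r⁻¹ * z) * z := by rw [hcz, h.z_comm (inv_mem hr)]
        _ = (r * z) * (w : G) * r⁻¹ * (z * z) := by group
        _ = z * (r * (w : G) * r⁻¹) := by rw [hr', h.zz]; group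
    have h1 : ∀ y, y = r * (w : G) * r⁻¹ → y * (1 : G) = 1 * y := fun y _ => by simp
    have hbw : r * (w : G) * r⁻¹ = (w : G) * ((w : G)⁻¹ * r * w * r⁻¹) := by group
    have hm : (w : G)⁻¹ * r * w * r⁻¹ = (w : G) * r * (w : G)⁻¹ * r⁻¹ := by rw [hwi]
    have hm' : (w : G) * r * (w : G)⁻¹ * r⁻¹ ∈ Q := mul_mem hcr (inv_mem hr)
    have hchi' : F.chi ((w : G) * r * (w : G)⁻¹ * r⁻¹) = F.chi q := by
      rw [← hchi]
      funext i
      rcases hr4 with e | e <;> rw [e]
      · rw [h.chi_mul F hcr hr, h.chi_mul F hr hcr, Bool.xor_comm]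
      · rw [h.chi_mul F hcr (mul_mem hr h.zmem), h.chi_mul F hr hcr, h.chi_mul_z F hr, Bool.xor_comm]
    rcases h.eq_or_of_chi F hm' hqQ hchi' with e | e
    · exact ⟨1, mul_one 1, h1, by rw [mul_one, hbw, hm, hbq, e]⟩
    · exact ⟨z, h.zz, hzy, by rw [hbw, hm, hbq, e]; group⟩
  have hy := hsz _ rfl
  rw [hbs]
  calc r * (w : G) * r⁻¹ * s * (r * w * r⁻¹ * s) = r * (w : G) * r⁻¹ * (s * (r * w * r⁻¹)) * s := by group
    _ = r * (w : G) * r⁻¹ * (r * w * r⁻¹ * s) * s := by rw [hy]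
    _ = r * ((w : G) * w) * r⁻¹ * (s * s) := by group
    _ = 1 := by rw [hww, hs]; group

end PreHyp

section iso

variable {G' : Type*} [Group G'] {z' : G'} {Q' : Subgroup G'}

/-- The graph of the correspondence of the extraspecial subgroups. -/
def graph (F : Frame z Q) (F' : Frame z' Q') : Subgroup (G × G') :=
  closure ({w | ∃ k : Fin 4, w = (F.p k.castSucc, F'.p k.castSucc)} ∪ {(z, z')})

variable (h : PreHyp z Q) (h' : PreHyp z' Q') (F : Frame z Q) (F' : Frame z' Q')
include h h'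

theorem nf_mem_graph (v : Fin 4 → Bool) (e : Bool) : (nf F.p z v e, nf F'.p z' v e) ∈ graph F F' := by
  have hg : ∀ k : Fin 4, (F.p k.castSucc, F'.p k.castSucc) ∈ graph F F' := fun k =>
    subset_closure (Or.inl ⟨k, rfl⟩)
  have hm : ∀ (b : Bool) (x : G) (y : G'), (x, y) ∈ graph F F' → (cond b x 1, cond b y 1) ∈ graph F F' :=
    fun b x y hxy => by
      cases b
      · exact one_mem _
      · exact hxy
  exact mul_mem (mul_mem (mul_mem (mul_mem (hm (v 0) _ _ (hg 0)) (hm (v 1) _ _ (hg 1)))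
    (hm (v 2) _ _ (hg 2))) (hm (v 3) _ _ (hg 3))) (hm e _ _ (subset_closure (Or.inr rfl)))

theorem graph_cases {w : G × G'} (hw : w ∈ graph F F') :
    ∃ v e, w = (nf F.p z v e, nf F'.p z' v e) := by
  obtain ⟨hz, hc⟩ := h.frame_rel F
  obtain ⟨hz', hc'⟩ := h'.frame_rel F'
  have step : ∀ (v : Fin 4 → Bool) (e : Bool), ∀ w ∈ ({w | ∃ k : Fin 4, w = (F.p k.castSucc, F'.p k.castSucc)} ∪ {(z, z')} : Set (G × G')),
      ∃ v' e', ((nf F.p z v e, nf F'.p z' v e) : G × G') * w = (nf F.p z v' e', nf F'.p z' v' e') := by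
    rintro v e w (⟨k, rfl⟩ | hw)
    · exact ⟨_, _, Prod.ext (nf_mul_gen h.zz hz F.inv hc v e k) (nf_mul_gen h'.zz hz' F'.inv hc' v e k)⟩
    · rw [Set.mem_singleton_iff] at hw
      subst hw
      refine ⟨v, !e, ?_⟩
      cases e <;> simp [nf, mul_assoc, h.zz, h'.zz]
  have hinv : ∀ w ∈ ({w | ∃ k : Fin 4, w = (F.p k.castSucc, F'.p k.castSucc)} ∪ {(z, z')} : Set (G × G')), w⁻¹ = w := by
    rintro w (⟨k, rfl⟩ | hw)
    · exact Prod.ext (inv_eq_of_mul_eq_one_right (F.inv _)) (inv_eq_of_mul_eq_one_right (F'.inv _))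
    · rw [Set.mem_singleton_iff] at hw
      subst hw
      exact Prod.ext (inv_eq_of_mul_eq_one_right h.zz) (inv_eq_of_mul_eq_one_right h'.zz)
  induction hw using closure_induction_right with
  | one => exact ⟨fun _ => false, false, by simp [nf, Prod.one_eq_mk]⟩
  | mul_right x _ y hy ih =>
    obtain ⟨v, e, rfl⟩ := ih
    exact step v e y hy
  | mul_inv_cancel x _ y hy ih =>
    obtain ⟨v, e, rfl⟩ := ih
    rw [hinv y hy]
    exact step v e y hy

theorem graph_mem {w : G × G'} (hw : w ∈ graph F F') : w.1 ∈ Q ∧ w.2 ∈ Q' ∧ F.chi w.1 = F'.chi w.2 := by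
  obtain ⟨v, e, rfl⟩ := graph_cases h h' F F' hw
  exact ⟨h.nf_mem F v e, h'.nf_mem F' v e, funext fun i => by rw [h.chi_nf F, h'.chi_nf F']⟩

theorem graph_fst {y : G'} (hy : ((1 : G), y) ∈ graph F F') : y = 1 := by
  obtain ⟨v, e, he⟩ := graph_cases h h' F F' hy
  obtain ⟨rfl, rfl⟩ := h.nf_eq_one F (congrArg Prod.fst he).symm
  simpa [nf] using congrArg Prod.snd he

theorem graph_snd {x : G} (hx : (x, (1 : G')) ∈ graph F F') : x = 1 := by
  obtain ⟨v, e, he⟩ := graph_cases h h' F F' hx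
  obtain ⟨rfl, rfl⟩ := h'.nf_eq_one F' (congrArg Prod.snd he).symm
  simpa [nf] using congrArg Prod.fst he

/-- Pairs inducing the same automorphism. -/
def pairs : Subgroup (G × G') :=
  ((centralizer ({z} : Set G)).prod (centralizer ({z'} : Set G'))) ⊓ normalizer (graph F F' : Set (G × G'))

omit h h' in
theorem mem_pairs {w : G × G'} : w ∈ pairs F F' ↔
    (w.1 ∈ centralizer ({z} : Set G) ∧ w.2 ∈ centralizer ({z'} : Set G')) ∧
      w ∈ normalizer (graph F F' : Set (G × G')) := by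
  rw [pairs, mem_inf, Subgroup.mem_prod]

variable [Finite G] [Finite G']

theorem exists_pair {a : G} (ha : a ∈ centralizer ({z} : Set G)) :
    ∃ b, (a, b) ∈ pairs F F' ∧ ∃ hb : b ∈ centralizer ({z'} : Set G'), F'.π ⟨b, hb⟩ = F.π ⟨a, ha⟩ := by
  classical
  set c := F.π ⟨a, ha⟩ with hc
  obtain ⟨⟨b₀, hb₀⟩, hπ⟩ := F'.surj c
  have hch : ∀ k : Fin 4, ∃ y, (a * F.p k.castSucc * a⁻¹, y) ∈ graph F F' := fun k => by
    obtain ⟨v, e, he⟩ := h.exists_nf F (h.nrm a ha _ (F.mem k.castSucc))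
    exact ⟨_, he ▸ nf_mem_graph h h' F F' v e⟩
  choose y hy using hch
  have hy' : ∀ k : Fin 4, y k = b₀ * F'.p k.castSucc * b₀⁻¹ ∨ y k = b₀ * F'.p k.castSucc * b₀⁻¹ * z' := fun k => by
    obtain ⟨-, hyQ, hchi⟩ := graph_mem h h' F F' (hy k)
    refine h'.eq_or_of_chi F' (h'.nrm _ hb₀ _ (F'.mem _)) hyQ ?_
    rw [← hchi]
    funext l
    obtain ⟨i, rfl⟩ : ∃ i, AltFive.act c i = l := (c : Equiv.Perm (Fin 5)).surjective l
    rw [show F.chi (a * F.p k.castSucc * a⁻¹) (AltFive.act c i) = _ from F.chi_conj h ⟨a, ha⟩ (F.mem _) i]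
    rw [← hπ, show F'.chi (b₀ * F'.p k.castSucc * b₀⁻¹) (AltFive.act (F'.π ⟨b₀, hb₀⟩) i) = _ from
      F'.chi_conj h' ⟨b₀, hb₀⟩ (F'.mem _) i, F.chi_p, F'.chi_p]
  let δ : Fin 4 → Bool := fun k => decide (y k ≠ b₀ * F'.p k.castSucc * b₀⁻¹)
  obtain ⟨q, hq, hqχ⟩ := h'.exists_chi F' (v := ![δ 0, δ 1, δ 2, δ 3, δ 0 ^^ δ 1 ^^ δ 2 ^^ δ 3])
    (show AltFive.Even5 _ by simp [AltFive.Even5])
  have hb : b₀ * q ∈ centralizer ({z'} : Set G') := mul_mem hb₀ (h'.le hq)
  refine ⟨b₀ * q, (mem_pairs F F').2 ⟨⟨ha, hb⟩, ?_⟩, hb, ?_⟩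
  · have hgen : ∀ k : Fin 4, MulAut.conj ((a, b₀ * q) : G × G') (F.p k.castSucc, F'.p k.castSucc) ∈ graph F F' := fun k => by
      have hq' : nc q (F'.p k.castSucc) = δ k := by
        rw [show nc q (F'.p k.castSucc) = F'.chi q k.castSucc from rfl, hqχ]
        fin_cases k <;> rfl
      have : b₀ * q * F'.p k.castSucc * (b₀ * q)⁻¹ = y k := by
        rw [show b₀ * q * F'.p k.castSucc * (b₀ * q)⁻¹ = b₀ * (q * F'.p k.castSucc * q⁻¹) * b₀⁻¹ by group,
          h'.conj_of_nc (F'.mem _) hq, hq']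
        have hbz : z' * b₀⁻¹ = b₀⁻¹ * z' := (mem_centralizer_singleton_iff.1 (inv_mem hb₀)).symm
        by_cases e : y k = b₀ * F'.p k.castSucc * b₀⁻¹
        · simp [δ, e]
        · rw [show δ k = true from decide_eq_true e, (hy' k).resolve_left e]
          show b₀ * (F'.p k.castSucc * z') * b₀⁻¹ = _
          rw [mul_assoc b₀, mul_assoc (F'.p k.castSucc), hbz]; group
      show (a * F.p k.castSucc * a⁻¹, b₀ * q * F'.p k.castSucc * (b₀ * q)⁻¹) ∈ graph F F'
      rw [this]; exact hy k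
    have hle : (graph F F').map (MulAut.conj ((a, b₀ * q) : G × G')).toMonoidHom ≤ graph F F' := by
      rw [graph, MonoidHom.map_closure, closure_le]
      rintro _ ⟨w, hw, rfl⟩
      rcases hw with ⟨k, rfl⟩ | hw
      · exact hgen k
      · rw [Set.mem_singleton_iff] at hw
        subst hw
        show ((a * z * a⁻¹, b₀ * q * z' * (b₀ * q)⁻¹) : G × G') ∈ _
        rw [mem_centralizer_singleton_iff.1 ha, mul_inv_cancel_right, mem_centralizer_singleton_iff.1 hb,
          mul_inv_cancel_right]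
        exact subset_closure (Or.inr rfl)
    have heq := eq_of_le_of_card_ge hle
      (Nat.card_congr ((graph F F').equivMapOfInjective _ (MulAut.conj _).injective).toEquiv).le
    refine mem_normalizer_iff.2 fun w => ⟨fun hw => ?_, fun hw => ?_⟩
    · exact heq ▸ (⟨w, hw, rfl⟩ : _ ∈ (graph F F').map (MulAut.conj ((a, b₀ * q) : G × G')).toMonoidHom)
    · obtain ⟨u, hu, he⟩ := (heq.symm ▸ hw : _ ∈ (graph F F').map (MulAut.conj ((a, b₀ * q) : G × G')).toMonoidHom)
      exact (MulAut.conj ((a, b₀ * q) : G × G')).injective he ▸ hu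
  · rw [show (⟨b₀ * q, hb⟩ : ↥(centralizer ({z'} : Set G'))) = ⟨b₀, hb₀⟩ * ⟨q, h'.le hq⟩ from rfl, map_mul,
      (F'.ker ⟨q, h'.le hq⟩).2 hq, mul_one, hπ]

theorem pair_snd_of_one {b : G'} (hb : ((1 : G), b) ∈ pairs F F') : b = 1 ∨ b = z' := by
  obtain ⟨⟨-, hbC⟩, hN⟩ := (mem_pairs F F').1 hb
  have hcomm : ∀ q ∈ Q', b * q = q * b := fun q hq => by
    obtain ⟨v, e, rfl⟩ := h'.exists_nf F' hq
    have hmem := (mem_normalizer_iff.1 hN _).1 (nf_mem_graph h h' F F' v e)
    have := mul_mem hmem (inv_mem (nf_mem_graph h h' F F' v e))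
    rw [show ((1, b) : G × G') * (nf F.p z v e, nf F'.p z' v e) * ((1, b) : G × G')⁻¹ *
      (nf F.p z v e, nf F'.p z' v e)⁻¹ = ((1 : G), b * nf F'.p z' v e * b⁻¹ * (nf F'.p z' v e)⁻¹) by
        ext <;> simp] at this
    have e := graph_fst h h' F F' this
    exact mul_inv_eq_iff_eq_mul.1 (mul_inv_eq_one.1 e)
  have hbQ := h'.self b hbC hcomm
  exact h'.cen b hbQ hcomm

theorem pair_perm {a : G} {b : G'} (hab : (a, b) ∈ pairs F F') (ha : a ∈ centralizer ({z} : Set G))
    (hb : b ∈ centralizer ({z'} : Set G')) : F'.π ⟨b, hb⟩ = F.π ⟨a, ha⟩ := by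
  obtain ⟨b₁, hp, hb₁, e⟩ := exists_pair h h' F F' ha
  have h1 : ((1 : G), b₁⁻¹ * b) ∈ pairs F F' := by
    simpa using mul_mem (inv_mem hp) hab
  have hQ : b₁⁻¹ * b ∈ Q' := by
    rcases pair_snd_of_one h h' F F' h1 with r | r <;> rw [r]
    · exact one_mem _
    · exact h'.zmem
  rw [← e, show (⟨b, hb⟩ : ↥(centralizer ({z'} : Set G'))) = ⟨b₁, hb₁⟩ * ⟨b₁⁻¹ * b, h'.le hQ⟩ from
    Subtype.ext (mul_inv_cancel_left b₁ b).symm, map_mul, (F'.ker ⟨b₁⁻¹ * b, h'.le hQ⟩).2 hQ, mul_one]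

theorem z_mem_pairs : ((1 : G), z') ∈ pairs F F' := by
  refine (mem_pairs F F').2 ⟨⟨one_mem _, mem_centralizer_singleton_iff.2 rfl⟩, mem_normalizer_iff.2 fun w => ?_⟩
  have key : ∀ w : G × G', w ∈ graph F F' → ((1, z') : G × G') * w * ((1, z') : G × G')⁻¹ = w := fun w hw => by
    have := h'.z_comm (graph_mem h h' F F' hw).2.1
    refine Prod.ext (by simp) ?_
    show z' * w.2 * z'⁻¹ = w.2
    rw [← this, mul_inv_cancel_right]
  refine ⟨fun hw => (key w hw).symm ▸ hw, fun hw => ?_⟩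
  have hn : ((1, z') : G × G') * ((1, z') : G × G') = 1 := Prod.ext (one_mul 1) h'.zz
  have := key _ hw
  rw [inv_eq_of_mul_eq_one_right hn] at hw this
  have e : w = ((1, z') : G × G') * w * ((1, z') : G × G') := by
    calc w = ((1, z') : G × G') * ((1, z') : G × G') * w * (((1, z') : G × G') * ((1, z') : G × G')) := by
          rw [hn, one_mul, mul_one]
      _ = ((1, z') : G × G') * (((1, z') : G × G') * w * ((1, z') : G × G')) * ((1, z') : G × G') := by group
      _ = _ := this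
  exact e.symm ▸ hw

theorem graph_le_pairs : graph F F' ≤ pairs F F' := fun w hw =>
  (mem_pairs F F').2 ⟨⟨h.le (graph_mem h h' F F' hw).1, h'.le (graph_mem h h' F F' hw).2.1⟩,
    le_normalizer hw⟩

end iso

/-- The centralizers are isomorphic. -/
theorem PreHyp.centralizer_iso [Finite G] {G' : Type*} [Group G'] [Finite G'] {z' : G'} {Q' : Subgroup G'}
    (h : PreHyp z Q) (h' : PreHyp z' Q') (hx : ∃ x, Out z Q x) (hx' : ∃ x, Out z' Q' x) :
    Nonempty (↥(centralizer ({z} : Set G)) ≃* ↥(centralizer ({z'} : Set G'))) := by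
  classical
  obtain ⟨F⟩ := h.exists_frame
  obtain ⟨F'⟩ := h'.exists_frame
  set D := pairs F F' with hD
  set Δ : Subgroup D := (graph F F').subgroupOf D with hΔ
  haveI hn : Δ.Normal := ⟨fun x hx d =>
    (mem_normalizer_iff.1 ((mem_pairs F F').1 d.2).2 _).1 hx⟩
  have hfst : ∀ d : D, (d : G × G').1 ∈ centralizer ({z} : Set G) := fun d => ((mem_pairs F F').1 d.2).1.1
  have hsnd : ∀ d : D, (d : G × G').2 ∈ centralizer ({z'} : Set G') := fun d => ((mem_pairs F F').1 d.2).1.2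
  let f : D →* ↥(centralizer ({z} : Set G)) := MonoidHom.mk' (fun d => ⟨_, hfst d⟩) fun d e => rfl
  let g : D →* ↥(centralizer ({z'} : Set G')) := MonoidHom.mk' (fun d => ⟨_, hsnd d⟩) fun d e => rfl
  have hf : Function.Surjective f := fun a => by
    obtain ⟨b, hb, -⟩ := exists_pair h h' F F' a.2
    exact ⟨⟨(a.1, b), hb⟩, rfl⟩
  have hπ : ∀ d : D, F'.π (g d) = F.π (f d) := fun d => pair_perm h h' F F' d.2 _ _
  let φ₀ : D →* A := F.π.comp f
  have hΔk : Δ ≤ φ₀.ker := fun d hd => (F.ker _).2 (graph_mem h h' F F' hd).1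
  let φ : D ⧸ Δ →* A := QuotientGroup.lift Δ φ₀ hΔk
  let n₀ : D := ⟨(1, z'), z_mem_pairs h h' F F'⟩
  have hsurj : Function.Surjective φ := fun u => by
    obtain ⟨a, rfl⟩ := F.surj u
    obtain ⟨d, rfl⟩ := hf a
    exact ⟨(d : D ⧸ Δ), rfl⟩
  have hn1 : (n₀ : D ⧸ Δ) ≠ 1 := fun e =>
    h'.z_ne (graph_fst h h' F F' ((QuotientGroup.eq_one_iff n₀).1 e))
  have hker : ∀ x, φ x = 1 ↔ x = 1 ∨ x = (n₀ : D ⧸ Δ) := by
    intro x
    constructor
    · intro hx1
      induction x using QuotientGroup.induction_on with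
      | _ d =>
        obtain ⟨v, e, hve⟩ := h.exists_nf F ((F.ker (f d)).1 hx1)
        let δ : D := ⟨_, graph_le_pairs h h' F F' (nf_mem_graph h h' F F' v e)⟩
        have hd' : ((1 : G), (δ : G × G').2⁻¹ * (d : G × G').2) ∈ pairs F F' := by
          have := mul_mem (inv_mem δ.2) d.2
          rwa [show ((δ : G × G'))⁻¹ * (d : G × G') = ((1 : G), (δ : G × G').2⁻¹ * (d : G × G').2) from
            Prod.ext (show (nf F.p z v e)⁻¹ * (d : G × G').1 = 1 by
              rw [show (d : G × G').1 = nf F.p z v e from hve, inv_mul_cancel]) rfl] at this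
        have hδ : (δ : D ⧸ Δ) = 1 := (QuotientGroup.eq_one_iff δ).2 (nf_mem_graph h h' F F' v e)
        rcases pair_snd_of_one h h' F F' hd' with r | r
        · left
          rw [← hδ, show d = δ from Subtype.ext (Prod.ext hve (inv_mul_eq_one.1 r).symm)]
        · right
          rw [show d = δ * n₀ from Subtype.ext (Prod.ext (by rw [show (d : G × G').1 = nf F.p z v e from hve]; simp [δ, n₀])
            (inv_mul_eq_iff_eq_mul.1 r)), QuotientGroup.mk_mul, hδ, one_mul]
    · rintro (rfl | rfl)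
      · exact map_one φ
      · show F.π (f n₀) = 1
        exact (F.ker _).2 Q.one_mem
  have hcen : ∀ x : D ⧸ Δ, (n₀ : D ⧸ Δ) * x = x * (n₀ : D ⧸ Δ) := fun x => by
    induction x using QuotientGroup.induction_on with
    | _ d =>
      rw [← QuotientGroup.mk_mul, ← QuotientGroup.mk_mul]
      refine congrArg _ (Subtype.ext (Prod.ext ?_ ?_))
      · show 1 * (d : G × G').1 = (d : G × G').1 * 1
        rw [one_mul, mul_one]
      · exact (mem_centralizer_singleton_iff.1 (hsnd d)).symm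
  have hsq : ∀ x, φ x * φ x = 1 → x * x = 1 := by
    intro x hx2
    by_cases hx1 : φ x = 1
    · rcases (hker x).1 hx1 with rfl | rfl
      · exact one_mul 1
      · rw [← QuotientGroup.mk_mul, ← QuotientGroup.mk_one]
        exact congrArg _ (Subtype.ext (Prod.ext (one_mul 1) h'.zz))
    obtain ⟨t, htC, htQ, htt⟩ := hx
    have ht2 : F.π ⟨t, htC⟩ * F.π ⟨t, htC⟩ = 1 := by
      rw [← map_mul, show (⟨t, htC⟩ : ↥(centralizer ({z} : Set G))) * ⟨t, htC⟩ = 1 from Subtype.ext htt, map_one]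
    obtain ⟨k, hk⟩ := AltFive.invol_conj _ _ ht2 (fun e => htQ ((F.ker _).1 e)) hx2 hx1
    obtain ⟨c, rfl⟩ := F.surj k
    obtain ⟨e, he⟩ := hf (c * ⟨t, htC⟩ * c⁻¹)
    have hfe : f e * f e = 1 := by
      rw [he, show c * ⟨t, htC⟩ * c⁻¹ * (c * ⟨t, htC⟩ * c⁻¹) = c * (⟨t, htC⟩ * ⟨t, htC⟩) * c⁻¹ by group,
        show (⟨t, htC⟩ : ↥(centralizer ({z} : Set G))) * ⟨t, htC⟩ = 1 from Subtype.ext htt]
      group
    have heπ : F.π (f e) = φ x := by rw [he, map_mul, map_mul, map_inv]; exact hk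
    have hee : e * e = 1 := by
      refine Subtype.ext (Prod.ext (congrArg Subtype.val hfe) ?_)
      have h1 : ((1 : G), (e : G × G').2 * (e : G × G').2) ∈ pairs F F' := by
        have := mul_mem e.2 e.2
        rwa [show (e : G × G') * e = ((1 : G), (e : G × G').2 * (e : G × G').2) from
          Prod.ext (congrArg Subtype.val hfe) rfl] at this
      exact h'.sq_of_lift F' hx' (b := g e) (by rw [hπ, heπ, hx2]) (by rw [hπ, heπ]; exact hx1)
        (pair_snd_of_one h h' F F' h1)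
    have heq : φ (x * (e : D ⧸ Δ)) = 1 := by
      rw [map_mul, show φ (e : D ⧸ Δ) = φ x from heπ, hx2]
    have hi : (e : D ⧸ Δ) * (e : D ⧸ Δ) = 1 := by rw [← QuotientGroup.mk_mul, hee, QuotientGroup.mk_one]
    rcases (hker _).1 heq with r | r
    · rw [eq_inv_of_mul_eq_one_left r, ← mul_inv_rev, hi, inv_one]
    · have hxe : x = (n₀ : D ⧸ Δ) * (e : D ⧸ Δ) := by rw [← r, mul_assoc, hi, mul_one]
      have hnn : (n₀ : D ⧸ Δ) * (n₀ : D ⧸ Δ) = 1 := by
        rw [← QuotientGroup.mk_mul, ← QuotientGroup.mk_one]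
        exact congrArg _ (Subtype.ext (Prod.ext (one_mul 1) h'.zz))
      rw [hxe]
      calc (n₀ : D ⧸ Δ) * (e : D ⧸ Δ) * ((n₀ : D ⧸ Δ) * (e : D ⧸ Δ))
          = ((n₀ : D ⧸ Δ) * (e : D ⧸ Δ)) * ((e : D ⧸ Δ) * (n₀ : D ⧸ Δ)) := by rw [hcen (e : D ⧸ Δ)]
        _ = (n₀ : D ⧸ Δ) * ((e : D ⧸ Δ) * (e : D ⧸ Δ)) * (n₀ : D ⧸ Δ) := by group
        _ = 1 := by rw [hi, mul_one, hnn]
  obtain ⟨K, hnK, hK⟩ := altFive_central_split φ hsurj hn1 hker hcen hsq
  let L : Subgroup D := K.comap (QuotientGroup.mk' Δ)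
  have hL : ∀ d ∈ L, φ₀ d = 1 → d ∈ Δ := fun d hd h1 => by
    rcases (hker (d : D ⧸ Δ)).1 h1 with r | r
    · exact (QuotientGroup.eq_one_iff d).1 r
    · exact absurd (r ▸ (show (d : D ⧸ Δ) ∈ K from hd)) hnK
  have hfL : Function.Bijective (f.comp L.subtype) := by
    refine ⟨(injective_iff_map_eq_one _).2 fun d hd => ?_, fun a => ?_⟩
    · have h1 : (d : D) ∈ Δ := hL _ d.2 (by show F.π (f d) = 1; rw [show f d = 1 from hd, map_one])
      have e1 : ((d : D) : G × G').1 = 1 := congrArg Subtype.val hd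
      have e2 : ((d : D) : G × G').2 = 1 := graph_fst h h' F F' (y := ((d : D) : G × G').2) (by
        rw [show ((1 : G), ((d : D) : G × G').2) = ((d : D) : G × G') from Prod.ext e1.symm rfl]; exact h1)
      exact Subtype.ext (Subtype.ext (Prod.ext e1 e2))
    · obtain ⟨d, rfl⟩ := hf a
      obtain ⟨x, hxK, hxφ⟩ := hK (φ₀ d)
      have : φ ((d : D ⧸ Δ) * x⁻¹) = 1 := by
        rw [map_mul, map_inv, hxφ]; exact mul_inv_cancel _
      rcases (hker _).1 this with r | r
      · exact ⟨⟨d, by show (d : D ⧸ Δ) ∈ K; rw [mul_inv_eq_one.1 r]; exact hxK⟩, rfl⟩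
      · refine ⟨⟨n₀ * d, ?_⟩, Subtype.ext (one_mul _)⟩
        show ((n₀ * d : D) : D ⧸ Δ) ∈ K
        have hnn : (n₀ : D ⧸ Δ) * (n₀ : D ⧸ Δ) = 1 :=
          hsq _ (by rw [(hker _).2 (Or.inr rfl), one_mul])
        rw [QuotientGroup.mk_mul, mul_inv_eq_iff_eq_mul.1 r, ← mul_assoc, hnn, one_mul]
        exact hxK
  have hgL : Function.Injective (g.comp L.subtype) := (injective_iff_map_eq_one _).2 fun d hd => by
    have hp : F.π (f d) = 1 := by rw [← hπ, show g d = 1 from hd, map_one]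
    have h1 : (d : D) ∈ Δ := hL _ d.2 hp
    have e2 : ((d : D) : G × G').2 = 1 := congrArg Subtype.val hd
    have e1 : ((d : D) : G × G').1 = 1 := graph_snd h h' F F' (x := ((d : D) : G × G').1) (by
      rw [show (((d : D) : G × G').1, (1 : G')) = ((d : D) : G × G') from Prod.ext rfl e2.symm]; exact h1)
    exact Subtype.ext (Subtype.ext (Prod.ext e1 e2))
  have hgb : Function.Bijective (g.comp L.subtype) := hgL.bijective_of_nat_card_le (by
    rw [Nat.card_eq_of_bijective _ hfL, h.card_C, h'.card_C])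
  exact ⟨(MulEquiv.ofBijective _ hfL).symm.trans (MulEquiv.ofBijective _ hgb)⟩

end CfsgLib.Invol.JTwo
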